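import Groth.Agent.AlgSp.K648.Push
import Groth.Agent.Flat2B.WeakAssEtale
import Groth.Agent.Etbase.FFExact

/-!
# Affine etale charts: open subobjects, common refinements, etale invariance of weakly associated points

`IsCart M`: the module `M` is cartesian on affine objects (`M(E') = M(E) ⊗ Γ(E')` for `E' ⟶ E` affine); this holds for
quasi-coherent `M`.
-/

set_option autoImplicit false
set_option backward.isDefEq.respectTransparency false

universe u

open CategoryTheory CategoryTheory.Limits AlgebraicGeometry Opposite AlgSp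

namespace K648.Chart

open K648.Basic K648.Push Groth.Agent.Etbase.FFExact

variable {S : Scheme.{u}} {X : Sp S}

/-- an open subscheme of an object of the site, as an object of the site -/
noncomputable def opn (E : EtOver X) (V : E.obj.left.left.Opens) : EtOver X :=
  EtOver.mk ((yon S).map (Over.homMk V.ι rfl : Over.mk (V.ι ≫ E.obj.left.hom) ⟶ E.obj.left) ≫ E.obj.hom)
    ((repWith_isMultiplicative (S := S) @Etale).comp_mem _ _
      ((repWith_yon_map_iff _ _).2 (show Etale V.ι from inferInstance)) E.property)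

/-- the inclusion of an open subscheme -/
noncomputable def opnι (E : EtOver X) (V : E.obj.left.left.Opens) : opn E V ⟶ E :=
  EtOver.homMk (Over.homMk V.ι rfl) rfl

theorem opnι_left (E : EtOver X) (V : E.obj.left.left.Opens) : (opnι E V).hom.left.left = V.ι := rfl

theorem exists_affine_opn (E : EtOver X) (x : E.obj.left.left) :
    ∃ (W : EtOver X) (g : W ⟶ E) (w : W.obj.left.left),
      IsAffine W.obj.left.left ∧ g.hom.left.left w = x ∧ IsOpenImmersion g.hom.left.left := by
  obtain ⟨V, hV, hx, -⟩ := exists_isAffineOpen_mem_and_subset (U := ⊤) (x := x) trivial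
  exact ⟨opn E V, opnι E V, ⟨x, hx⟩, hV, rfl, inferInstanceAs (IsOpenImmersion V.ι)⟩

/-- every point of a product of two objects: common refinement of two charts through a point -/
theorem exists_prod_pt (E₁ E₂ : EtOver X) (u₁ : E₁.obj.left.left) (u₂ : E₂.obj.left.left)
    (h : Points.ofPt E₁.obj.hom u₁ = Points.ofPt E₂.obj.hom u₂) :
    ∃ w : (EtOver.prodObj E₁ E₂).obj.left.left, (EtOver.prodFst E₁ E₂).hom.left.left w = u₁ ∧
      (EtOver.prodSnd E₁ E₂).hom.left.left w = u₂ := by
  have sq : IsPullback ((yon S).map (E₂.property.1.fst' E₁.obj.hom)) ((yon S).map (E₂.property.1.snd E₁.obj.hom))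
      E₂.obj.hom E₁.obj.hom := by
    rw [Functor.relativelyRepresentable.map_fst']
    exact E₂.property.1.isPullback E₁.obj.hom
  obtain ⟨r, h1, h2⟩ := (K609.Points.ofPt_eq_ofPt_iff sq u₂ u₁).1 h.symm
  exact ⟨r, h2, h1⟩

theorem exists_refine (E₁ E₂ : EtOver X) (u₁ : E₁.obj.left.left) (u₂ : E₂.obj.left.left)
    (h : Points.ofPt E₁.obj.hom u₁ = Points.ofPt E₂.obj.hom u₂) :
    ∃ (W : EtOver X) (g₁ : W ⟶ E₁) (g₂ : W ⟶ E₂) (w : W.obj.left.left),
      IsAffine W.obj.left.left ∧ g₁.hom.left.left w = u₁ ∧ g₂.hom.left.left w = u₂ := by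
  obtain ⟨r, h1, h2⟩ := exists_prod_pt E₁ E₂ u₁ u₂ h
  obtain ⟨W, g, w, hW, hw, -⟩ := exists_affine_opn (EtOver.prodObj E₁ E₂) r
  exact ⟨W, g ≫ EtOver.prodFst E₁ E₂, g ≫ EtOver.prodSnd E₁ E₂, w, hW,
    (congrArg (EtOver.prodFst E₁ E₂).hom.left.left hw).trans h1,
    (congrArg (EtOver.prodSnd E₁ E₂).hom.left.left hw).trans h2⟩

theorem ofPt_hom_left {E E' : EtOver X} (g : E' ⟶ E) (w : E'.obj.left.left) :
    Points.ofPt E'.obj.hom w = Points.ofPt E.obj.hom (g.hom.left.left w) := by
  rw [← EtOver.w g, K609.Points.ofPt_yon_map_comp]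

/-- on an algebraic space every point lies on an affine chart -/
theorem exists_affine_chart (hX : IsAlgSpace X) (x : Points X) :
    ∃ (E : EtOver X) (_ : IsAffine E.obj.left.left) (u : E.obj.left.left), Points.ofPt E.obj.hom u = x := by
  obtain ⟨U, p, hp, hs⟩ := hX.atlas
  obtain ⟨u, hu⟩ := K609.Points.surjective_ofPt_of_repWith_surjective hs x
  obtain ⟨W, g, w, hW, hw, -⟩ := exists_affine_opn (EtOver.mk p hp) u
  refine ⟨W, hW, w, ?_⟩
  rw [ofPt_hom_left g, hw]
  exact hu

/-- The ring map on functions of a morphism between affine objects is etale. -/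
theorem etale_resΓ {E E' : EtOver X} (g : E' ⟶ E) (hE : IsAffine E.obj.left.left)
    (hE' : IsAffine E'.obj.left.left) : (resΓ g).Etale := by
  have := EtOver.etale_left g
  exact HasRingHomProperty.appTop @Etale g.hom.left.left this

/-- `M` is cartesian on affine objects of the site. -/
def IsCart (M : ModEt X) : Prop :=
  ∀ ⦃E E' : EtOver X⦄ (g : E' ⟶ E), IsAffine E.obj.left.left → IsAffine E'.obj.left.left →
    IsBC (resΓ g) (res M g).toAddMonoidHom

theorem mem_weakAss_of_isBC {A B : Type*} [CommRing A] [CommRing B] (φ : A →+* B) (hφ : φ.Etale)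
    {N N' : Type*} [AddCommGroup N] [Module A N] [AddCommGroup N'] [Module B N'] {ψ : N →+ N'}
    (h : IsBC φ ψ) (q : Ideal B) [q.IsPrime] :
    q ∈ FlatCA.weakAss B N' ↔ q.comap φ ∈ FlatCA.weakAss A N := by
  algebraize [φ]
  letI : Module A N' := Module.compHom N' φ
  haveI : IsScalarTower A B N' := ⟨fun a b m => by
      change (φ a * b) • m = φ a • b • m
      rw [mul_smul]⟩
  obtain ⟨h1, h2⟩ := h
  have hp : (q.comap φ).IsPrime := Ideal.comap_isPrime _ _
  have hlo : q.LiesOver (q.comap φ) := ⟨rfl⟩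
  rw [← Groth.Agent.Flat2B.WeakAssEtale.mem_weakAss_baseChange_iff_of_etale N (q.comap φ) q]
  rw [Groth.Agent.Flat2B.WeakAss.weakAss_congr (IsBaseChange.equiv h2)]

/-- etale invariance: for a cartesian module, weak associatedness on a chart and on an etale chart over it agree -/
theorem isWeakAssOn_iff_of_hom {M : ModEt X} (hM : IsCart M) {E E' : EtOver X} (g : E' ⟶ E)
    [hE : IsAffine E.obj.left.left] [hE' : IsAffine E'.obj.left.left] (w : E'.obj.left.left) :
    IsWeakAssOn M E' w ↔ IsWeakAssOn M E (g.hom.left.left w) := by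
  rw [isWeakAssOn_iff, isWeakAssOn_iff, mem_weakAss_of_isBC (resΓ g) (etale_resΓ g hE hE') (hM g hE hE'),
    comap_primeAtPt]

/-- some chart iff every chart -/
theorem mem_weakAssEt_iff (hX : IsAlgSpace X) {M : ModEt X} (hM : IsCart M) (x : Points X) :
    x ∈ WeakAssEt M ↔ ∀ (E : EtOver X) [IsAffine E.obj.left.left] (u : E.obj.left.left),
      Points.ofPt E.obj.hom u = x → IsWeakAssOn M E u := by
  constructor
  · rintro ⟨E, hE, u, rfl, h⟩ E' hE' u' hu'
    obtain ⟨W, g, g', w, hW, rfl, rfl⟩ := exists_refine E E' u u' hu'.symm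
    rw [← isWeakAssOn_iff_of_hom hM] at h ⊢
    exact h
  · intro h
    obtain ⟨E, hE, u, hu⟩ := exists_affine_chart hX x
    exact ⟨E, hE, u, hu, h E u hu⟩

end K648.Chart
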