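import Groth.Agent.AlgSp.K648.Chart
import Groth.Agent.S0116

/-!
# Locally Noetherian spaces: every etale chart is locally Noetherian
-/

set_option autoImplicit false
set_option backward.isDefEq.respectTransparency false

universe u

open CategoryTheory CategoryTheory.Limits AlgebraicGeometry Opposite AlgSp

namespace K648.Noeth

open K648.Basic K648.Push K648.Chart

variable {S : Scheme.{u}} {X : Sp S}

theorem isLocallyNoetherian_of_chart (hX : IsLocNoethSp X) (E : EtOver X) :
    IsLocallyNoetherian E.obj.left.left := by
  obtain ⟨U, p, hp, hs, hU⟩ := hX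
  let P := EtOver.prodObj (EtOver.mk p hp) E
  let q : P ⟶ EtOver.mk p hp := EtOver.prodFst (EtOver.mk p hp) E
  let r : P ⟶ E := EtOver.prodSnd (EtOver.mk p hp) E
  have h1 : Etale q.hom.left.left := EtOver.etale_left q
  have h2 : Etale r.hom.left.left := EtOver.etale_left r
  have h3 : IsLocallyNoetherian P.obj.left.left := by
    have : IsLocallyNoetherian (EtOver.mk p hp).obj.left.left := hU
    exact LocallyOfFiniteType.isLocallyNoetherian q.hom.left.left
  have h4 : Surjective r.hom.left.left := by
    refine ⟨fun e => ?_⟩
    obtain ⟨u, hu⟩ := K609.Points.surjective_ofPt_of_repWith_surjective hs (Points.ofPt E.obj.hom e)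
    obtain ⟨w, -, hw⟩ := exists_prod_pt (EtOver.mk p hp) E u e hu
    exact ⟨w, hw⟩
  exact Groth.Agent.S0116.result r.hom.left.left

theorem isNoetherianRing_of_chart (hX : IsLocNoethSp X) (E : EtOver X) [IsAffine E.obj.left.left] :
    IsNoetherianRing (Γe E) := by
  have := isLocallyNoetherian_of_chart hX E
  exact IsLocallyNoetherian.component_noetherian ⟨⊤, isAffineOpen_top _⟩

end K648.Noeth
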