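import Groth.Agent.AlgSp.K648.Noeth
import Mathlib.RingTheory.Ideal.AssociatedPrime.Finiteness

/-!
# Weakly associated points of direct images along finite, resp. affine locally Noetherian, morphisms
-/

set_option autoImplicit false
set_option backward.isDefEq.respectTransparency false

universe u

open CategoryTheory CategoryTheory.Limits AlgebraicGeometry Opposite AlgSp

namespace K648.Push2

open K648.Basic K648.Push K648.Chart K648.Noeth Groth.Agent.Etbase.FFExact

variable {S : Scheme.{u}} {X Y : Sp S} {f : X ⟶ Y}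

theorem exists_annihilator_eq_of_mem_weakAss {R : Type*} [CommRing R] [IsNoetherianRing R] {M : Type*}
    [AddCommGroup M] [Module R M] {p : Ideal R} (h : p ∈ FlatCA.weakAss R M) :
    ∃ m : M, p = (Submodule.span R {m}).annihilator := by
  obtain ⟨m, hm⟩ := h
  have e : ∀ m : M, (Submodule.span R {m}).annihilator = Submodule.colon (⊥ : Submodule R M) {m} := fun m => by
    ext a
    rw [Submodule.mem_annihilator_span_singleton, Submodule.mem_colon_singleton, Submodule.mem_bot]
  rw [e] at hm
  obtain ⟨m', hm'⟩ := Submodule.exists_eq_colon_of_mem_minimalPrimes (N := ⊥) (x := m) hm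
  exact ⟨m', by rw [hm', e]⟩

theorem mem_weakAss_of_eq_annihilator {R : Type*} [CommRing R] {M : Type*}
    [AddCommGroup M] [Module R M] {p : Ideal R} [hp : p.IsPrime] {m : M}
    (h : p = (Submodule.span R {m}).annihilator) : p ∈ FlatCA.weakAss R M := by
  refine ⟨m, ⟨⟨hp, h.ge⟩, fun q hq _ => h.le.trans hq.2⟩⟩

theorem weakAss_subset_associatedPrimes {R : Type*} [CommRing R] [IsNoetherianRing R] {M : Type*}
    [AddCommGroup M] [Module R M] : FlatCA.weakAss R M ⊆ associatedPrimes R M := by
  intro p hp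
  have := Groth.Agent.Flat2B.WeakAss.isPrime_of_mem_weakAss hp
  obtain ⟨m, hm⟩ := exists_annihilator_eq_of_mem_weakAss hp
  rw [AssociatedPrimes.mem_iff, isAssociatedPrime_iff]
  refine ⟨this, m, ?_⟩
  rw [hm]
  ext a
  rw [Submodule.mem_annihilator_span_singleton, Submodule.mem_colon_singleton, Submodule.mem_bot]

theorem comap_mem_weakAss_of_isNoetherianRing {A B : Type*} [CommRing A] [CommRing B] [IsNoetherianRing B]
    (φ : A →+* B) {N N' : Type*} [AddCommGroup N] [Module B N] [AddCommGroup N'] [Module A N'] (e : N' ≃+ N)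
    (he : ∀ (a : A) (n : N'), e (a • n) = φ a • e n) {q : Ideal B} (hq : q ∈ FlatCA.weakAss B N) :
    q.comap φ ∈ FlatCA.weakAss A N' := by
  have := Groth.Agent.Flat2B.WeakAss.isPrime_of_mem_weakAss hq
  have : (q.comap φ).IsPrime := Ideal.comap_isPrime _ _
  obtain ⟨m, hm⟩ := exists_annihilator_eq_of_mem_weakAss hq
  refine mem_weakAss_of_eq_annihilator (m := e.symm m) ?_
  ext a
  rw [Submodule.mem_annihilator_span_singleton, Ideal.mem_comap, hm, Submodule.mem_annihilator_span_singleton,
    ← EmbeddingLike.map_eq_zero_iff (f := e), he, AddEquiv.apply_symm_apply]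

theorem comap_mem_weakAss_of_finite {A B : Type*} [CommRing A] [CommRing B]
    (φ : A →+* B) (hφ : φ.Finite) {N N' : Type*} [AddCommGroup N] [Module B N] [AddCommGroup N'] [Module A N']
    (e : N' ≃+ N)
    (he : ∀ (a : A) (n : N'), e (a • n) = φ a • e n) {q : Ideal B} (hq : q ∈ FlatCA.weakAss B N) :
    q.comap φ ∈ FlatCA.weakAss A N' := by
  have hqp := Groth.Agent.Flat2B.WeakAss.isPrime_of_mem_weakAss hq
  have : (q.comap φ).IsPrime := Ideal.comap_isPrime _ _
  algebraize [φ]
  let _ : Module A N := Module.compHom N φ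
  have : IsScalarTower A B N := ⟨fun a b m => by
      change (φ a * b) • m = φ a • b • m
      rw [mul_smul]⟩
  have : q.LiesOver (q.comap φ) := ⟨rfl⟩
  have h := Groth.Agent.Flat2B.WeakAssFinite.comap_mem_weakAss_of_finite (A := A) (q.comap φ) q hq
  let e' : N' ≃ₗ[A] N := { e with map_smul' := he }
  rwa [Groth.Agent.Flat2B.WeakAss.weakAss_congr e']

theorem map_mem_weakAssEt_push (hX : IsAlgSpace X) (hY : IsAlgSpace Y) (hf : Representable f)
    (haff : IsAffineMor f) {M : ModEt X} (hM : IsCart M)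
    (H : ∀ (E : EtOver Y) (_ : IsAffine E.obj.left.left) (_ : IsAffine ((EtOver.bc hf).obj E).obj.left.left)
      (q : Ideal (Γe ((EtOver.bc hf).obj E))), q ∈ FlatCA.weakAss _ (Sec M ((EtOver.bc hf).obj E)) →
        q.comap (bcΓ hf E) ∈ FlatCA.weakAss _ (Sec ((pushModEt hf).obj M) E)) :
    Points.map f '' WeakAssEt M ⊆ WeakAssEt ((pushModEt hf).obj M) := by
  rintro _ ⟨x, hx, rfl⟩
  obtain ⟨E, hE, u, hu⟩ := exists_affine_chart hY (Points.map f x)
  have hbE := isAffine_bc hf haff E hE
  rw [mem_weakAssEt_iff hX hM] at hx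
  rw [Points.ofPt_eq_map_ofScheme] at hu
  obtain ⟨p, hp1, hp2⟩ := K609.Points.exists_of_isPullback (EtOver.isPullback_bcObj hf E) x
    (Points.ofScheme E.obj.left u) hu.symm
  obtain ⟨w, rfl⟩ := K609.Points.ofScheme_surjective _ p
  rw [K609.Points.map_yon_map_ofScheme] at hp2
  have hw : (EtOver.bcπ hf E).left w = u := K609.Points.ofScheme_injective _ hp2
  have h1 := hx ((EtOver.bc hf).obj E) w (by rw [Points.ofPt_eq_map_ofScheme]; exact hp1)
  rw [isWeakAssOn_iff] at h1
  have h2 := H E hE hbE _ h1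
  refine ⟨E, hE, u, (by rw [Points.ofPt_eq_map_ofScheme]; exact hu), ?_⟩
  rw [isWeakAssOn_iff, ← hw]
  have h3 : (primeAtPt ((EtOver.bc hf).obj E).obj.left.left w).comap (bcΓ hf E) =
    primeAtPt E.obj.left.left ((EtOver.bcπ hf E).left w) := comap_primeAtPt _ _
  rw [← h3]
  exact h2

theorem weakAssEt_push_of_finite (hX : IsAlgSpace X) (hY : IsAlgSpace Y) (hf : Representable f)
    (hfin : IsFiniteMor f) {M : ModEt X} (hM : IsCart M) :
    WeakAssEt ((pushModEt hf).obj M) = Points.map f '' WeakAssEt M := by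
  have haff := isAffineMor_of_isFiniteMor hfin
  refine (weakAssEt_push_subset hf haff M).antisymm (map_mem_weakAssEt_push hX hY hf haff hM ?_)
  intro E hE hbE q hq
  refine comap_mem_weakAss_of_finite (bcΓ hf E) ?_ (pushSec hf M E) (pushSec_smul hf M E) hq
  have := isFinite_bcπ hf hfin E hE
  exact (IsFinite.finite_app (f := (EtOver.bcπ hf E).left) ⊤ (isAffineOpen_top _))

theorem weakAssEt_push_of_locNoeth (hX : IsAlgSpace X) (hY : IsAlgSpace Y) (hf : Representable f)
    (haff : IsAffineMor f) (hN : IsLocNoethSp X) {M : ModEt X} (hM : IsCart M) :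
    WeakAssEt ((pushModEt hf).obj M) = Points.map f '' WeakAssEt M := by
  refine (weakAssEt_push_subset hf haff M).antisymm (map_mem_weakAssEt_push hX hY hf haff hM ?_)
  intro E hE hbE q hq
  have := isNoetherianRing_of_chart hN ((EtOver.bc hf).obj E)
  exact comap_mem_weakAss_of_isNoetherianRing (bcΓ hf E) (pushSec hf M E) (pushSec_smul hf M E) hq

end K648.Push2
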