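import Groth.Agent.AlgSp.K648.Basic

/-!
# Left exactness of sections, and weakly associated points in short exact sequences
-/

set_option autoImplicit false
set_option backward.isDefEq.respectTransparency false

universe u

open CategoryTheory CategoryTheory.Limits AlgebraicGeometry Opposite AlgSp

namespace K648.Exact

open K648.Basic

variable {S : Scheme.{u}} {X : Sp S}

theorem secMap_injective_of_mono {M N : ModEt X} (φ : M ⟶ N) [Mono φ] (E : EtOver X) :
    Function.Injective (secMap φ E) := by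
  have h : Mono ((SheafOfModules.evaluation.{u + 1} (OEtRing X) (op E)).map φ) := inferInstance
  have h' := (ModuleCat.mono_iff_injective
    ((SheafOfModules.evaluation.{u + 1} (OEtRing X) (op E)).map φ)).1 h
  exact h'

instance evaluation_preservesZero (E : (EtOver X)ᵒᵖ) :
    (SheafOfModules.evaluation.{u + 1} (OEtRing X) E).PreservesZeroMorphisms := ⟨fun _ _ => rfl⟩

theorem exact_secMap {C : ShortComplex (ModEt X)} (hC : C.Exact) [Mono C.f] (E : EtOver X) :
    Function.Exact (secMap C.f E) (secMap C.g E) := by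
  have h := hC.map_of_mono_of_preservesKernel
    (SheafOfModules.evaluation.{u + 1} (OEtRing X) (op E)) inferInstance inferInstance
  have h' := (ShortComplex.ShortExact.moduleCat_exact_iff_function_exact _).1 h
  exact h'

/-- weakly associated primes in a left exact sequence -/
theorem weakAss_subset_of_exact {A : Type*} [CommRing A] {M₁ M₂ M₃ : Type*} [AddCommGroup M₁] [AddCommGroup M₂]
    [AddCommGroup M₃] [Module A M₁] [Module A M₂] [Module A M₃] (f : M₁ →ₗ[A] M₂) (g : M₂ →ₗ[A] M₃)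
    (hf : Function.Injective f) (h : Function.Exact f g) {p : Ideal A}
    (hp : p ∈ FlatCA.weakAss A M₂) : p ∈ FlatCA.weakAss A M₁ ∨ p ∈ FlatCA.weakAss A M₃ := by
  have hpr := Groth.Agent.Flat2B.WeakAss.isPrime_of_mem_weakAss hp
  rw [Groth.Agent.Flat2B.WeakAss.mem_weakAss_iff] at hp ⊢
  rw [Groth.Agent.Flat2B.WeakAss.mem_weakAss_iff]
  obtain ⟨m, h1, h2⟩ := hp
  by_cases hc : ∀ a : A, a • g m = 0 → a ∈ p
  · refine Or.inr ⟨g m, hc, fun x hx => ?_⟩
    obtain ⟨n, a, ha, e⟩ := h2 x hx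
    exact ⟨n, a, ha, by rw [← map_smul, e, map_zero]⟩
  · push Not at hc
    obtain ⟨a, ha, hap⟩ := hc
    rw [← map_smul] at ha
    obtain ⟨m₁, hm₁⟩ := (h (a • m)).1 ha
    refine Or.inl ⟨m₁, fun b hb => ?_, fun x hx => ?_⟩
    · have : (b * a) • m = 0 := by rw [mul_smul, ← hm₁, ← map_smul, hb, map_zero]
      exact (hpr.mem_or_mem (h1 _ this)).resolve_right hap
    · obtain ⟨n, c, hc, e⟩ := h2 x hx
      refine ⟨n, c, hc, hf ?_⟩
      rw [map_smul, hm₁, smul_comm, e, smul_zero, map_zero]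

theorem weakAssEt_subset_of_mono {M N : ModEt X} (φ : M ⟶ N) [Mono φ] : WeakAssEt M ⊆ WeakAssEt N := by
  rintro x ⟨E, hE, u, rfl, h⟩
  refine ⟨E, hE, u, rfl, ?_⟩
  rw [isWeakAssOn_iff] at h ⊢
  exact Groth.Agent.Flat2B.WeakAss.mem_weakAss_of_injective (secMap φ E) (secMap_injective_of_mono φ E) h

theorem weakAssEt_subset_union {C : ShortComplex (ModEt X)} (hC : C.Exact) [Mono C.f] :
    WeakAssEt C.X₂ ⊆ WeakAssEt C.X₁ ∪ WeakAssEt C.X₃ := by
  rintro x ⟨E, hE, u, rfl, h⟩
  rw [isWeakAssOn_iff] at h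
  rcases weakAss_subset_of_exact (secMap C.f E) (secMap C.g E) (secMap_injective_of_mono C.f E)
    (exact_secMap hC E) h with h | h
  · exact Or.inl ⟨E, hE, u, rfl, (isWeakAssOn_iff _ _ _).2 h⟩
  · exact Or.inr ⟨E, hE, u, rfl, (isWeakAssOn_iff _ _ _).2 h⟩

end K648.Exact
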