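import Groth.Prelude.Def_AlgSpModX
import Groth.Agent.Flat2B.WeakAss

/-!
# Sections of modules on the small etale site as modules over the ring of functions; weakly associated points

`Sec M E` is the type of sections of `M : ModEt X` over the object `E` of the small etale site, as a module over
`Γ(E.obj.left.left, ⊤)` (through `AlgSp.upΓ`).  `IsWeakAssOn M E u` says that the prime of `u` is a weakly
associated prime (`FlatCA.weakAss`) of the module `Sec M E`.
-/

set_option autoImplicit false
set_option backward.isDefEq.respectTransparency false

universe u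

open CategoryTheory CategoryTheory.Limits AlgebraicGeometry Opposite AlgSp

namespace K648.Basic

variable {S : Scheme.{u}} {X : Sp S}

/-- The ring of functions on (the scheme of) an object of the small etale site. -/
abbrev Γe (E : EtOver X) : Type u := Γ(E.obj.left.left, ⊤)

/-- Sections of a module over an object of the small etale site. -/
def Sec (M : ModEt X) (E : EtOver X) : Type (u + 1) := sectModEt M E

noncomputable instance (M : ModEt X) (E : EtOver X) : AddCommGroup (Sec M E) :=
  inferInstanceAs (AddCommGroup (sectModEt M E))

noncomputable instance secModule (M : ModEt X) (E : EtOver X) : Module (Γe E) (Sec M E) :=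
  letI : Module ((OEtRing X).obj.obj (op E)) (Sec M E) :=
    inferInstanceAs (Module ((OEtRing X).obj.obj (op E)) (sectModEt M E))
  Module.compHom (Sec M E) (upΓ E)

theorem smul_def {M : ModEt X} {E : EtOver X} (a : Γe E) (s : Sec M E) :
    a • s = (show Sec M E from (upΓ E a) • (show sectModEt M E from s)) := rfl

theorem annSect_eq {M : ModEt X} {E : EtOver X} (s : Sec M E) :
    annSect (M := M) (E := E) s = (Submodule.span (Γe E) {s}).annihilator := by
  ext a
  rw [Submodule.mem_annihilator_span_singleton]
  exact mem_annSect_iff _ _

/-- `u` is weakly associated to `M` on the affine chart `E` when its prime is weakly associated to `Sec M E`. -/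
theorem isWeakAssOn_iff (M : ModEt X) (E : EtOver X) [IsAffine E.obj.left.left] (u : E.obj.left.left) :
    IsWeakAssOn M E u ↔ primeAtPt E.obj.left.left u ∈ FlatCA.weakAss (Γe E) (Sec M E) := by
  unfold IsWeakAssOn FlatCA.weakAss
  constructor
  · rintro ⟨s, hs⟩
    refine ⟨(s : Sec M E), ?_⟩
    rwa [← annSect_eq]
  · rintro ⟨s, hs⟩
    refine ⟨s, ?_⟩
    rwa [← annSect_eq] at hs

/-- The ring map on functions induced by a morphism of the site. -/
noncomputable abbrev resΓ {E E' : EtOver X} (g : E' ⟶ E) : Γe E →+* Γe E' := g.hom.left.left.appTop.hom

/-- Restriction of sections along a morphism of the site. -/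
noncomputable def res (M : ModEt X) {E E' : EtOver X} (g : E' ⟶ E) : Sec M E →ₛₗ[resΓ g] Sec M E' where
  toFun s := (M.val.map g.op).hom (show sectModEt M E from s)
  map_add' a b := map_add (M.val.map g.op).hom _ _
  map_smul' a s := PresheafOfModules.map_smul M.val g.op (upΓ E a) (show sectModEt M E from s)

theorem res_id (M : ModEt X) (E : EtOver X) (s : Sec M E) : res M (𝟙 E) s = s :=
  ConcreteCategory.congr_hom (M.val.map_id (op E)) (show sectModEt M E from s)

theorem res_comp (M : ModEt X) {E E' E'' : EtOver X} (g : E' ⟶ E) (g' : E'' ⟶ E') (s : Sec M E) :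
    res M (g' ≫ g) s = res M g' (res M g s) :=
  ConcreteCategory.congr_hom (M.val.map_comp g.op g'.op) (show sectModEt M E from s)

/-- The map on sections given by a morphism of modules. -/
noncomputable def secMap {M N : ModEt X} (φ : M ⟶ N) (E : EtOver X) : Sec M E →ₗ[Γe E] Sec N E where
  toFun s := (φ.val.app (op E)).hom (show sectModEt M E from s)
  map_add' a b := map_add (φ.val.app (op E)).hom _ _
  map_smul' a s := (φ.val.app (op E)).hom.map_smul (upΓ E a) (show sectModEt M E from s)

theorem secMap_res {M N : ModEt X} (φ : M ⟶ N) {E E' : EtOver X} (g : E' ⟶ E) (s : Sec M E) :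
    secMap φ E' (res M g s) = res N g (secMap φ E s) :=
  PresheafOfModules.naturality_apply φ.val g.op (show sectModEt M E from s)

end K648.Basic
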