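import Groth.Agent.AlgSp.K648.Chart
import Groth.Agent.AlgSp.K647.Idl
import Groth.Agent.Divis.BlowUpFormal

/-!
# Closed subspaces cut out by ideals and their ideals on charts; products of ideals and effective Cartier divisors
-/

set_option autoImplicit false
set_option backward.isDefEq.respectTransparency false

universe u

open CategoryTheory CategoryTheory.Limits AlgebraicGeometry Opposite AlgSp

namespace K648.Cartier

open K648.Chart K647.Idl Groth.Agent.Divis.EffCartier

variable {S : Scheme.{u}} {X : Sp S}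

theorem ideal_idl {Z : Sp S} {i : Z ⟶ X} (hi : RepWith @IsClosedImmersion i) (E : EtOver X)
    (hE : IsAffine E.obj.left.left) :
    (idl hi E.obj.hom).ideal ⟨⊤, isAffineOpen_top _⟩ = (idealOfRep hi.1).ideal E hE := by
  have : IsClosedImmersion (hi.1.snd E.obj.hom).left := closed hi (hi.1.isPullback E.obj.hom)
  exact Scheme.Hom.ker_apply _ _

/-- On an affine chart the ideal sheaf of the closed subspace cut out by a product is the product. -/
theorem idl_mul {Z Y D : Sp S} {iZ : Z ⟶ X} {iY : Y ⟶ X} {iD : D ⟶ X} {I J : IdealEt X}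
    (hZ : IsCutOutBy I iZ) (hY : IsCutOutBy J iY) (hD : IsCutOutBy (I * J) iD)
    (E : EtOver X) (hE : IsAffine E.obj.left.left) :
    idl hD.1 E.obj.hom = idl hZ.1 E.obj.hom * idl hY.1 E.obj.hom := by
  apply Scheme.IdealSheafData.ext_of_isAffine
  rw [Scheme.IdealSheafData.ideal_mul, Pi.mul_apply, ideal_idl hD.1 E hE, ideal_idl hZ.1 E hE,
    ideal_idl hY.1 E hE, hD.2, hZ.2, hY.2]
  rfl

/-- effective Cartier if it is so on all affine charts -/
theorem isEffCartierSub_of_affine (hX : IsAlgSpace X) {Z : Sp S} {i : Z ⟶ X} (hi : RepWith @IsClosedImmersion i)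
    (h : ∀ E : EtOver X, IsAffine E.obj.left.left → BlowUp.IsEffCartierIdeal (idl hi E.obj.hom)) :
    IsEffCartierSub i := by
  obtain ⟨V, φ, h1, h2⟩ := hX.atlas
  refine isEffCartierSub_iff.2 ⟨hi, V, φ, h1, h2, isEff_of_forall_comap fun x => ?_⟩
  obtain ⟨U, hU, hx, -⟩ := exists_isAffineOpen_mem_and_subset (U := ⊤) (x := x) trivial
  refine ⟨U, U.ι, inferInstance, ⟨⟨x, hx⟩, rfl⟩, ?_⟩
  have := h (opn (EtOver.mk φ h1) U) hU
  have e : idl hi (opn (EtOver.mk φ h1) U).obj.hom = (idl hi φ).comap U.ι :=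
    idl_comp hi (Over.homMk U.ι rfl : Over.mk (U.ι ≫ V.hom) ⟶ V)
  rwa [e] at this

theorem isEffCartierSub_mul (hX : IsAlgSpace X) {Z Y D : Sp S} {iZ : Z ⟶ X} {iY : Y ⟶ X} {iD : D ⟶ X}
    {I J : IdealEt X} (hZ : IsCutOutBy I iZ) (hY : IsCutOutBy J iY) (hD : IsCutOutBy (I * J) iD)
    (eZ : IsEffCartierSub iZ) (eY : IsEffCartierSub iY) : IsEffCartierSub iD := by
  refine isEffCartierSub_of_affine hX hD.1 fun E hE => ?_
  rw [idl_mul hZ hY hD E hE]
  exact isEff_mul (isEff_idl eZ E.property) (isEff_idl eY E.property)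

theorem isEffCartierSub_of_mul (hX : IsAlgSpace X) {Z Y D : Sp S} {iZ : Z ⟶ X} {iY : Y ⟶ X} {iD : D ⟶ X}
    {I J : IdealEt X} (hZ : IsCutOutBy I iZ) (hY : IsCutOutBy J iY) (hD : IsCutOutBy (I * J) iD)
    (eD : IsEffCartierSub iD) : IsEffCartierSub iZ ∧ IsEffCartierSub iY := by
  have key : ∀ E : EtOver X, IsAffine E.obj.left.left →
      BlowUp.IsEffCartierIdeal (idl hZ.1 E.obj.hom) ∧ BlowUp.IsEffCartierIdeal (idl hY.1 E.obj.hom) := by
    intro E hE
    rw [← Groth.Agent.Divis.BlowUpFormal.isEff_mul_iff, ← idl_mul hZ hY hD E hE]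
    exact isEff_idl eD E.property
  exact ⟨isEffCartierSub_of_affine hX hZ.1 fun E hE => (key E hE).1,
    isEffCartierSub_of_affine hX hY.1 fun E hE => (key E hE).2⟩

end K648.Cartier
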