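import Groth.Agent.S2007
import Groth.Agent.Etalg.FormalGlue
import Mathlib.RingTheory.IsTensorProduct
import Mathlib.RingTheory.Finiteness.Ideal

/-!
# Formal glueing, ring level

`R → C` flat, `I ⊂ R` finitely generated, `R/I → C/IC` bijective.
-/

set_option autoImplicit false
universe u

open TensorProduct

namespace K648.FG

/-- If a power of every element of a finitely generated ideal moves `m` into `P`, so does a power of the ideal. -/
theorem exists_pow_smul_mem {R M : Type*} [CommRing R] [AddCommGroup M] [Module R M] {I : Ideal R}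
    (hI : I.FG) (P : Submodule R M) (m : M) (h : ∀ f ∈ I, ∃ n : ℕ, f ^ n • m ∈ P) :
    ∃ n : ℕ, ∀ a ∈ I ^ n, a • m ∈ P := by
  let J : Ideal R := P.comap (LinearMap.toSpanSingleton R M m)
  have hJ : ∀ a, a ∈ J ↔ a • m ∈ P := fun a => by
    simp only [J, Submodule.mem_comap, LinearMap.toSpanSingleton_apply]
  have h1 : I ≤ J.radical := by
    intro f hf
    obtain ⟨n, hn⟩ := h f hf
    exact ⟨n, (hJ _).2 hn⟩
  obtain ⟨n, hn⟩ := Ideal.exists_pow_le_of_le_radical_of_fg h1 hI
  exact ⟨n, fun a ha => (hJ a).1 (hn ha)⟩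

section

variable {R C : Type u} [CommRing R] [CommRing C] [Algebra R C] [Module.Flat R C] {I : Ideal R}

/-- The square of a linear map with torsion kernel and cokernel and its base change is cartesian. -/
theorem existsUnique_of_torsion
    (hq : Function.Bijective (Ideal.quotientMap (I.map (algebraMap R C)) (algebraMap R C) Ideal.le_comap_map))
    {M N : Type u} [AddCommGroup M] [Module R M] [AddCommGroup N] [Module R N] (φ : M →ₗ[R] N)
    (hk : ∀ m, φ m = 0 → ∃ n : ℕ, ∀ a ∈ I ^ n, a • m = 0)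
    (hc : ∀ x : N, ∃ n : ℕ, ∀ a ∈ I ^ n, a • x ∈ LinearMap.range φ) (x : N) (y : C ⊗[R] M)
    (h : (1 : C) ⊗ₜ[R] x = LinearMap.lTensor C φ y) :
    ∃! m : M, φ m = x ∧ (1 : C) ⊗ₜ[R] m = y := by
  -- existence of a lift of `x`
  have hQ : ∀ t : N ⧸ LinearMap.range φ, ∃ n : ℕ, ∀ a ∈ I ^ n, a • t = 0 := by
    intro t
    obtain ⟨t, rfl⟩ := Submodule.mkQ_surjective _ t
    obtain ⟨n, hn⟩ := hc t
    refine ⟨n, fun a ha => ?_⟩
    rw [← map_smul, Submodule.mkQ_apply, Submodule.Quotient.mk_eq_zero]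
    exact hn a ha
  have hK : ∀ t : LinearMap.ker φ, ∃ n : ℕ, ∀ a ∈ I ^ n, a • t = 0 := by
    intro t
    obtain ⟨n, hn⟩ := hk t t.2
    exact ⟨n, fun a ha => Subtype.ext (hn a ha)⟩
  have hQb := Groth.Agent.Etalg.FormalGlue.mk_bijective_of_torsion hq hQ
  have hKb := Groth.Agent.Etalg.FormalGlue.mk_bijective_of_torsion hq hK
  have h1 : (LinearMap.range φ).mkQ x = 0 := by
    apply hQb.1
    have h2 := congrArg (LinearMap.lTensor C (LinearMap.range φ).mkQ) h
    rw [LinearMap.lTensor_tmul, ← LinearMap.comp_apply, ← LinearMap.lTensor_comp] at h2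
    have h3 : (LinearMap.range φ).mkQ ∘ₗ φ = 0 := LinearMap.range_mkQ_comp φ
    rw [h3, LinearMap.lTensor_zero, LinearMap.zero_apply] at h2
    simpa using h2
  rw [Submodule.mkQ_apply, Submodule.Quotient.mk_eq_zero] at h1
  obtain ⟨m₀, rfl⟩ := h1
  have hex : Function.Exact (LinearMap.ker φ).subtype φ := LinearMap.exact_subtype_ker_map φ
  have hex' := Module.Flat.lTensor_exact C hex
  have h2 : LinearMap.lTensor C φ (y - (1 : C) ⊗ₜ[R] m₀) = 0 := by
    rw [map_sub, LinearMap.lTensor_tmul, ← h, sub_self]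
  obtain ⟨z, hz⟩ := (hex' _).1 h2
  obtain ⟨k, rfl⟩ := hKb.2 z
  rw [TensorProduct.mk_apply, LinearMap.lTensor_tmul, Submodule.subtype_apply] at hz
  refine ⟨m₀ + k, ⟨by rw [map_add, k.2, add_zero], ?_⟩, ?_⟩
  · rw [TensorProduct.tmul_add, hz]; abel
  · rintro m' ⟨h3, h4⟩
    have h5 : φ (m' - (m₀ + k)) = 0 := by rw [map_sub, h3, map_add, k.2, add_zero, sub_self]
    have h6 : (1 : C) ⊗ₜ[R] (m' - (m₀ + (k : M))) = 0 := by
      rw [TensorProduct.tmul_sub, h4, TensorProduct.tmul_add, hz]; abel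
    have hinj : Function.Injective (LinearMap.lTensor C (LinearMap.ker φ).subtype) :=
      Module.Flat.lTensor_preserves_injective_linearMap _ (LinearMap.ker φ).injective_subtype
    have h7 : (⟨m' - (m₀ + k), h5⟩ : LinearMap.ker φ) = 0 := by
      apply hKb.1
      apply hinj
      rw [TensorProduct.mk_apply, LinearMap.lTensor_tmul, Submodule.subtype_apply, map_zero, map_zero]
      exact h6
    have h8 := congrArg Subtype.val h7
    exact sub_eq_zero.1 h8

/-- `Spec R` is the pushout of `U` and `Spec C`, on global sections. -/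
theorem existsUnique_glue
    (hq : Function.Bijective (Ideal.quotientMap (I.map (algebraMap R C)) (algebraMap R C) Ideal.le_comap_map))
    (N L : Type u) [CommRing N] [CommRing L] [Algebra R N] [Algebra R L] [Algebra C L] [Algebra N L]
    [IsScalarTower R C L] [IsScalarTower R N L] [Algebra.IsPushout R C N L]
    (hk : ∀ r : R, algebraMap R N r = 0 → ∃ n : ℕ, ∀ a ∈ I ^ n, a • r = 0)
    (hc : ∀ x : N, ∃ n : ℕ, ∀ a ∈ I ^ n, a • x ∈ LinearMap.range (Algebra.linearMap R N)) (x : N) (c : C)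
    (h : algebraMap N L x = algebraMap C L c) :
    ∃! r : R, algebraMap R N r = x ∧ algebraMap R C r = c := by
  obtain ⟨r, ⟨h1, h2⟩, h3⟩ := existsUnique_of_torsion hq (Algebra.linearMap R N) hk hc x
    ((1 : C) ⊗ₜ[R] (0 : R) + c ⊗ₜ[R] (1 : R)) (by
      rw [TensorProduct.tmul_zero, zero_add, LinearMap.lTensor_tmul, Algebra.linearMap_apply, map_one]
      apply (Algebra.IsPushout.equiv R C N L).injective
      rw [Algebra.IsPushout.equiv_tmul, Algebra.IsPushout.equiv_tmul]
      simp [h])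
  rw [TensorProduct.tmul_zero, zero_add] at h2
  have key : ∀ r : R, algebraMap R C r = c ↔ (1 : C) ⊗ₜ[R] r = c ⊗ₜ[R] (1 : R) := by
    intro r
    rw [← (TensorProduct.rid R C).injective.eq_iff, TensorProduct.rid_tmul, TensorProduct.rid_tmul,
      Algebra.smul_def, one_smul, mul_one]
  refine ⟨r, ⟨h1, (key r).2 h2⟩, ?_⟩
  rintro r' ⟨h4, h5⟩
  exact h3 r' ⟨h4, by rw [TensorProduct.tmul_zero, zero_add]; exact (key r').1 h5⟩

end

section

variable {R C : Type u} [CommRing R] [CommRing C] [Algebra R C] [Module.Flat R C] {I : Ideal R}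
  {N L C' : Type u} [CommRing N] [CommRing L] [CommRing C'] [Algebra R N] [Algebra R L] [Algebra C L] [Algebra N L]
  [IsScalarTower R C L] [IsScalarTower R N L] [Algebra R C'] [Algebra C C'] [IsScalarTower R C C']

/-- The glued algebra. -/
def glued (φ : C' →ₐ[C] L) : Subalgebra R (C' × N) where
  carrier := {v | φ v.1 = algebraMap N L v.2}
  mul_mem' {a b} ha hb := by
    simp only [Set.mem_setOf_eq, Prod.fst_mul, Prod.snd_mul, map_mul] at *
    rw [ha, hb]
  add_mem' {a b} ha hb := by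
    simp only [Set.mem_setOf_eq, Prod.fst_add, Prod.snd_add, map_add] at *
    rw [ha, hb]
  algebraMap_mem' r := by
    simp only [Set.mem_setOf_eq, Prod.algebraMap_apply]
    rw [← IsScalarTower.algebraMap_apply R N L, IsScalarTower.algebraMap_apply R C C', AlgHom.commutes,
      ← IsScalarTower.algebraMap_apply R C L]

theorem mem_glued {φ : C' →ₐ[C] L} {v : C' × N} : v ∈ glued (R := R) φ ↔ φ v.1 = algebraMap N L v.2 := Iff.rfl

/-- Base change of the glued algebra to `C`. -/
theorem bijective_liftBaseChange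
    (hq : Function.Bijective (Ideal.quotientMap (I.map (algebraMap R C)) (algebraMap R C) Ideal.le_comap_map))
    [Algebra.IsPushout R C N L] (φ : C' →ₐ[C] L)
    (hk : ∀ x, φ x = 0 → ∃ n : ℕ, ∀ a ∈ I ^ n, a • x = 0)
    (hc : ∀ y : L, ∃ n : ℕ, ∀ a ∈ I ^ n, a • y ∈ φ.range) :
    Function.Bijective (LinearMap.liftBaseChange C
      ((LinearMap.fst R C' N).comp (Subalgebra.toSubmodule (glued (R := R) (N := N) φ)).subtype)) := by
  let e := Algebra.IsPushout.equiv R C N L
  let ψ : C' →ₗ[C] C ⊗[R] N := e.symm.toLinearMap ∘ₗ φ.toLinearMap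
  have hψ : ∀ x, ψ x = e.symm (φ x) := fun x => rfl
  have hM : ∀ v : C' × N, v ∈ Subalgebra.toSubmodule (glued (R := R) (N := N) φ) ↔
      ψ v.1 = (1 : C) ⊗ₜ[R] v.2 := by
    intro v
    rw [Subalgebra.mem_toSubmodule, mem_glued, hψ, AlgEquiv.symm_apply_eq, Algebra.IsPushout.equiv_tmul]
    simp
  refine ⟨Groth.Agent.S2007.glue_inj hq.2 ψ ?_ _ hM, Groth.Agent.S2007.glue_surj hq.2 ψ ?_ _ hM⟩
  · intro x hx
    refine hk x ?_
    rw [hψ] at hx
    exact e.symm.injective (hx.trans (map_zero _).symm)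
  · intro y
    obtain ⟨n, hn⟩ := hc (e y)
    refine ⟨n, fun a ha => ?_⟩
    obtain ⟨x, hx⟩ := hn a ha
    refine ⟨x, ?_⟩
    rw [hψ]
    have h1 : φ x = a • e y := hx
    rw [h1, AlgEquiv.symm_apply_eq, ← algebraMap_smul C a y, map_smul, algebraMap_smul]

/-- The glued algebra, base changed to `C`, is `C'`. -/
theorem isPushout_glued
    (hq : Function.Bijective (Ideal.quotientMap (I.map (algebraMap R C)) (algebraMap R C) Ideal.le_comap_map))
    [Algebra.IsPushout R C N L] (φ : C' →ₐ[C] L)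
    (hk : ∀ x, φ x = 0 → ∃ n : ℕ, ∀ a ∈ I ^ n, a • x = 0)
    (hc : ∀ y : L, ∃ n : ℕ, ∀ a ∈ I ^ n, a • y ∈ φ.range) :
    IsBaseChange C ((LinearMap.fst R C' N).comp (Subalgebra.toSubmodule (glued (R := R) (N := N) φ)).subtype) := by
  have h := bijective_liftBaseChange (N := N) hq φ hk hc
  exact IsBaseChange.of_equiv (LinearEquiv.ofBijective _ h) fun x => by
    rw [LinearEquiv.ofBijective_apply, LinearMap.liftBaseChange_tmul, one_smul]

end

end K648.FG
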