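import Groth.Agent.AlgSp.K648.FGGlue

/-!
# Formal glueing of affine schemes: the map is flat only along `Z`
-/

set_option autoImplicit false
set_option backward.isDefEq.respectTransparency false
universe u

open CategoryTheory CategoryTheory.Limits AlgebraicGeometry Opposite

namespace K648.FG

/-- Cartesian squares over a cartesian square. -/
theorem isPullback_corner {C : Type*} [Category C] {W V Wh Vh A V' Wh' Vh' : C} {v : V ⟶ W} {c : Wh ⟶ W}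
    {q₁ : Vh ⟶ V} {q₂ : Vh ⟶ Wh} (Hq : IsPullback q₁ q₂ v c) {qA : A ⟶ W} {αV : V' ⟶ A} {pV : V' ⟶ V}
    (HV : IsPullback αV pV qA v) {αh : Wh' ⟶ A} {r : Wh' ⟶ Wh} (Hh : IsPullback αh r qA c) {t₁ : Vh' ⟶ V'}
    {t₂ : Vh' ⟶ Vh} (Ht : IsPullback t₁ t₂ pV q₁) {e : Vh' ⟶ Wh'} (h1 : e ≫ αh = t₁ ≫ αV) (h2 : e ≫ r = t₂ ≫ q₂) :
    IsPullback e t₂ r q₂ ∧ IsPullback t₁ e αV αh := by
  have h3 : IsPullback e t₂ r q₂ := by
    refine IsPullback.of_right (h₁₂ := αh) (h₂₂ := c) (v₁₃ := qA) ?_ h2 Hh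
    rw [h1, ← Hq.w]
    exact Ht.paste_horiz HV
  refine ⟨h3, ?_⟩
  refine IsPullback.of_right (h₁₂ := pV) (h₂₂ := qA) (v₁₃ := v) ?_ h1.symm HV.flip
  rw [Ht.w, Hh.w]
  exact h3.flip.paste_horiz Hq

/-- A morphism `w : W ⟶ T` of affine schemes which is an isomorphism over `i : Z ⟶ T` and flat along `Z`. -/
def GC {T W Z : Scheme.{u}} (w : W ⟶ T) (i : Z ⟶ T) : Prop :=
  ∃ (Wh : Scheme.{u}) (c : Wh ⟶ W) (s : Z ⟶ W), IsPullback s (𝟙 Z) w i ∧ FP (c ≫ w) i ∧ FP c s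

theorem GC.affT {T W Z : Scheme.{u}} {w : W ⟶ T} {i : Z ⟶ T} (h : GC w i) : IsAffine T := by
  obtain ⟨_, _, _, -, h, -⟩ := h
  exact h.affT

theorem GC.affW {T W Z : Scheme.{u}} {w : W ⟶ T} {i : Z ⟶ T} (h : GC w i) : IsAffine W := by
  obtain ⟨_, _, _, -, -, h⟩ := h
  exact h.affT

theorem GC.cl {T W Z : Scheme.{u}} {w : W ⟶ T} {i : Z ⟶ T} (h : GC w i) : IsClosedImmersion i := by
  obtain ⟨_, _, _, -, h, -⟩ := h
  exact h.cl

theorem GC.fp {T W Z : Scheme.{u}} {w : W ⟶ T} {i : Z ⟶ T} (h : GC w i) : LocallyOfFinitePresentation i := by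
  obtain ⟨_, _, _, -, h, -⟩ := h
  exact h.fp

theorem GC.of_isPullback {T W Z T' W' Z' : Scheme.{u}} {w : W ⟶ T} {i : Z ⟶ T} (h : GC w i) {t : T' ⟶ T}
    [IsAffine T'] {a : W' ⟶ W} {w' : W' ⟶ T'} {b : Z' ⟶ Z} {i' : Z' ⟶ T'} (hW : IsPullback a w' w t)
    (hZ : IsPullback b i' i t) : GC w' i' := by
  have hTa := h.affT
  have hWa := h.affW
  obtain ⟨Wh, c, s, hs, h1, h2⟩ := h
  have : IsAffine W' := IsAffine.of_isPullback hW
  obtain ⟨s', hs', hsa⟩ := sec_of_isPullback hW hZ hs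
  have hsw : s ≫ w = i := by rw [hs.w, Category.id_comp]
  have hsw' : s' ≫ w' = i' := by rw [hs'.w, Category.id_comp]
  have hc := IsPullback.of_hasPullback c a
  refine ⟨pullback c a, pullback.snd c a, s', hs', h1.of_isPullback (hc.paste_vert hW) hZ, ?_⟩
  refine h2.of_isPullback hc (b := b) ?_
  refine IsPullback.of_bot (h₂₁ := a) (v₂₁ := w') (v₂₂ := w) (h₃₁ := t) ?_ hsa.symm hW
  rw [hsw, hsw']
  exact hZ

theorem compl_sec {T W Z U V : Scheme.{u}} {w : W ⟶ T} {i : Z ⟶ T} {s : Z ⟶ W} (hs : IsPullback s (𝟙 Z) w i)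
    {j : U ⟶ T} (hj : Compl i j) {v₁ : V ⟶ U} {v₂ : V ⟶ W} (H : IsPullback v₁ v₂ j w) : Compl s v₂ :=
  hj.of_isPullback hs.flip H

/-- `T` is the pushout of `U` and `W` over `V`, for maps to affine schemes. -/
theorem GC.existsUnique_desc {T W Z U V : Scheme.{u}} {w : W ⟶ T} {i : Z ⟶ T} (h : GC w i) {j : U ⟶ T}
    (hj : Compl i j) {v₁ : V ⟶ U} {v₂ : V ⟶ W} (H : IsPullback v₁ v₂ j w) {D : Scheme.{u}} [IsAffine D]
    (a : U ⟶ D) (b : W ⟶ D) (hab : v₁ ≫ a = v₂ ≫ b) : ∃! d : T ⟶ D, j ≫ d = a ∧ w ≫ d = b := by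
  obtain ⟨Wh, c, s, hs, h1, h2⟩ := h
  have hq := IsPullback.of_hasPullback v₂ c
  have hq' := hq.paste_horiz H
  obtain ⟨d, ⟨hd1, hd2⟩, hd3⟩ := h1.existsUnique_desc hj hq' a (c ≫ b) (by
    rw [Category.assoc, hab, hq.w_assoc])
  have hv : Compl s v₂ := compl_sec hs hj H
  have hb : w ≫ d = b := by
    obtain ⟨d', -, hd'⟩ := h2.existsUnique_desc hv hq (v₂ ≫ b) (c ≫ b) (by rw [hq.w_assoc])
    rw [hd' (w ≫ d) ⟨?_, ?_⟩, hd' b ⟨rfl, rfl⟩]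
    · rw [← H.w_assoc, hd1, hab]
    · rw [← hd2, Category.assoc]
  refine ⟨d, ⟨hd1, hb⟩, ?_⟩
  rintro d' ⟨h3, h4⟩
  exact hd3 d' ⟨h3, by rw [Category.assoc, h4]⟩

/-- Affine schemes over `U` and over `W` glue to an affine scheme over `T`. -/
theorem GC.exists_glue {T W Z U V : Scheme.{u}} {w : W ⟶ T} {i : Z ⟶ T} (h : GC w i) {j : U ⟶ T}
    (hj : Compl i j) {v₁ : V ⟶ U} {v₂ : V ⟶ W} (H : IsPullback v₁ v₂ j w) {U' W' V' : Scheme.{u}}
    {pU : U' ⟶ U} {pW : W' ⟶ W} {pV : V' ⟶ V} {eU : V' ⟶ U'} {eW : V' ⟶ W'} (HU : IsPullback eU pV pU v₁)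
    (HW : IsPullback eW pV pW v₂) [IsAffineHom pU] [IsAffineHom pW] :
    ∃ (X' : Scheme.{u}) (p : X' ⟶ T) (aU : U' ⟶ X') (aW : W' ⟶ X'), IsAffine X' ∧ IsPullback aU pU p j ∧
      IsPullback aW pW p w ∧ eU ≫ aU = eW ≫ aW := by
  have hTa := h.affT
  have hWa := h.affW
  obtain ⟨Wh, c, s, hs, h1, h2⟩ := h
  have hv : Compl s v₂ := compl_sec hs hj H
  have hq := IsPullback.of_hasPullback v₂ c
  set q₁ := pullback.fst v₂ c
  set q₂ := pullback.snd v₂ c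
  have hq' := hq.paste_horiz H
  have : IsAffine W' := isAffine_of_isAffineHom pW
  have hWh := IsPullback.of_hasPullback pW c
  set r₁ := pullback.fst pW c
  set r₂ := pullback.snd pW c
  have hVh := IsPullback.of_hasPullback pV q₁
  set t₁ := pullback.fst pV q₁
  set t₂ := pullback.snd pV q₁
  let e := hWh.lift (t₁ ≫ eW) (t₂ ≫ q₂) (by rw [Category.assoc, HW.w, hVh.w_assoc, hq.w, Category.assoc])
  have he1 : e ≫ r₁ = t₁ ≫ eW := hWh.lift_fst _ _ _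
  have he2 : e ≫ r₂ = t₂ ≫ q₂ := hWh.lift_snd _ _ _
  obtain ⟨g1, g2⟩ := isPullback_corner hq HW hWh hVh he1 he2
  have hr2 : IsAffineHom r₂ := MorphismProperty.of_isPullback (P := @IsAffineHom) hWh inferInstance
  obtain ⟨X', p, aU, ah, hX', HaU, Hah, hcomp⟩ := h1.exists_glue hj hq' (hVh.paste_horiz HU) g1
  -- uniqueness and existence of maps out of an affine scheme over `W`
  have key : ∀ {A D : Scheme.{u}} [IsAffine A] [IsAffine D] {qA : A ⟶ W} {αV : V' ⟶ A}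
      (_ : IsPullback αV pV qA v₂) {αh : pullback pW c ⟶ A} (_ : IsPullback αh r₂ qA c) (_ : e ≫ αh = t₁ ≫ αV)
      (x : V' ⟶ D) (y : pullback pW c ⟶ D) (_ : t₁ ≫ x = e ≫ y), ∃! d : A ⟶ D, αV ≫ d = x ∧ αh ≫ d = y := by
    intro A D _ _ qA αV HαV αh Hαh hα x y hxy
    have hZ := IsPullback.of_hasPullback s qA
    have hFP := h2.of_isPullback Hαh.flip hZ
    have hC := hv.of_isPullback hZ HαV.flip
    obtain ⟨-, g4⟩ := isPullback_corner hq HαV Hαh hVh hα he2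
    exact hFP.existsUnique_desc hC g4 x y hxy
  obtain ⟨aW, ⟨haW1, haW2⟩, -⟩ := key HW hWh he1 (eU ≫ aU) ah (by rw [← Category.assoc]; exact hcomp)
  have hwW : aW ≫ p = pW ≫ w := by
    obtain ⟨d, -, hd⟩ := key (D := T) HW hWh he1 (eW ≫ pW ≫ w) (r₁ ≫ pW ≫ w) (by
      rw [← reassoc_of% he1])
    rw [hd (aW ≫ p) ⟨?_, ?_⟩, hd (pW ≫ w) ⟨rfl, rfl⟩]
    · rw [reassoc_of% haW1, HaU.w, reassoc_of% HU.w, H.w, reassoc_of% HW.w]
    · rw [reassoc_of% haW2, Hah.w, reassoc_of% hWh.w]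
  refine ⟨X', p, aU, aW, hX', HaU, ?_, haW1.symm⟩
  -- the comparison map
  have HP := IsPullback.of_hasPullback p w
  have : IsAffine (pullback p w) := inferInstance
  let k : W' ⟶ pullback p w := HP.lift aW pW hwW
  have hk1 : k ≫ pullback.fst p w = aW := HP.lift_fst _ _ _
  have hk2 : k ≫ pullback.snd p w = pW := HP.lift_snd _ _ _
  have HkV : IsPullback (eW ≫ k) pV (pullback.snd p w) v₂ := by
    refine IsPullback.of_right (h₁₂ := pullback.fst p w) (h₂₂ := w) (v₁₃ := p) ?_ ?_ HP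
    · rw [Category.assoc, hk1, haW1, ← H.w]
      exact HU.paste_horiz HaU
    · rw [Category.assoc, hk2, HW.w]
  have Hkh : IsPullback (r₁ ≫ k) r₂ (pullback.snd p w) c := by
    refine IsPullback.of_right (h₁₂ := pullback.fst p w) (h₂₂ := w) (v₁₃ := p) ?_ ?_ HP
    · rw [Category.assoc, hk1, haW2]
      exact Hah
    · rw [Category.assoc, hk2, hWh.w]
  obtain ⟨m, ⟨hm1, hm2⟩, -⟩ := key HkV Hkh (by rw [reassoc_of% he1]) eW r₁ he1.symm
  have i1 : k ≫ m = 𝟙 W' := by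
    obtain ⟨d, -, hd⟩ := key HW hWh he1 eW r₁ he1.symm
    rw [hd (k ≫ m) ⟨by rw [← Category.assoc, hm1], by rw [← Category.assoc, hm2]⟩,
      hd (𝟙 _) ⟨Category.comp_id _, Category.comp_id _⟩]
  have i2 : m ≫ k = 𝟙 _ := by
    obtain ⟨d, -, hd⟩ := key HkV Hkh (by rw [reassoc_of% he1]) (eW ≫ k) (r₁ ≫ k) (by rw [reassoc_of% he1])
    rw [hd (m ≫ k) ⟨by rw [← Category.assoc, hm1], by rw [← Category.assoc, hm2]⟩,
      hd (𝟙 _) ⟨Category.comp_id _, Category.comp_id _⟩]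
  exact IsPullback.of_iso_pullback ⟨hwW⟩ ⟨k, m, i1, i2⟩ hk1 hk2

end K648.FG
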