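import Groth.Agent.AlgSp.K648.FGSol
import Groth.Agent.AlgSp.K648.FGChart

/-!
# Formal glueing: the glued scheme over a chart
-/

set_option autoImplicit false

universe u

open CategoryTheory CategoryTheory.Limits AlgebraicGeometry Opposite AlgSp

namespace K648.FGAsm

open K648.FGSheaf K648.FGSheaf.Dat K594.Elem K640.Loc K640.Joint K648.FGSol K648.FG

variable {S : Scheme.{u}}

/-- representing objects along a cartesian square -/
theorem isRep_right {P F G H : Sp S} {top : P ⟶ F} {left : P ⟶ G} {right : F ⟶ H} {bot : G ⟶ H}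
    (sq : IsPullback top left right bot) {T V : Over S} {y : G.obj.obj (op T)} {v : V ⟶ T} {p : P.obj.obj (op V)}
    (h : IsRep left y v p) : IsRep right (bot.hom.app _ y) v (top.hom.app _ p) where
  w := by
    have e : right.hom.app _ (top.hom.app _ p) = bot.hom.app _ (left.hom.app _ p) :=
      congrArg (fun k => k.hom.app (op V) p) sq.w
    rw [e, h.w, naturality]
  inj a b h1 h2 := by
    refine h.inj a b h1 (K642.Glue.pb_ext sq ?_ ?_)
    · rw [naturality, naturality, h2]
    · rw [naturality, naturality, h.w, ← map_comp, ← map_comp, h1]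
  lift {T'} t x hx := by
    obtain ⟨q, hq1, hq2⟩ := K642.Glue.pb_exists sq x (G.obj.map t.op y) (by rw [hx, naturality])
    obtain ⟨k, hk1, hk2⟩ := h.lift t q hq2
    exact ⟨k, hk1, by rw [← naturality, hk2, hq1]⟩

/-- representing objects along a cartesian square -/
theorem isRep_left {P F G H : Sp S} {top : P ⟶ F} {left : P ⟶ G} {right : F ⟶ H} {bot : G ⟶ H}
    (sq : IsPullback top left right bot) {T V : Over S} {y : G.obj.obj (op T)} {v : V ⟶ T} {p : P.obj.obj (op V)}
    (hp : left.hom.app _ p = G.obj.map v.op y) (h : IsRep right (bot.hom.app _ y) v (top.hom.app _ p)) :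
    IsRep left y v p where
  w := hp
  inj a b h1 h2 := h.inj a b h1 (by rw [← naturality, ← naturality, h2])
  lift {T'} t q hq := by
    have e : right.hom.app _ (top.hom.app _ q) = bot.hom.app _ (left.hom.app _ q) :=
      congrArg (fun k => k.hom.app (op T') q) sq.w
    obtain ⟨k, hk1, hk2⟩ := h.lift t (top.hom.app _ q) (by rw [e, hq, naturality])
    refine ⟨k, hk1, K642.Glue.pb_ext sq ?_ ?_⟩
    · rw [naturality, hk2]
    · rw [naturality, hp, ← map_comp, hk1, hq]

/-- Two representing objects form a cartesian square. -/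
theorem isPullback_of_isRep {F G : Sp S} {f : F ⟶ G} {U V U' V' : Over S} {y : G.obj.obj (op U)} {v : V ⟶ U}
    {ξ : F.obj.obj (op V)} (h : IsRep f y v ξ) {g : U' ⟶ U} {v' : V' ⟶ U'} {ξ' : F.obj.obj (op V')}
    (h' : IsRep f (G.obj.map g.op y) v' ξ') {a : V' ⟶ V} (ha : a ≫ v = v' ≫ g) (haξ : F.obj.map a.op ξ = ξ') :
    IsPullback a v' v g := by
  have key : ∀ s : PullbackCone v g, ∃ k : s.pt ⟶ V', k ≫ a = s.fst ∧ k ≫ v' = s.snd := by
    intro s
    obtain ⟨k, hk1, hk2⟩ := h'.lift s.snd (F.obj.map s.fst.op ξ) (by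
      rw [naturality, h.w, ← map_comp, ← map_comp, s.condition])
    refine ⟨k, ?_, hk1⟩
    apply h.inj
    · rw [Category.assoc, ha, reassoc_of% hk1, s.condition]
    · rw [map_comp, haξ, hk2]
  choose k hk1 hk2 using key
  refine ⟨⟨ha⟩, ⟨PullbackCone.IsLimit.mk _ k hk1 hk2 fun s m h1 h2 => ?_⟩⟩
  apply h'.inj
  · rw [h2, hk2]
  · rw [← haξ, ← map_comp, ← map_comp, h1, hk1]

variable {D : Dat (J S)}

/-- The glued scheme. -/
theorem exists_sd (hpU : RepWith @IsAffineHom D.pU) (hpY : RepWith @IsAffineHom D.pY) {T W Z₁ UT : Over S}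
    {x : D.X.obj.obj (op T)} {w : W ⟶ T} {η : D.Y.obj.obj (op W)} (hW : WC D x w η) {i₁ : Z₁ ⟶ T}
    (hG : GC w.left i₁.left) {jT : UT ⟶ T} {uT : D.U.obj.obj (op UT)} (hjT : IsRep D.j x jT uT)
    (hc : Compl i₁.left jT.left) : ∃ E : SD D x, IsAffine E.A.left := by
  have hTa := hG.affT
  obtain ⟨U', pU, u', hU', hU'a⟩ := RepWith.exists_isRep hpU uT
  obtain ⟨W', pW, y', hW', hW'a⟩ := RepWith.exists_isRep hpY η
  have hV := IsPullback.of_hasPullback jT w
  set v₁ := pullback.fst jT w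
  set v₂ := pullback.snd jT w
  have hVU := IsPullback.of_hasPullback pU v₁
  set eU := pullback.fst pU v₁
  set pV := pullback.snd pU v₁
  obtain ⟨v₀, hv1, hv2⟩ := K642.Glue.pb_exists D.hV (D.Y.obj.map v₂.op η) (D.U.obj.map v₁.op uT) (by
    rw [naturality, hW.hη, naturality, hjT.w, ← map_comp, ← map_comp, hV.w])
  obtain ⟨v', hv3, hv4⟩ := K642.Glue.pb_exists D.hU' (D.U'.obj.map eU.op u') (D.V.obj.map pV.op v₀) (by
    rw [naturality, hU'.w, naturality, hv2, ← map_comp, ← map_comp, hVU.w])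
  have hr1 : IsRep D.pU (D.fV.hom.app _ v₀) pV (D.eU.hom.app _ v') := by
    rw [hv2, hv3]
    exact hU'.baseChange hVU
  have hr2 : IsRep D.pV v₀ pV v' := isRep_left D.hU' hv4 hr1
  have hr3 : IsRep D.pY (D.Y.obj.map v₂.op η) pV (D.eY.hom.app _ v') := by
    rw [← hv1]
    exact isRep_right D.hY' hr2
  obtain ⟨eW, heW1, heW2⟩ := hW'.lift (pV ≫ v₂) (D.eY.hom.app _ v') (by rw [hr3.w, map_comp])
  have hVW : IsPullback eW pV pW v₂ := isPullback_of_isRep hW' hr3 heW1 heW2
  have sV : IsPullback v₁.left v₂.left jT.left w.left := hV.map (Over.forget S)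
  have sVU : IsPullback eU.left pV.left pU.left v₁.left := hVU.map (Over.forget S)
  have sVW : IsPullback eW.left pV.left pW.left v₂.left := hVW.map (Over.forget S)
  obtain ⟨X', p, aU, aW, hX', HaU, HaW, hcomm⟩ := hG.exists_glue hc sV sVU sVW
  have hTX : (IsAffine T.left) := hTa
  let A : Over S := Over.mk (p ≫ T.hom)
  let p' : A ⟶ T := Over.homMk p rfl
  have hwU : aU ≫ p = pU.left ≫ jT.left := HaU.w
  have hwW : aW ≫ p = pW.left ≫ w.left := HaW.w
  let aU' : U' ⟶ A := Over.homMk aU (by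
    change aU ≫ p ≫ T.hom = U'.hom
    rw [reassoc_of% hwU, Over.w jT, Over.w pU])
  let aW' : W' ⟶ A := Over.homMk aW (by
    change aW ≫ p ≫ T.hom = W'.hom
    rw [reassoc_of% hwW, Over.w w, Over.w pW])
  refine ⟨{
    UT := UT, W := W, VT := _, U' := U', W' := W', V' := _, A := A
    jT := jT, w := w, v₁ := v₁, v₂ := v₂, pU := pU, pW := pW, pV := pV, eU := eU, eW := eW, p := p', aU := aU',
    aW := aW', uT := uT, η := η, u' := u', y' := y', v' := v'
    hjT := hjT, hW := hW, hpU := hU', hpW := hW', hV := hV, hVU := hVU, hVW := hVW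
    hAU := IsPullback.of_map (Over.forget S) (Over.OverMorphism.ext hwU) HaU
    hAW := IsPullback.of_map (Over.forget S) (Over.OverMorphism.ext hwW) HaW
    hcomm := Over.OverMorphism.ext hcomm
    hv₁ := hv3, hv₂ := heW2.symm
    desc := ?_ }, hX'⟩
  intro T' k _ U₁ W₁ kU jU hU₁ kW w₁ hW₁ a b hab ha hb
  have hZ := IsPullback.of_hasPullback i₁.left k.left
  have sU₁ : IsPullback kU.left jU.left jT.left k.left := hU₁.map (Over.forget S)
  have sW₁ : IsPullback kW.left w₁.left w.left k.left := hW₁.map (Over.forget S)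
  have hG' := hG.of_isPullback sW₁ hZ
  have hc' : Compl (pullback.snd i₁.left k.left) jU.left := hc.of_isPullback hZ sU₁
  have hVV := IsPullback.of_hasPullback jU w₁
  have sVV : IsPullback (pullback.fst jU w₁).left (pullback.snd jU w₁).left jU.left w₁.left :=
    hVV.map (Over.forget S)
  have hX'a : IsAffine A.left := hX'
  have hab' : (pullback.fst jU w₁).left ≫ a.left = (pullback.snd jU w₁).left ≫ b.left :=
    congrArg CommaMorphism.left (hab _ _ hVV.w)
  obtain ⟨d, ⟨hd1, hd2⟩, hd3⟩ := hG'.existsUnique_desc hc' sVV a.left b.left hab'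
  have ha' : a.left ≫ p = jU.left ≫ k.left := congrArg CommaMorphism.left ha
  have hb' : b.left ≫ p = w₁.left ≫ k.left := congrArg CommaMorphism.left hb
  have hdp : d ≫ p = k.left := by
    obtain ⟨e, -, he⟩ := hG'.existsUnique_desc hc' sVV (D := T.left) (jU.left ≫ k.left)
      (w₁.left ≫ k.left) (by rw [reassoc_of% sVV.w])
    exact (he (d ≫ p) ⟨by rw [reassoc_of% hd1, ha'], by rw [reassoc_of% hd2, hb']⟩).trans
      (he k.left ⟨rfl, rfl⟩).symm
  refine ⟨Over.homMk d (by
    change d ≫ p ≫ T.hom = _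
    rw [reassoc_of% hdp, Over.w k]), ⟨Over.OverMorphism.ext hdp, Over.OverMorphism.ext hd1, Over.OverMorphism.ext hd2⟩, ?_⟩
  rintro d' ⟨-, h2, h3⟩
  exact Over.OverMorphism.ext (hd3 d'.left ⟨congrArg CommaMorphism.left h2, congrArg CommaMorphism.left h3⟩)

end K648.FGAsm
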