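import Groth.Agent.AlgSp.K648.FGSheaf

/-!
# Formal glueing: the glued sheaf

For a cartesian square `V = U ×_X Y` of sheaves and compatible `U'/U`, `V'/V`, `Y'/Y`, the sheaf over `X` of pairs of
sections of `U'` over the pullback to `U` and of `Y'` over the pullback to `Y` inducing the same section of `V'`.
-/

set_option autoImplicit false

universe v

open CategoryTheory CategoryTheory.Limits Opposite

namespace K648.FGSheaf

variable {C : Type (v + 1)} [Category.{v} C] {J : GrothendieckTopology C}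

/-- Glueing data. -/
structure Dat (J : GrothendieckTopology C) where
  (X Y U V U' V' Y' : Sheaf J (Type (v + 1)))
  (f : Y ⟶ X)
  (j : U ⟶ X)
  (jV : V ⟶ Y)
  (fV : V ⟶ U)
  (pU : U' ⟶ U)
  (pV : V' ⟶ V)
  (pY : Y' ⟶ Y)
  (eU : V' ⟶ U')
  (eY : V' ⟶ Y')
  hV : IsPullback jV fV f j
  hU' : IsPullback eU pV pU fV
  hY' : IsPullback eY pV pY jV

namespace Dat

variable (D : Dat J)

theorem wV {T : C} (v : D.V.obj.obj (op T)) :
    D.f.hom.app _ (D.jV.hom.app _ v) = D.j.hom.app _ (D.fV.hom.app _ v) :=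
  congrArg (fun k => k.hom.app (op T) v) D.hV.w

theorem wU' {T : C} (v : D.V'.obj.obj (op T)) :
    D.pU.hom.app _ (D.eU.hom.app _ v) = D.fV.hom.app _ (D.pV.hom.app _ v) :=
  congrArg (fun k => k.hom.app (op T) v) D.hU'.w

theorem wY' {T : C} (v : D.V'.obj.obj (op T)) :
    D.pY.hom.app _ (D.eY.hom.app _ v) = D.jV.hom.app _ (D.pV.hom.app _ v) :=
  congrArg (fun k => k.hom.app (op T) v) D.hY'.w

/-- Compatible pairs of sections. -/
structure Fam {T : C} (x : D.X.obj.obj (op T)) where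
  /-- the section over `U` -/
  a : Sec D.j D.pU x
  /-- the section over `Y` -/
  b : Sec D.f D.pY x
  comp : ∀ {T' : C} (g : T' ⟶ T) (v : D.V.obj.obj (op T'))
    (h₁ : D.j.hom.app (op T') (D.fV.hom.app _ v) = D.X.obj.map g.op x)
    (h₂ : D.f.hom.app (op T') (D.jV.hom.app _ v) = D.X.obj.map g.op x),
    ∃ v' : D.V'.obj.obj (op T'), D.pV.hom.app _ v' = v ∧ D.eU.hom.app _ v' = a.val g _ h₁ ∧
      D.eY.hom.app _ v' = b.val g _ h₂

variable {D}

namespace Fam

variable {T : C} {x : D.X.obj.obj (op T)}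

theorem ext' {F G : D.Fam x} (ha : F.a = G.a) (hb : F.b = G.b) : F = G := by
  cases F; cases G; subst ha; subst hb; rfl

/-- Restriction. -/
def res (F : D.Fam x) {T₁ : C} (l : T₁ ⟶ T) : D.Fam (D.X.obj.map l.op x) where
  a := F.a.res l
  b := F.b.res l
  comp g v h₁ h₂ := F.comp (g ≫ l) v (by rw [h₁, map_comp]) (by rw [h₂, map_comp])

/-- Transport. -/
def cast (F : D.Fam x) {x' : D.X.obj.obj (op T)} (e : x = x') : D.Fam x' where
  a := F.a.cast e
  b := F.b.cast e
  comp g v h₁ h₂ := F.comp g v (by rw [h₁, e]) (by rw [h₂, e])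

end Fam

/-- Sections of the glued sheaf. -/
structure Gl (D : Dat J) (T : C) where
  x : D.X.obj.obj (op T)
  F : D.Fam x

theorem Gl.ext' {T : C} {s t : Gl D T} (hx : s.x = t.x)
    (ha : ∀ {T' : C} (g : T' ⟶ T) (y) (h) (h'), s.F.a.val g y h = t.F.a.val g y h')
    (hb : ∀ {T' : C} (g : T' ⟶ T) (y) (h) (h'), s.F.b.val g y h = t.F.b.val g y h') : s = t := by
  obtain ⟨x, F⟩ := s
  obtain ⟨x', F'⟩ := t
  obtain rfl : x = x' := hx
  congr
  exact Fam.ext' (Sec.ext' fun g y h => ha g y h h) (Sec.ext' fun g y h => hb g y h h)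

theorem Gl.congr_a {T : C} {s t : Gl D T} (hs : s = t) {T' : C} {g g' : T' ⟶ T} (hg : g = g')
    {y y' : D.U.obj.obj (op T')} (hy : y = y') (h) (h') : s.F.a.val g y h = t.F.a.val g' y' h' := by
  subst hs; subst hg; subst hy; rfl

theorem Gl.congr_b {T : C} {s t : Gl D T} (hs : s = t) {T' : C} {g g' : T' ⟶ T} (hg : g = g')
    {y y' : D.Y.obj.obj (op T')} (hy : y = y') (h) (h') : s.F.b.val g y h = t.F.b.val g' y' h' := by
  subst hs; subst hg; subst hy; rfl

/-- Restriction of sections of the glued sheaf. -/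
def Gl.res {T T₁ : C} (l : T₁ ⟶ T) (s : Gl D T) : Gl D T₁ := ⟨_, s.F.res l⟩

variable (D) in
/-- The glued presheaf. -/
def psh : Cᵒᵖ ⥤ Type (v + 1) where
  obj T := Gl D T.unop
  map l := TypeCat.ofHom (fun s => s.res l.unop)
  map_id T := by
    ext s
    refine Gl.ext' (map_id _) (fun g y h h' => ?_) (fun g y h h' => ?_)
    · exact s.F.a.congr_val (Category.comp_id g) rfl _ _
    · exact s.F.b.congr_val (Category.comp_id g) rfl _ _
  map_comp {T T' T''} k l := by
    ext s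
    refine Gl.ext' (map_comp _ _ _) (fun g y h h' => ?_) (fun g y h h' => ?_)
    · exact s.F.a.congr_val (Category.assoc _ _ _).symm rfl _ _
    · exact s.F.b.congr_val (Category.assoc _ _ _).symm rfl _ _

theorem isSheaf_psh : Presieve.IsSheaf J (psh D) := by
  intro T R hR fam hfam
  rw [Presieve.compatible_iff_sieveCompatible] at hfam
  -- the point of `X`
  let famX : Presieve.FamilyOfElements D.X.obj (R : Presieve T) := fun T' k hk => (fam k hk).x
  have hfamX : famX.Compatible := by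
    rw [Presieve.compatible_iff_sieveCompatible]
    intro T₁ T₂ k l hk
    exact congrArg Gl.x (hfam k l hk)
  obtain ⟨x, hx, hx'⟩ := K642.Glue.isSheaf D.X R hR famX hfamX
  replace hx : ∀ {T' : C} (k : T' ⟶ T) (hk : R k), (fam k hk).x = D.X.obj.map k.op x := fun k hk => (hx k hk).symm
  have hres : ∀ {T₁ T₂ : C} (k : T₁ ⟶ T) (hk : R k) (l : T₂ ⟶ T₁) (hl : R (l ≫ k)),
      fam (l ≫ k) hl = (fam k hk).res l := fun k hk l hl => hfam k l hk
  obtain ⟨a, ha⟩ := Sec.exists_glue (f := D.j) (p := D.pU) (x := x) hR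
    (fun k hk => (fam k hk).F.a.cast (hx k hk)) (by
      intro T₁ T₂ T₃ k hk l hl g y h h'
      exact Gl.congr_a (hres k hk l hl) rfl rfl _ (by rw [h]; change _ = D.X.obj.map g.op (D.X.obj.map l.op _); rw [hx, map_comp]))
  obtain ⟨b, hb⟩ := Sec.exists_glue (f := D.f) (p := D.pY) (x := x) hR
    (fun k hk => (fam k hk).F.b.cast (hx k hk)) (by
      intro T₁ T₂ T₃ k hk l hl g y h h'
      exact Gl.congr_b (hres k hk l hl) rfl rfl _ (by rw [h]; change _ = D.X.obj.map g.op (D.X.obj.map l.op _); rw [hx, map_comp]))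
  have hcomp : ∀ {T' : C} (g : T' ⟶ T) (v : D.V.obj.obj (op T'))
    (h₁ : D.j.hom.app (op T') (D.fV.hom.app _ v) = D.X.obj.map g.op x)
    (h₂ : D.f.hom.app (op T') (D.jV.hom.app _ v) = D.X.obj.map g.op x),
    ∃ v' : D.V'.obj.obj (op T'), D.pV.hom.app _ v' = v ∧ D.eU.hom.app _ v' = a.val g _ h₁ ∧
      D.eY.hom.app _ v' = b.val g _ h₂ := by
    intro T' g v h₁ h₂
    obtain ⟨v', hv1, hv2⟩ := K642.Glue.pb_exists D.hU' (a.val g _ h₁) v (a.hval _ _ _)
    refine ⟨v', hv2, hv1, ?_⟩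
    refine K642.Glue.sep D.Y' (J.pullback_stable g hR) fun T'' l hl => ?_
    have hl' : R (l ≫ g) := hl
    have e1 : D.j.hom.app (op T'') (D.fV.hom.app _ (D.V.obj.map l.op v)) = D.X.obj.map (l ≫ g).op x := by
      rw [naturality, naturality, h₁, map_comp]
    have e2 : D.f.hom.app (op T'') (D.jV.hom.app _ (D.V.obj.map l.op v)) = D.X.obj.map (l ≫ g).op x := by
      rw [naturality, naturality, h₂, map_comp]
    have e1' : D.j.hom.app (op T'') (D.fV.hom.app _ (D.V.obj.map l.op v)) =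
        D.X.obj.map (𝟙 T'').op (fam _ hl').x := by rw [e1, hx, map_id]
    have e2' : D.f.hom.app (op T'') (D.jV.hom.app _ (D.V.obj.map l.op v)) =
        D.X.obj.map (𝟙 T'').op (fam _ hl').x := by rw [e2, hx, map_id]
    obtain ⟨v'', h3, h4, h5⟩ := (fam _ hl').F.comp (𝟙 _) (D.V.obj.map l.op v) e1' e2'
    have e4 : D.eU.hom.app _ (D.V'.obj.map l.op v') = D.U'.obj.map l.op (a.val g _ h₁) := by
      rw [naturality, hv1]
    have e5 : a.val (l ≫ g) _ e1 = D.U'.obj.map l.op (a.val g _ h₁) :=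
      a.nat' l g _ h₁ rfl (naturality _ _ _) e1
    have e6 : a.val (l ≫ g) _ e1 = (fam _ hl').F.a.val (𝟙 _) _ e1' :=
      (a.congr_val (Category.id_comp _).symm rfl _ (by rw [Category.id_comp]; exact e1)).trans
        (ha _ hl' (𝟙 _) _ (by rw [Category.id_comp]; exact e1) (by rw [map_id]; exact e1))
    have e7 : b.val (l ≫ g) _ e2 = D.Y'.obj.map l.op (b.val g _ h₂) :=
      b.nat' l g _ h₂ rfl (naturality _ _ _) e2
    have e8 : b.val (l ≫ g) _ e2 = (fam _ hl').F.b.val (𝟙 _) _ e2' :=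
      (b.congr_val (Category.id_comp _).symm rfl _ (by rw [Category.id_comp]; exact e2)).trans
        (hb _ hl' (𝟙 _) _ (by rw [Category.id_comp]; exact e2) (by rw [map_id]; exact e2))
    have e9 : D.pV.hom.app _ (D.V'.obj.map l.op v') = D.V.obj.map l.op v := by rw [naturality, hv2]
    have e3 : v'' = D.V'.obj.map l.op v' :=
      K642.Glue.pb_ext D.hU' (h4.trans (e6.symm.trans (e5.trans e4.symm))) (h3.trans e9.symm)
    rw [← naturality, ← e7, e8, ← h5, e3]
  refine ⟨⟨x, ⟨a, b, hcomp⟩⟩, ?_, ?_⟩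
  · intro T' k hk
    refine Gl.ext' (hx k hk).symm (fun g y h h' => ?_) (fun g y h h' => ?_)
    · exact (ha k hk g y _ h).trans rfl
    · exact (hb k hk g y _ h).trans rfl
  · rintro ⟨x₁, a₁, b₁, hc₁⟩ h
    have hx₁ : x₁ = x := hx' x₁ fun T' k hk => congrArg Gl.x (h k hk)
    subst hx₁
    refine Gl.ext' rfl (fun {T'} g y h₁ h₂ => ?_) (fun {T'} g y h₁ h₂ => ?_)
    · refine K642.Glue.sep D.U' (J.pullback_stable g hR) fun T'' l hl => ?_
      change D.U'.obj.map l.op (a₁.val g y h₁) = D.U'.obj.map l.op (a.val g y h₂)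
      have h3 : D.j.hom.app (op T'') (D.U.obj.map l.op y) = D.X.obj.map (l ≫ g).op x₁ := by
        rw [naturality, h₁]; exact (map_comp _ _ _).symm
      rw [← a₁.nat l g y h₁ h3, ← a.nat l g y h₂ h3]
      have hl' : R (l ≫ g) := hl
      have e1 := ha _ hl' (𝟙 _) (D.U.obj.map l.op y) (by rw [Category.id_comp]; exact h3)
        (by rw [map_id]; exact h3)
      rw [a.congr_val (Category.id_comp _).symm rfl h3 (by rw [Category.id_comp]; exact h3), e1]
      exact (a₁.congr_val (Category.id_comp _).symm rfl h3 (by rw [Category.id_comp]; exact h3)).trans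
        (Gl.congr_a (h _ hl') (g := 𝟙 _) (g' := 𝟙 _) rfl (y := D.U.obj.map l.op y) rfl
          (by change _ = D.X.obj.map (𝟙 _).op (D.X.obj.map (l ≫ g).op x₁); rw [map_id]; exact h3) _)
    · refine K642.Glue.sep D.Y' (J.pullback_stable g hR) fun T'' l hl => ?_
      change D.Y'.obj.map l.op (b₁.val g y h₁) = D.Y'.obj.map l.op (b.val g y h₂)
      have h3 : D.f.hom.app (op T'') (D.Y.obj.map l.op y) = D.X.obj.map (l ≫ g).op x₁ := by
        rw [naturality, h₁]; exact (map_comp _ _ _).symm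
      rw [← b₁.nat l g y h₁ h3, ← b.nat l g y h₂ h3]
      have hl' : R (l ≫ g) := hl
      have e1 := hb _ hl' (𝟙 _) (D.Y.obj.map l.op y) (by rw [Category.id_comp]; exact h3)
        (by rw [map_id]; exact h3)
      rw [b.congr_val (Category.id_comp _).symm rfl h3 (by rw [Category.id_comp]; exact h3), e1]
      exact (b₁.congr_val (Category.id_comp _).symm rfl h3 (by rw [Category.id_comp]; exact h3)).trans
        (Gl.congr_b (h _ hl') (g := 𝟙 _) (g' := 𝟙 _) rfl (y := D.Y.obj.map l.op y) rfl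
          (by change _ = D.X.obj.map (𝟙 _).op (D.X.obj.map (l ≫ g).op x₁); rw [map_id]; exact h3) _)

end Dat

end K648.FGSheaf
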