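import Groth.Agent.AlgSp.K648.FGDat

/-!
# Formal glueing: the maps `U' ⟶ X'`, `Y' ⟶ X'`
-/

set_option autoImplicit false

universe v

open CategoryTheory CategoryTheory.Limits Opposite

namespace K648.FGSheaf

variable {C : Type (v + 1)} [Category.{v} C] {J : GrothendieckTopology C}

/-- Elementwise criterion for pullback squares of sheaves of sets. -/
theorem isPullback_iff_app {A B C' D : Sheaf J (Type (v + 1))} (t : A ⟶ B) (l : A ⟶ C') (r : B ⟶ D) (b : C' ⟶ D) :
    IsPullback t l r b ↔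
      (∀ (T : C) (x : A.obj.obj (op T)), r.hom.app _ (t.hom.app _ x) = b.hom.app _ (l.hom.app _ x)) ∧
      (∀ (T : C) (x y : A.obj.obj (op T)), t.hom.app _ x = t.hom.app _ y →
        l.hom.app _ x = l.hom.app _ y → x = y) ∧
      ∀ (T : C) (x : B.obj.obj (op T)) (y : C'.obj.obj (op T)), r.hom.app _ x = b.hom.app _ y →
        ∃ z : A.obj.obj (op T), t.hom.app _ z = x ∧ l.hom.app _ z = y := by
  constructor
  · intro h
    refine ⟨fun T x => congrArg (fun k => k.hom.app (op T) x) h.w, fun T x y h1 h2 => K642.Glue.pb_ext h h1 h2,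
      fun T x y hxy => K642.Glue.pb_exists h x y hxy⟩
  · rintro ⟨h0, h1, h2⟩
    refine IsPullback.of_map_of_faithful (sheafToPresheaf J (Type (v + 1))) ?_
    refine IsPullback.of_forall_isPullback_app fun T => ?_
    rw [Types.isPullback_iff]
    refine ⟨?_, fun x y h => h1 T.unop x y h.1 h.2, fun x y h => h2 T.unop x y h⟩
    ext x
    exact h0 T.unop x

namespace Dat

variable (D : Dat J)

/-- The glued sheaf. -/
def sh : Sheaf J (Type (v + 1)) := ⟨D.psh, (isSheaf_iff_isSheaf_of_type J _).2 isSheaf_psh⟩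

/-- The structure map. -/
def π : D.sh ⟶ D.X := ⟨{ app := fun T => TypeCat.ofHom (fun s => s.x), naturality := fun _ _ _ => rfl }⟩

theorem sh_map {T T' : C} (l : T' ⟶ T) (s : D.sh.obj.obj (op T)) : D.sh.obj.map l.op s = Gl.res l s := rfl

@[simp] theorem π_app {T : C} (s : D.sh.obj.obj (op T)) : D.π.hom.app (op T) s = Gl.x s := rfl

variable {D}

theorem eq_of_eU_jV {T : C} {v₁ v₂ : D.V'.obj.obj (op T)} (h₁ : D.eU.hom.app _ v₁ = D.eU.hom.app _ v₂)
    (h₂ : D.jV.hom.app _ (D.pV.hom.app _ v₁) = D.jV.hom.app _ (D.pV.hom.app _ v₂)) : v₁ = v₂ := by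
  refine K642.Glue.pb_ext D.hU' h₁ (K642.Glue.pb_ext D.hV h₂ ?_)
  rw [← D.wU', ← D.wU', h₁]

theorem exists_v' {T : C} (u' : D.U'.obj.obj (op T)) (y : D.Y.obj.obj (op T))
    (h : D.f.hom.app _ y = D.j.hom.app _ (D.pU.hom.app _ u')) :
    ∃ v' : D.V'.obj.obj (op T), D.eU.hom.app _ v' = u' ∧ D.jV.hom.app _ (D.pV.hom.app _ v') = y := by
  obtain ⟨v, h1, h2⟩ := K642.Glue.pb_exists D.hV y _ h
  obtain ⟨v', h3, h4⟩ := K642.Glue.pb_exists D.hU' u' v h2.symm
  exact ⟨v', h3, by rw [h4, h1]⟩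

variable (hj : ∀ T, Function.Injective (D.j.hom.app (op T)))

include hj in
/-- The pair attached to a section of `U'`. -/
noncomputable def ofU {T : C} (u' : D.U'.obj.obj (op T)) : Gl D T where
  x := D.j.hom.app _ (D.pU.hom.app _ u')
  F :=
    { a :=
        { val := fun g _ _ => D.U'.obj.map g.op u'
          hval := fun g u h => by
            apply hj
            rw [naturality, naturality, h]
          nat := fun k g u h h' => map_comp _ _ _ }
      b :=
        { val := fun {T'} g y h => D.eY.hom.app (op T')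
            (exists_v' (D.U'.obj.map g.op u') y (by rw [h, naturality, naturality])).choose
          hval := fun {T'} g y h => by
            have := (exists_v' (D.U'.obj.map g.op u') y (by rw [h, naturality, naturality])).choose_spec
            rw [D.wY', this.2]
          nat := fun {T' T''} k g y h h' => by
            have h1 := (exists_v' (D.U'.obj.map g.op u') y (by rw [h, naturality, naturality])).choose_spec
            have h2 := (exists_v' (D.U'.obj.map (k ≫ g).op u') (D.Y.obj.map k.op y)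
              (by rw [h', naturality, naturality])).choose_spec
            refine Eq.trans ?_ (naturality D.eY k _)
            refine congrArg _ (eq_of_eU_jV ?_ ?_)
            · refine h2.1.trans ?_
              rw [naturality, h1.1, map_comp]
            · refine h2.2.trans ?_
              rw [naturality, naturality, h1.2] }
      comp := fun {T'} g v h₁ h₂ => by
        have h := (exists_v' (D.U'.obj.map g.op u') (D.jV.hom.app _ v)
          (by rw [h₂, naturality, naturality])).choose_spec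
        refine ⟨_, ?_, h.1, rfl⟩
        refine K642.Glue.pb_ext D.hV h.2 ?_
        rw [← D.wU', h.1]
        apply hj
        rw [h₁, naturality, naturality] }

theorem ofU_x {T : C} (u' : D.U'.obj.obj (op T)) : (ofU hj u').x = D.j.hom.app _ (D.pU.hom.app _ u') := rfl

theorem ofU_a {T : C} (u' : D.U'.obj.obj (op T)) {T' : C} (g : T' ⟶ T) (u) (h) :
    (ofU hj u').F.a.val g u h = D.U'.obj.map g.op u' := rfl

theorem ofU_b {T : C} (u' : D.U'.obj.obj (op T)) {T' : C} (g : T' ⟶ T) (y) (h) (v' : D.V'.obj.obj (op T'))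
    (h₁ : D.eU.hom.app _ v' = D.U'.obj.map g.op u') (h₂ : D.jV.hom.app _ (D.pV.hom.app _ v') = y) :
    (ofU hj u').F.b.val g y h = D.eY.hom.app _ v' := by
  have h3 := (exists_v' (D.U'.obj.map g.op u') y (by rw [h, ofU_x, naturality, naturality])).choose_spec
  change D.eY.hom.app _ _ = _
  congr 1
  exact eq_of_eU_jV (h3.1.trans h₁.symm) (h3.2.trans h₂.symm)

/-- The map `U' ⟶ X'`. -/
noncomputable def aU : D.U' ⟶ D.sh := ⟨{
  app := fun T => TypeCat.ofHom (fun u' => ofU hj u')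
  naturality := fun {T T'} k => by
    ext u'
    change ofU hj (D.U'.obj.map k.unop.op u') = Gl.res k.unop (ofU hj u')
    refine Gl.ext' ?_ (fun g y h h' => ?_) (fun {T₁} g y h h' => ?_)
    · rw [ofU_x]
      change _ = D.X.obj.map k.unop.op (D.j.hom.app _ (D.pU.hom.app _ u'))
      rw [naturality, naturality]
    · exact (map_comp _ _ _).symm
    · obtain ⟨v', h1, h2⟩ := exists_v' (D.U'.obj.map (g ≫ k.unop).op u') y (by
        rw [h, ofU_x, ← naturality, ← naturality, map_comp])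
      exact (ofU_b hj _ g y h v' (by rw [h1, map_comp]) h2).trans (ofU_b hj u' (g ≫ k.unop) y
        (by rw [h, ofU_x, ofU_x, ← naturality, ← naturality, ← naturality, ← naturality, map_comp]) v' h1 h2).symm }⟩

theorem aU_app {T : C} (u' : D.U'.obj.obj (op T)) : (aU hj).hom.app (op T) u' = ofU hj u' := rfl

theorem isPullback_aU : IsPullback (aU hj) D.pU D.π D.j := by
  rw [isPullback_iff_app]
  refine ⟨fun T u' => rfl, fun T u₁ u₂ h _ => ?_, fun T s u h => ?_⟩
  · change ofU hj u₁ = ofU hj u₂ at h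
    have h1 := Gl.congr_a h (g := 𝟙 T) (g' := 𝟙 T) rfl (y := D.pU.hom.app _ u₁) rfl
      (by rw [map_id]; rfl) (by rw [map_id]; exact congrArg Gl.x h)
    rw [ofU_a, ofU_a, map_id, map_id] at h1
    exact h1
  · change s.x = D.j.hom.app _ u at h
    have h0 : D.j.hom.app (op T) u = D.X.obj.map (𝟙 T).op s.x := by rw [map_id, h]
    refine ⟨s.F.a.val (𝟙 T) u h0, ?_, s.F.a.hval _ _ _⟩
    change ofU hj (s.F.a.val (𝟙 T) u h0) = s
    have hu : ∀ {T' : C} (g : T' ⟶ T) (y : D.U.obj.obj (op T')) (_ : D.j.hom.app (op T') y = D.X.obj.map g.op s.x),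
        y = D.U.obj.map g.op u := by
      intro T' g y h2
      apply hj
      rw [h2, naturality, h]
    refine Gl.ext' ?_ (fun {T'} g y h1 h2 => ?_) (fun {T'} g y h1 h2 => ?_)
    · rw [ofU_x, s.F.a.hval, h]
    · rw [ofU_a, ← s.F.a.nat' g (𝟙 T) u h0 (g' := g) (by simp) (hu g y h2) h2]
    · obtain ⟨v', h3, h4⟩ := exists_v' (D.U'.obj.map g.op (s.F.a.val (𝟙 T) u h0)) y (by
        rw [h2, naturality, naturality, s.F.a.hval, h])
      rw [ofU_b hj _ g y h1 v' h3 h4]
      have e1 : D.fV.hom.app _ (D.pV.hom.app _ v') = D.U.obj.map g.op u := by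
        rw [← D.wU', h3, naturality, s.F.a.hval]
      obtain ⟨v'', h5, h6, h7⟩ := s.F.comp g (D.pV.hom.app _ v') (by rw [e1, naturality, h])
        (by rw [h4]; exact h2)
      have e2 : v'' = v' := by
        refine K642.Glue.pb_ext D.hU' ?_ h5
        rw [h6, h3]
        exact s.F.a.nat' g (𝟙 T) u h0 (by simp) e1 _
      rw [← e2, h7]
      exact s.F.b.congr_val rfl h4 _ _

/-- The value of `s` at the tautological section is `y'`. -/
def Ev {T : C} (s : Gl D T) (y' : D.Y'.obj.obj (op T)) : Prop :=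
  ∃ h : D.f.hom.app (op T) (D.pY.hom.app _ y') = D.X.obj.map (𝟙 T).op s.x,
    s.F.b.val (𝟙 T) (D.pY.hom.app _ y') h = y'

theorem Ev.hx {T : C} {s : Gl D T} {y' : D.Y'.obj.obj (op T)} (h : Ev s y') :
    D.f.hom.app (op T) (D.pY.hom.app _ y') = s.x := by
  obtain ⟨h, -⟩ := h
  rw [h, map_id]

theorem Ev.hx' {T : C} {s : Gl D T} {y' : D.Y'.obj.obj (op T)}
    (h : D.f.hom.app (op T) (D.pY.hom.app _ y') = s.x) :
    D.f.hom.app (op T) (D.pY.hom.app _ y') = D.X.obj.map (𝟙 T).op s.x := by rw [map_id, h]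

theorem ev_res_aux {T T' : C} {s : Gl D T} {y' : D.Y'.obj.obj (op T)}
    (h : D.f.hom.app (op T) (D.pY.hom.app _ y') = s.x) (l : T' ⟶ T) :
    D.f.hom.app (op T') (D.pY.hom.app _ (D.Y'.obj.map l.op y')) = (Gl.res l s).x := by
  change _ = D.X.obj.map l.op s.x
  rw [naturality, naturality, h]

theorem b_res {T T' : C} {s : Gl D T} {y' : D.Y'.obj.obj (op T)}
    (h : D.f.hom.app (op T) (D.pY.hom.app _ y') = s.x) (l : T' ⟶ T) :
    (Gl.res l s).F.b.val (𝟙 T') (D.pY.hom.app _ (D.Y'.obj.map l.op y')) (Ev.hx' (ev_res_aux h l)) =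
      D.Y'.obj.map l.op (s.F.b.val (𝟙 T) (D.pY.hom.app _ y') (Ev.hx' h)) :=
  s.F.b.nat' l (𝟙 T) (D.pY.hom.app _ y') (Ev.hx' h) (g' := 𝟙 T' ≫ l) (by simp) (naturality _ _ _) _

theorem Ev.res {T : C} {s : Gl D T} {y' : D.Y'.obj.obj (op T)} (h : Ev s y') {T' : C} (l : T' ⟶ T) :
    Ev (Gl.res l s) (D.Y'.obj.map l.op y') := by
  have hx := h.hx
  obtain ⟨h1, h2⟩ := h
  exact ⟨Ev.hx' (ev_res_aux hx l), (b_res hx l).trans (congrArg _ h2)⟩

theorem Ev.of_cover {T : C} {s : Gl D T} {y' : D.Y'.obj.obj (op T)} {R : Sieve T} (hR : R ∈ J T)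
    (h : ∀ {T' : C} (k : T' ⟶ T), R k → Ev (Gl.res k s) (D.Y'.obj.map k.op y')) : Ev s y' := by
  have hx : D.f.hom.app (op T) (D.pY.hom.app _ y') = s.x := by
    refine K642.Glue.sep D.X hR fun T' k hk => ?_
    rw [← naturality, ← naturality]
    exact (h k hk).hx
  refine ⟨Ev.hx' hx, ?_⟩
  refine K642.Glue.sep D.Y' hR fun T' k hk => ?_
  obtain ⟨h1, h2⟩ := h k hk
  exact (b_res hx k).symm.trans h2

/-- The condition under which a section of `Y'` defines a section of the glued sheaf. -/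
def Star {T : C} (y' : D.Y'.obj.obj (op T)) : Prop := ∃! s : Gl D T, Ev s y'

/-- `Star` is local. -/
theorem star_of_cover {T : C} (y' : D.Y'.obj.obj (op T)) {R : Sieve T} (hR : R ∈ J T)
    (h : ∀ {T' : C} (k : T' ⟶ T), R k → Star (D.Y'.obj.map k.op y')) : Star y' := by
  choose s hs hs' using @h
  have hres : ∀ {T₁ T₂ : C} (k : T₁ ⟶ T) (hk : R k) (l : T₂ ⟶ T₁) (hl : R (l ≫ k)),
      s (l ≫ k) hl = Gl.res l (s k hk) := by
    intro T₁ T₂ k hk l hl
    refine (hs' _ hl _ ?_).symm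
    have h1 : Ev (Gl.res l (s k hk)) _ := Ev.res (hs k hk) l
    rw [← map_comp] at h1
    exact h1
  obtain ⟨t, ht, ht'⟩ := isSheaf_psh (D := D) R hR (fun T' k hk => s k hk) (by
    rw [Presieve.compatible_iff_sieveCompatible]
    intro T₁ T₂ k l hk
    exact hres k hk l _)
  replace ht : ∀ {T' : C} (k : T' ⟶ T) (hk : R k), Gl.res k t = s k hk := fun k hk => ht k hk
  refine ⟨t, Ev.of_cover hR fun k hk => ?_, ?_⟩
  · rw [ht k hk]
    exact hs k hk
  · intro t' h1
    exact ht' t' fun T' k hk => hs' k hk _ (h1.res k)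

/-- The map `Y' ⟶ X'`. -/
noncomputable def aY (hs : ∀ {T : C} (y' : D.Y'.obj.obj (op T)), Star y') : D.Y' ⟶ D.sh := ⟨{
  app := fun T => TypeCat.ofHom (fun y' => (hs (T := T.unop) y').choose)
  naturality := fun {T T'} k => by
    ext y'
    change (hs (T := T'.unop) (D.Y'.obj.map k.unop.op y')).choose = Gl.res k.unop (hs (T := T.unop) y').choose
    exact ((hs (T := T'.unop) (D.Y'.obj.map k.unop.op y')).choose_spec.2 _
      ((hs (T := T.unop) y').choose_spec.1.res k.unop)).symm }⟩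

theorem ev_aY (hs : ∀ {T : C} (y' : D.Y'.obj.obj (op T)), Star y') {T : C} (y' : D.Y'.obj.obj (op T)) :
    Ev ((aY hs).hom.app (op T) y') y' := (hs y').choose_spec.1

theorem eq_aY (hs : ∀ {T : C} (y' : D.Y'.obj.obj (op T)), Star y') {T : C} (y' : D.Y'.obj.obj (op T))
    {s : Gl D T} (h : Ev s y') : s = (aY hs).hom.app (op T) y' := (hs y').choose_spec.2 s h

theorem isPullback_aY (hs : ∀ {T : C} (y' : D.Y'.obj.obj (op T)), Star y') :
    IsPullback (aY hs) D.pY D.π D.f := by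
  rw [isPullback_iff_app]
  refine ⟨fun T y' => (ev_aY hs y').hx.symm, fun T y₁ y₂ h₁ h₂ => ?_, fun T s y h => ?_⟩
  · obtain ⟨h3, h4⟩ := ev_aY hs y₁
    obtain ⟨h5, h6⟩ := ev_aY hs y₂
    rw [← h4, ← h6]
    exact Gl.congr_b h₁ rfl h₂ _ _
  · change s.x = D.f.hom.app _ y at h
    have h0 : D.f.hom.app (op T) y = D.X.obj.map (𝟙 T).op s.x := by rw [map_id, h]
    refine ⟨s.F.b.val (𝟙 T) y h0, ?_, s.F.b.hval _ _ _⟩
    refine (eq_aY hs _ ⟨?_, ?_⟩).symm
    · rw [s.F.b.hval]; exact h0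
    · exact s.F.b.congr_val rfl (s.F.b.hval _ _ _) _ _

theorem eU_aU_eq_eY_aY (hs : ∀ {T : C} (y' : D.Y'.obj.obj (op T)), Star y') :
    D.eU ≫ aU hj = D.eY ≫ aY hs := by
  apply ObjectProperty.hom_ext
  ext T v'
  obtain ⟨T⟩ := T
  change ofU hj (D.eU.hom.app _ v') = (aY hs).hom.app (op T) (D.eY.hom.app _ v')
  have hx : D.f.hom.app (op T) (D.pY.hom.app _ (D.eY.hom.app _ v')) = (ofU hj (D.eU.hom.app _ v')).x := by
    rw [ofU_x, D.wY', D.wU', D.wV]
  refine eq_aY hs _ ⟨Ev.hx' hx, ?_⟩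
  refine ofU_b hj _ _ _ _ v' ?_ ?_
  · rw [map_id]
  · rw [D.wY']

/-- A solution of the glueing problem over `x ∈ X(T)`. -/
structure Sol {T : C} (x : D.X.obj.obj (op T)) where
  /-- the object -/
  A : C
  /-- the structure map -/
  p : A ⟶ T
  /-- the universal pair -/
  s : Gl D A
  hs : s.x = D.X.obj.map p.op x
  rep : ∀ {T' : C} (k : T' ⟶ T) (t : Gl D T'), t.x = D.X.obj.map k.op x → ∃! l : T' ⟶ A, l ≫ p = k ∧ Gl.res l s = t
  repY : ∀ {T' : C} (k : T' ⟶ T) (y' : D.Y'.obj.obj (op T')), D.f.hom.app _ (D.pY.hom.app _ y') = D.X.obj.map k.op x →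
    ∃! l : T' ⟶ A, l ≫ p = k ∧ Ev (Gl.res l s) y'

theorem Sol.star {T : C} {x : D.X.obj.obj (op T)} (S : Sol x) {T' : C} (k : T' ⟶ T) (y' : D.Y'.obj.obj (op T'))
    (h : D.f.hom.app _ (D.pY.hom.app _ y') = D.X.obj.map k.op x) : Star y' := by
  obtain ⟨l, ⟨h1, h2⟩, h3⟩ := S.repY k y' h
  refine ⟨Gl.res l S.s, h2, ?_⟩
  intro t ht
  obtain ⟨l', ⟨h4, h5⟩, -⟩ := S.rep k t (by rw [← ht.hx, h])
  rw [← h5, h3 l' ⟨h4, by rw [h5]; exact ht⟩]

end Dat

end K648.FGSheaf
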