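import Groth.Agent.AlgSp.K648.FGSch
import Mathlib.AlgebraicGeometry.Morphisms.Separated

/-!
# Formal glueing of affine schemes: effectivity in the flat case
-/

set_option autoImplicit false
set_option backward.isDefEq.respectTransparency false
universe u

open CategoryTheory CategoryTheory.Limits AlgebraicGeometry Opposite

namespace K648.FG

/-- A ring map with `f`-power torsion kernel and cokernel becomes an isomorphism after inverting `f`. -/
theorem bijective_of_away {A B A' B' : Type u} [CommRing A] [CommRing B] [CommRing A'] [CommRing B'] (φ : A →+* B)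
    (f : A) [Algebra A A'] [IsLocalization.Away f A'] [Algebra B B'] [IsLocalization.Away (φ f) B'] (φ' : A' →+* B')
    (hφ : ∀ a, φ' (algebraMap A A' a) = algebraMap B B' (φ a))
    (hk : ∀ a, φ a = 0 → ∃ n : ℕ, f ^ n * a = 0) (hc : ∀ b, ∃ (n : ℕ) (a : A), φ a = φ f ^ n * b) :
    Function.Bijective φ' := by
  have hu : IsUnit (algebraMap A A' f) := IsLocalization.Away.algebraMap_isUnit f
  have hu' : IsUnit (algebraMap B B' (φ f)) := IsLocalization.Away.algebraMap_isUnit (φ f)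
  constructor
  · rw [injective_iff_map_eq_zero]
    intro x hx
    obtain ⟨n, a, ha⟩ := IsLocalization.Away.surj f x
    have h1 : algebraMap B B' (φ a) = 0 := by rw [← hφ, ← ha, map_mul, hx, zero_mul]
    rw [← map_zero (algebraMap B B')] at h1
    obtain ⟨m, hm⟩ := IsLocalization.Away.exists_of_eq (φ f) h1
    rw [mul_zero, ← map_pow, ← map_mul] at hm
    obtain ⟨k, hk⟩ := hk _ hm
    have h2 : algebraMap A A' (f ^ k * (f ^ m * a)) = 0 := by rw [hk, map_zero]
    rw [map_mul, map_mul, ← ha, map_pow, map_pow] at h2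
    have h3 : x * (algebraMap A A' f) ^ (n + m + k) = 0 := by
      rw [← h2]; ring
    exact (hu.pow _).mul_left_eq_zero.1 h3
  · intro y
    obtain ⟨n, b, hb⟩ := IsLocalization.Away.surj (φ f) y
    obtain ⟨m, a, ha⟩ := hc b
    obtain ⟨v, hv⟩ := hu.pow (m + n)
    have hv' : (↑v⁻¹ : A') * algebraMap A A' f ^ (m + n) = 1 := by rw [← hv]; exact v.inv_mul
    refine ⟨algebraMap A A' a * ↑v⁻¹, ?_⟩
    have h1 : φ' (algebraMap A A' a * ↑v⁻¹) * algebraMap B B' (φ f) ^ (m + n) =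
        y * algebraMap B B' (φ f) ^ (m + n) := by
      rw [← hφ, ← map_pow, ← map_mul, mul_assoc, hv', mul_one, hφ, ha, map_mul, ← hb, map_pow, map_pow φ', hφ]
      ring
    exact (hu'.pow _).mul_right_cancel h1

/-- Localized version on schemes. -/
theorem isIso_app_of_tors {X Y : Scheme.{u}} (g : X ⟶ Y) [CompactSpace X] [QuasiSeparatedSpace X] [CompactSpace Y]
    [QuasiSeparatedSpace Y] (f : Γ(Y, ⊤)) (hk : ∀ a, g.appTop a = 0 → ∃ n : ℕ, f ^ n * a = 0)
    (hc : ∀ b, ∃ (n : ℕ) (a : Γ(Y, ⊤)), g.appTop a = g.appTop f ^ n * b) : IsIso (g.app (Y.basicOpen f)) := by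
  let A' := Γ(Y, Y.basicOpen f)
  let B' := Γ(X, g ⁻¹ᵁ Y.basicOpen f)
  let : Algebra Γ(Y, ⊤) A' := (Y.presheaf.map (homOfLE (Y.basicOpen_le f)).op).hom.toAlgebra
  let : Algebra Γ(X, ⊤) B' := (X.presheaf.map (homOfLE (le_top : g ⁻¹ᵁ Y.basicOpen f ≤ ⊤)).op).hom.toAlgebra
  have h1 : IsLocalization.Away f A' := isLocalization_basicOpen_of_qcqs (U := ⊤) isCompact_univ
    isQuasiSeparated_univ f
  have h2 : IsLocalization.Away (g.appTop.hom f) B' := by
    have h3 := isLocalization_basicOpen_of_qcqs (X := X) (U := ⊤) isCompact_univ isQuasiSeparated_univ (g.appTop f)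
    have h4 : X.basicOpen (g.appTop f) = g ⁻¹ᵁ Y.basicOpen f := (Scheme.preimage_basicOpen_top g f).symm
    have h5 : ∀ (U V : X.Opens) (_ : U = V) (hU : U ≤ ⊤) (hV : V ≤ ⊤),
        @IsLocalization.Away _ _ (g.appTop f) Γ(X, U) _ (X.presheaf.map (homOfLE hU).op).hom.toAlgebra →
        @IsLocalization.Away _ _ (g.appTop f) Γ(X, V) _ (X.presheaf.map (homOfLE hV).op).hom.toAlgebra := by
      rintro U _ rfl _ _ h
      exact h
    exact h5 _ _ h4 le_top le_top h3
  have h6 := bijective_of_away (A' := A') (B' := B') g.appTop.hom f (g.app (Y.basicOpen f)).hom (fun a =>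
    ConcreteCategory.congr_hom (g.naturality (homOfLE (Y.basicOpen_le f)).op) a) hk hc
  exact (ConcreteCategory.isIso_iff_bijective (g.app (Y.basicOpen f))).2 h6

theorem isIso_app_of_comp {X Y Z : Scheme.{u}} (k : X ⟶ Y) (g : Y ⟶ Z) (O : Z.Opens) (h : IsIso ((k ≫ g).app O))
    (h' : IsIso (g.app O)) : IsIso (k.app (g ⁻¹ᵁ O)) := by
  rw [Scheme.Hom.comp_app] at h
  exact IsIso.of_isIso_comp_left (g.app O) (k.app (g ⁻¹ᵁ O))

/-- Affine schemes over `U` and over `W` glue to an affine scheme over `T`. -/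
theorem FP.exists_glue {T W Z U V : Scheme.{u}} {w : W ⟶ T} {i : Z ⟶ T} (h : FP w i) {j : U ⟶ T}
    (hj : Compl i j) {v₁ : V ⟶ U} {v₂ : V ⟶ W} (H : IsPullback v₁ v₂ j w) {U' W' V' : Scheme.{u}}
    {pU : U' ⟶ U} {pW : W' ⟶ W} {pV : V' ⟶ V} {eU : V' ⟶ U'} {eW : V' ⟶ W'} (HU : IsPullback eU pV pU v₁)
    (HW : IsPullback eW pV pW v₂) [IsAffineHom pU] [IsAffineHom pW] :
    ∃ (X' : Scheme.{u}) (p : X' ⟶ T) (aU : U' ⟶ X') (aW : W' ⟶ X'), IsAffine X' ∧ IsPullback aU pU p j ∧
      IsPullback aW pW p w ∧ eU ≫ aU = eW ≫ aW := by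
  have := h.affT
  have := h.affW
  have := h.cl
  have := h.fp
  have := h.flat
  have := hj.op
  have : QuasiCompact j := hj.quasiCompact
  have : CompactSpace U := QuasiCompact.compactSpace_of_compactSpace j
  have : QuasiSeparatedSpace U := QuasiSeparatedSpace.of_isOpenEmbedding j.isOpenEmbedding
  have : CompactSpace U' := QuasiCompact.compactSpace_of_compactSpace pU
  have : QuasiSeparatedSpace U' := quasiSeparatedSpace_of_quasiSeparated pU
  have : IsAffine W' := isAffine_of_isAffineHom pW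
  have HUT : IsPullback eU (pV ≫ v₂) (pU ≫ j) w := HU.paste_vert H
  have HWT : IsPullback eW (pV ≫ v₁) (pW ≫ w) j := HW.paste_vert H.flip
  have hp : IsPushout (pU ≫ j).appTop w.appTop eU.appTop (pV ≫ v₂).appTop := isPushout_appTop_of_flat HUT
  -- algebra structures
  let : Algebra Γ(T, ⊤) Γ(W, ⊤) := w.appTop.hom.toAlgebra
  let : Algebra Γ(T, ⊤) Γ(U', ⊤) := (pU ≫ j).appTop.hom.toAlgebra
  let : Algebra Γ(W, ⊤) Γ(V', ⊤) := (pV ≫ v₂).appTop.hom.toAlgebra
  let : Algebra Γ(U', ⊤) Γ(V', ⊤) := eU.appTop.hom.toAlgebra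
  let : Algebra Γ(T, ⊤) Γ(V', ⊤) := ((pV ≫ v₂).appTop.hom.comp w.appTop.hom).toAlgebra
  let : Algebra Γ(W, ⊤) Γ(W', ⊤) := pW.appTop.hom.toAlgebra
  let : Algebra Γ(T, ⊤) Γ(W', ⊤) := (pW.appTop.hom.comp w.appTop.hom).toAlgebra
  have : IsScalarTower Γ(T, ⊤) Γ(W, ⊤) Γ(V', ⊤) := IsScalarTower.of_algebraMap_eq' rfl
  have : IsScalarTower Γ(T, ⊤) Γ(W, ⊤) Γ(W', ⊤) := IsScalarTower.of_algebraMap_eq' rfl
  have : IsScalarTower Γ(T, ⊤) Γ(U', ⊤) Γ(V', ⊤) := IsScalarTower.of_algebraMap_eq'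
    (congrArg CommRingCat.Hom.hom hp.w.symm)
  have hp' : Algebra.IsPushout Γ(T, ⊤) Γ(W, ⊤) Γ(U', ⊤) Γ(V', ⊤) := CommRingCat.isPushout_iff_isPushout.1 hp.flip
  have hfl : Module.Flat Γ(T, ⊤) Γ(W, ⊤) := (HasRingHomProperty.appTop (P := @Flat) w inferInstance : w.appTop.hom.Flat)
  let φ : Γ(W', ⊤) →ₐ[Γ(W, ⊤)] Γ(V', ⊤) :=
    { eW.appTop.hom with
      commutes' := fun r => by
        have h1 : pW.appTop ≫ eW.appTop = (pV ≫ v₂).appTop := by rw [← Scheme.Hom.comp_appTop, HW.w]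
        exact ConcreteCategory.congr_hom h1 r }
  have hφ : ∀ x, φ x = eW.appTop x := fun x => rfl
  have hkφ : ∀ x, φ x = 0 → ∃ n : ℕ, ∀ a ∈ idl i ^ n, a • x = 0 := by
    intro x hx
    obtain ⟨n, hn⟩ := hj.tors_ker HWT x hx
    refine ⟨n, fun a ha => ?_⟩
    have h1 := hn a ha
    rw [Scheme.Hom.comp_appTop] at h1
    rw [Algebra.smul_def]
    exact h1
  have hcφ : ∀ y : Γ(V', ⊤), ∃ n : ℕ, ∀ a ∈ idl i ^ n, ∃ x, φ x = a • y := by
    intro y
    obtain ⟨n, hn⟩ := hj.tors_coker HWT y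
    refine ⟨n, fun a ha => ?_⟩
    obtain ⟨r, hr⟩ := hn a ha
    refine ⟨r, ?_⟩
    rw [hφ, hr, Algebra.smul_def]
    congr 1
    have h1 : w.appTop ≫ (pV ≫ v₂).appTop = (pW ≫ w).appTop ≫ eW.appTop := by
      rw [← Scheme.Hom.comp_appTop, ← Scheme.Hom.comp_appTop, Category.assoc, HW.w_assoc]
    exact (ConcreteCategory.congr_hom h1 a).symm
  let B := glued (R := Γ(T, ⊤)) (N := Γ(U', ⊤)) φ
  let βC : B →+* Γ(W', ⊤) := (RingHom.fst _ _).comp B.subtype
  let βN : B →+* Γ(U', ⊤) := (RingHom.snd _ _).comp B.subtype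
  let : Algebra B Γ(W', ⊤) := βC.toAlgebra
  have : IsScalarTower Γ(T, ⊤) B Γ(W', ⊤) := IsScalarTower.of_algebraMap_eq' rfl
  have hB : Algebra.IsPushout Γ(T, ⊤) Γ(W, ⊤) B Γ(W', ⊤) := ⟨isPushout_glued (N := Γ(U', ⊤)) h.bijective φ hkφ hcφ⟩
  let α : Γ(T, ⊤) ⟶ CommRingCat.of B := CommRingCat.ofHom (algebraMap Γ(T, ⊤) B)
  have hB' : IsPushout w.appTop α pW.appTop (CommRingCat.ofHom βC) := CommRingCat.isPushout_iff_isPushout.2 hB
  let X' : Scheme.{u} := Spec (CommRingCat.of B)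
  let p : X' ⟶ T := Spec.map α ≫ T.isoSpec.inv
  let aU : U' ⟶ X' := U'.toSpecΓ ≫ Spec.map (CommRingCat.ofHom βN)
  let aW : W' ⟶ X' := W'.toSpecΓ ≫ Spec.map (CommRingCat.ofHom βC)
  have hpT : p ≫ T.toSpecΓ = Spec.map α := by
    dsimp only [p]
    rw [Category.assoc, Scheme.isoSpec_inv_toSpecΓ, Category.comp_id]
  have hαN : α ≫ CommRingCat.ofHom βN = (pU ≫ j).appTop := rfl
  have hαC : α ≫ CommRingCat.ofHom βC = (pW ≫ w).appTop := by
    rw [Scheme.Hom.comp_appTop]; rfl
  have hpapp : ∀ f : Γ(T, ⊤), (Scheme.ΓSpecIso (CommRingCat.of B)).hom (p.appTop f) = algebraMap Γ(T, ⊤) B f := by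
    have h1 := congrArg (fun k => k.appTop) hpT
    simp only [Scheme.Hom.comp_appTop, Scheme.toSpecΓ_appTop] at h1
    have h2 : p.appTop ≫ (Scheme.ΓSpecIso (CommRingCat.of B)).hom = α := by
      rw [← cancel_epi (Scheme.ΓSpecIso Γ(T, ⊤)).hom, reassoc_of% h1, Scheme.ΓSpecIso_naturality]
    intro f
    exact ConcreteCategory.congr_hom h2 f
  have haU : aU.appTop = (Scheme.ΓSpecIso (CommRingCat.of B)).hom ≫ CommRingCat.ofHom βN := by
    dsimp only [aU]
    rw [Scheme.Hom.comp_appTop, Scheme.toSpecΓ_appTop, Scheme.ΓSpecIso_naturality]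
  have wU : aU ≫ p = pU ≫ j := by
    rw [← cancel_mono T.toSpecΓ, Category.assoc, hpT, Scheme.toSpecΓ_naturality]
    dsimp only [aU]
    rw [Category.assoc, ← Spec.map_comp, hαN]
  have wW : aW ≫ p = pW ≫ w := by
    rw [← cancel_mono T.toSpecΓ, Category.assoc, hpT, Scheme.toSpecΓ_naturality]
    dsimp only [aW]
    rw [Category.assoc, ← Spec.map_comp, hαC]
  refine ⟨X', p, aU, aW, inferInstance, ?_, ?_, ?_⟩
  · have haUp : ∀ f, aU.appTop (p.appTop f) = (pU ≫ j).appTop f := by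
      intro f
      rw [← wU]
      exact (ConcreteCategory.congr_hom (Scheme.Hom.comp_appTop aU p) f).symm
    have key : ∀ f ∈ idl i, IsIso (aU.app (X'.basicOpen (p.appTop f))) := by
      intro f hf
      refine isIso_app_of_tors aU (p.appTop f) ?_ ?_
      · intro a ha
        have h1 : βN ((Scheme.ΓSpecIso (CommRingCat.of B)).hom a) = 0 := by
          rw [haU] at ha
          exact ha
        obtain ⟨b, hb⟩ : ∃ b : B, b = (Scheme.ΓSpecIso (CommRingCat.of B)).hom a := ⟨_, rfl⟩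
        rw [← hb] at h1
        have h2 : φ (b : Γ(W', ⊤) × Γ(U', ⊤)).1 = 0 := by
          have h3 := b.2
          rw [mem_glued] at h3
          have h4 : (b : Γ(W', ⊤) × Γ(U', ⊤)).2 = 0 := h1
          rw [h3, h4, map_zero]
        obtain ⟨n, hn⟩ := hkφ _ h2
        refine ⟨n, ?_⟩
        apply (ConcreteCategory.bijective_of_isIso (Scheme.ΓSpecIso (CommRingCat.of B)).hom).1
        rw [map_mul, map_pow, hpapp, ← hb, map_zero, ← map_pow]
        apply Subtype.ext
        apply Prod.ext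
        · have h5 := hn (f ^ n) (Ideal.pow_mem_pow hf n)
          rw [Algebra.smul_def] at h5
          exact h5
        · have h4 : (b : Γ(W', ⊤) × Γ(U', ⊤)).2 = 0 := h1
          change _ * (b : Γ(W', ⊤) × Γ(U', ⊤)).2 = 0
          rw [h4, mul_zero]
      · intro x
        obtain ⟨n, hn⟩ := hcφ (eU.appTop x)
        obtain ⟨r, hr⟩ := hn (f ^ n) (Ideal.pow_mem_pow hf n)
        let b : B := ⟨(r, f ^ n • x), by
          rw [mem_glued, hr]
          rw [← algebraMap_smul Γ(U', ⊤) (f ^ n) (eU.appTop x), Algebra.smul_def (f ^ n) x, map_mul]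
          rfl⟩
        refine ⟨n, (Scheme.ΓSpecIso (CommRingCat.of B)).inv b, ?_⟩
        rw [haUp, haU]
        change βN ((Scheme.ΓSpecIso (CommRingCat.of B)).hom ((Scheme.ΓSpecIso (CommRingCat.of B)).inv b)) = _
        have h5 : (Scheme.ΓSpecIso (CommRingCat.of B)).hom ((Scheme.ΓSpecIso (CommRingCat.of B)).inv b) = b :=
          ConcreteCategory.congr_hom (Scheme.ΓSpecIso (CommRingCat.of B)).inv_hom_id b
        rw [h5]
        change f ^ n • x = _
        rw [Algebra.smul_def, map_pow]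
        rfl
    let k : U' ⟶ pullback p j := pullback.lift aU pU wU
    have hk1 : k ≫ pullback.fst p j = aU := pullback.lift_fst _ _ _
    have hk2 : k ≫ pullback.snd p j = pU := pullback.lift_snd _ _ _
    have hka : IsAffineHom k := by
      have h1 : IsAffineHom (k ≫ pullback.snd p j) := by rw [hk2]; infer_instance
      exact MorphismProperty.of_postcomp (W := @IsAffineHom) (W' := @IsSeparated) k (pullback.snd p j)
        inferInstance h1
    have hkI : IsIso k := by
      have hloc : ∀ f ∈ idl i, IsIso (k ∣_ (pullback.fst p j ⁻¹ᵁ (X'.basicOpen (p.appTop f)))) := by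
        intro f hf
        have hle : X'.basicOpen (p.appTop f) ≤ (pullback.fst p j).opensRange := by
          rw [← Scheme.preimage_basicOpen_top]
          intro x hx
          have h1 : p x ∈ Set.range j := hj.basicOpen_le hf hx
          change x ∈ Set.range (pullback.fst p j)
          rw [IsOpenImmersion.range_pullbackFst]
          exact h1
        have h2 : IsAffineOpen (pullback.fst p j ⁻¹ᵁ (X'.basicOpen (p.appTop f))) :=
          ((isAffineOpen_top X').basicOpen _).preimage_of_isOpenImmersion _ hle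
        rw [isIso_morphismRestrict_iff_isIso_app k h2]
        have h3 := (pullback.fst p j).isIso_app _ hle
        have h4 := key f hf
        refine isIso_app_of_comp k (pullback.fst p j) _ ?_ h3
        rw [hk1]; exact h4
      have hcov : ⨆ f : idl i, pullback.fst p j ⁻¹ᵁ (X'.basicOpen (p.appTop (f : Γ(T, ⊤)))) = ⊤ := by
        rw [eq_top_iff]
        intro y _
        rw [TopologicalSpace.Opens.mem_iSup]
        obtain ⟨f, hf, hy⟩ := hj.exists_mem (pullback.snd p j y)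
        refine ⟨⟨f, hf⟩, ?_⟩
        rw [← Scheme.preimage_basicOpen_top]
        change p (pullback.fst p j y) ∈ T.basicOpen f
        rw [← Scheme.Hom.comp_apply, pullback.condition]
        exact hy
      exact IsZariskiLocalAtTarget.of_iSup_eq_top (P := MorphismProperty.isomorphisms Scheme) _ hcov
        fun f => hloc f f.2
    exact IsPullback.of_iso_pullback ⟨wU⟩ (asIso k) hk1 hk2
  · have h1 := isPullback_SpecMap_of_isPushout _ _ _ _ hB'.flip
    refine IsPullback.of_iso h1 W'.isoSpec.symm (Iso.refl _) W.isoSpec.symm T.isoSpec.symm ?_ ?_ ?_ ?_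
    · dsimp only [aW]
      rw [Iso.symm_hom, ← Category.assoc, Scheme.isoSpec_inv_toSpecΓ]
      simp
    · exact Scheme.isoSpec_inv_naturality pW
    · simp [p]
    · exact Scheme.isoSpec_inv_naturality w
  · dsimp only [aU, aW]
    rw [Scheme.toSpecΓ_naturality_assoc, Scheme.toSpecΓ_naturality_assoc, ← Spec.map_comp, ← Spec.map_comp]
    congr 2
    ext b
    exact b.2.symm

end K648.FG
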