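import Groth.Agent.AlgSp.K648.FGAlg
import Mathlib.AlgebraicGeometry.Morphisms.ClosedImmersion
import Mathlib.AlgebraicGeometry.Morphisms.FinitePresentation
import Mathlib.AlgebraicGeometry.Morphisms.Flat
import Mathlib.AlgebraicGeometry.Morphisms.QuasiSeparated

/-!
# Formal glueing: torsion of kernels and cokernels of restriction to the complement of `Z ⊂ T`
-/

set_option autoImplicit false
set_option backward.isDefEq.respectTransparency false
universe u

open CategoryTheory CategoryTheory.Limits AlgebraicGeometry Opposite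

namespace K648.FG

section Closed

variable {T Z : Scheme.{u}} (i : Z ⟶ T) [IsClosedImmersion i] [IsAffine T]

/-- The ideal of a closed subscheme of an affine scheme. -/
abbrev idl : Ideal Γ(T, ⊤) := RingHom.ker i.appTop.hom

theorem surjective_appTop : Function.Surjective i.appTop.hom :=
  (IsClosedImmersion.isAffine_surjective_of_isAffine i).2

include i in
theorem isAffine_of_closed : IsAffine Z := (IsClosedImmersion.isAffine_surjective_of_isAffine i).1

theorem idl_fg [LocallyOfFinitePresentation i] : (idl i).FG := by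
  have := isAffine_of_closed i
  have h : i.appTop.hom.FinitePresentation :=
    HasRingHomProperty.appTop (P := @LocallyOfFinitePresentation) i inferInstance
  algebraize [i.appTop.hom]
  exact Algebra.FinitePresentation.ker_fG_of_surjective (Algebra.ofId Γ(T, ⊤) Γ(Z, ⊤)) (surjective_appTop i)

omit [IsClosedImmersion i] [IsAffine T] in
theorem basicOpen_disjoint {f : Γ(T, ⊤)} (hf : f ∈ idl i) (z : Z) : i z ∉ T.basicOpen f := by
  intro h
  have h1 : z ∈ i ⁻¹ᵁ (T.basicOpen f) := h
  rw [Scheme.preimage_basicOpen] at h1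
  have h2 : i.app ⊤ f = 0 := hf
  rw [h2, Scheme.basicOpen_zero] at h1
  exact h1

theorem exists_mem_basicOpen {t : T} (ht : t ∉ Set.range i) : ∃ f ∈ idl i, t ∈ T.basicOpen f := by
  have hZ := isAffine_of_closed i
  by_contra hcon
  push Not at hcon
  apply ht
  have hr := range_comap_of_surjective Γ(Z, ⊤) i.appTop.hom (surjective_appTop i)
  have h1 : T.toSpecΓ t ∈ PrimeSpectrum.zeroLocus (idl i : Set Γ(T, ⊤)) := by
    intro f hf
    by_contra h2
    apply hcon f hf
    have h3 : t ∈ T.toSpecΓ ⁻¹ᵁ (PrimeSpectrum.basicOpen f) := h2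
    rwa [Scheme.toSpecΓ_preimage_basicOpen] at h3
  rw [← hr] at h1
  obtain ⟨z, hz⟩ := h1
  obtain ⟨z, rfl⟩ := (ConcreteCategory.bijective_of_isIso (Z.toSpecΓ.base)).2 z
  refine ⟨z, ?_⟩
  apply (ConcreteCategory.bijective_of_isIso (T.toSpecΓ.base)).1
  rw [← hz]
  have := Scheme.toSpecΓ_naturality i
  have h4 := congrArg (fun k => k z) this
  exact h4

end Closed

theorem range_snd_of_isPullback {P X Y Z : Scheme.{u}} {fst : P ⟶ X} {snd : P ⟶ Y} {f : X ⟶ Z} {g : Y ⟶ Z}
    (h : IsPullback fst snd f g) : Set.range snd = g ⁻¹' Set.range f := by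
  rw [← Scheme.Pullback.range_snd, ← h.isoPullback_hom_snd]
  ext y
  constructor
  · rintro ⟨x, rfl⟩
    exact ⟨h.isoPullback.hom x, rfl⟩
  · rintro ⟨x, rfl⟩
    refine ⟨h.isoPullback.inv x, ?_⟩
    rw [← Scheme.Hom.comp_apply, Iso.inv_hom_id_assoc]

section Open

variable {T Z U : Scheme.{u}} (i : Z ⟶ T) (j : U ⟶ T)

/-- Complementary closed and open subschemes. -/
structure Compl : Prop where
  cl : IsClosedImmersion i
  op : IsOpenImmersion j
  compl : Set.range j = (Set.range i)ᶜ

variable {i j}

theorem Compl.basicOpen_le (h : Compl i j) {f : Γ(T, ⊤)} (hf : f ∈ idl i) :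
    have := h.op
    T.basicOpen f ≤ j.opensRange := by
  intro _ t ht
  change t ∈ Set.range j
  rw [h.compl]
  rintro ⟨z, rfl⟩
  exact basicOpen_disjoint i hf z ht

theorem Compl.exists_mem [IsAffine T] (h : Compl i j) (u : U) : ∃ f ∈ idl i, j u ∈ T.basicOpen f := by
  have := h.cl
  refine exists_mem_basicOpen i fun h1 => ?_
  have h2 : j u ∈ Set.range j := ⟨u, rfl⟩
  rw [h.compl] at h2
  exact h2 h1

theorem Compl.isCompact [IsAffine T] [LocallyOfFinitePresentation i] (h : Compl i j) :
    IsCompact (Set.range j) := by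
  have := h.cl
  have := h.op
  obtain ⟨s, hs⟩ := idl_fg i
  have h1 : Set.range j = ⋃ f ∈ s, (T.basicOpen f : Set T) := by
    ext t
    simp only [Set.mem_iUnion]
    constructor
    · rintro ⟨u, rfl⟩
      obtain ⟨f, hf, hu⟩ := h.exists_mem u
      by_contra hcon
      push Not at hcon
      have h2 : ∀ g ∈ idl i, j u ∉ T.basicOpen g := by
        intro g hg
        rw [← hs] at hg
        induction hg using Submodule.span_induction with
        | mem x hx => exact hcon x hx
        | zero => rw [Scheme.basicOpen_zero]; exact fun h => h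
        | add x y _ _ hx hy =>
          intro h3
          have := Scheme.basicOpen_add_le T (U := ⊤) x y h3
          exact this.elim hx hy
        | smul a x _ hx =>
          intro h3
          rw [smul_eq_mul, Scheme.basicOpen_mul] at h3
          exact hx h3.2
      exact h2 f hf hu
    · rintro ⟨f, hf, ht⟩
      exact h.basicOpen_le (hs ▸ Ideal.subset_span hf) ht
  rw [h1]
  exact s.isCompact_biUnion fun f _ => ((isAffineOpen_top T).basicOpen f).isCompact

theorem Compl.quasiCompact [IsAffine T] [LocallyOfFinitePresentation i] (h : Compl i j) : QuasiCompact j := by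
  have := h.op
  have h1 : CompactSpace U := by
    rw [← isCompact_univ_iff, j.isOpenEmbedding.isInducing.isCompact_iff, Set.image_univ]
    exact h.isCompact
  exact (quasiCompact_iff_compactSpace j).2 h1

/-- Base change of complementary subschemes. -/
theorem Compl.of_isPullback (h : Compl i j) {T' Z' U' : Scheme.{u}} {t : T' ⟶ T} {i' : Z' ⟶ T'} {j' : U' ⟶ T'}
    {b : Z' ⟶ Z} {a : U' ⟶ U} (hZ : IsPullback b i' i t) (hU : IsPullback a j' j t) : Compl i' j' where
  cl := by
    have := h.cl
    exact MorphismProperty.of_isPullback hZ this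
  op := by
    have := h.op
    exact MorphismProperty.of_isPullback hU this
  compl := by
    rw [range_snd_of_isPullback hZ, range_snd_of_isPullback hU, h.compl, Set.preimage_compl]

/-- A function vanishing on an open subscheme containing `D(f)` is killed by a power of `f`. -/
theorem exists_pow_mul_eq_zero {X V : Scheme.{u}} (κ : V ⟶ X) [IsOpenImmersion κ] [CompactSpace X] (f : Γ(X, ⊤))
    (hf : X.basicOpen f ≤ κ.opensRange) (r : Γ(X, ⊤)) (hr : κ.appTop r = 0) : ∃ n : ℕ, f ^ n * r = 0 := by
  refine exists_pow_mul_eq_zero_of_res_basicOpen_eq_zero_of_isCompact X (U := ⊤) isCompact_univ r f ?_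
  have := κ.isIso_app _ hf
  apply (ConcreteCategory.bijective_of_isIso (κ.app (X.basicOpen f))).1
  rw [map_zero]
  have h1 := ConcreteCategory.congr_hom (κ.naturality (homOfLE (X.basicOpen_le f)).op) r
  refine h1.trans ?_
  have h2 : (κ.app ⊤) r = 0 := hr
  rw [CommRingCat.comp_apply, h2, map_zero]

/-- A function on an open subscheme containing `D(f)` extends after multiplication by a power of `f`. -/
theorem exists_pow_mul_eq {X V : Scheme.{u}} (κ : V ⟶ X) [IsOpenImmersion κ] [CompactSpace X]
    [QuasiSeparatedSpace X] [CompactSpace V] (f : Γ(X, ⊤))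
    (hf : X.basicOpen f ≤ κ.opensRange) (v : Γ(V, ⊤)) :
    ∃ (n : ℕ) (r : Γ(X, ⊤)), κ.appTop r = κ.appTop f ^ n * v := by
  have := κ.isIso_app _ hf
  let U : V.Opens := κ ⁻¹ᵁ X.basicOpen f
  obtain ⟨x, hx⟩ := (ConcreteCategory.bijective_of_isIso (κ.app (X.basicOpen f))).2
    (V.presheaf.map (homOfLE (le_top : U ≤ ⊤)).op v)
  obtain ⟨n, y, hy⟩ := exists_eq_pow_mul_of_isCompact_of_isQuasiSeparated X ⊤ isCompact_univ
    isQuasiSeparated_univ f x
  -- `κ y - f ^ n v` vanishes on `D(f)`
  have h1 : V.presheaf.map (homOfLE (le_top : U ≤ ⊤)).op (κ.appTop y - κ.appTop f ^ n * v) = 0 := by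
    have e1 := ConcreteCategory.congr_hom (κ.naturality (homOfLE (X.basicOpen_le f)).op) y
    have e2 := ConcreteCategory.congr_hom (κ.naturality (homOfLE (X.basicOpen_le f)).op) f
    rw [map_sub, map_mul, map_pow, sub_eq_zero, ← hx]
    refine e1.symm.trans (Eq.trans ?_ (congrArg (fun z => z ^ n * _) e2))
    change κ.app _ (X.presheaf.map _ y) = (κ.app _ (X.presheaf.map _ f)) ^ n * κ.app _ x
    rw [← map_pow, ← map_mul]
    exact congrArg _ hy
  have hU : V.basicOpen (κ.appTop f) = U := (Scheme.preimage_basicOpen κ f).symm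
  obtain ⟨m, hm⟩ := exists_pow_mul_eq_zero_of_res_basicOpen_eq_zero_of_isCompact V (U := ⊤)
    isCompact_univ (κ.appTop y - κ.appTop f ^ n * v) (κ.appTop f) (by
      have h2 : ∀ (U' : V.Opens) (e : U' = U) (z : Γ(V, ⊤)),
          V.presheaf.map (homOfLE (le_top : U ≤ ⊤)).op z = 0 →
          V.presheaf.map (homOfLE (le_top : U' ≤ ⊤)).op z = 0 := by
        rintro _ rfl z hz
        exact hz
      exact h2 _ hU _ h1)
  refine ⟨m + n, f ^ m * y, ?_⟩
  rw [mul_sub, sub_eq_zero] at hm
  rw [map_mul, map_pow, hm, pow_add, mul_assoc]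

/-- Torsion of the kernel of restriction to the complement of `Z`. -/
theorem Compl.tors_ker [IsAffine T] [LocallyOfFinitePresentation i] (h : Compl i j) {X V : Scheme.{u}} {p : X ⟶ T}
    {κ : V ⟶ X} {q : V ⟶ U} (H : IsPullback κ q p j) [CompactSpace X] (r : Γ(X, ⊤)) (hr : κ.appTop r = 0) :
    ∃ n : ℕ, ∀ a ∈ idl i ^ n, p.appTop a * r = 0 := by
  have := h.cl
  have := h.op
  have : IsOpenImmersion κ := MorphismProperty.of_isPullback H.flip h.op
  let := p.appTop.hom.toAlgebra
  obtain ⟨n, hn⟩ := exists_pow_smul_mem (idl_fg i) (⊥ : Submodule Γ(T, ⊤) Γ(X, ⊤)) r (fun f hf => by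
    obtain ⟨n, hn⟩ := exists_pow_mul_eq_zero κ (p.appTop f) (by
      rw [← Scheme.preimage_basicOpen_top]
      intro x hx
      have h1 : p x ∈ Set.range j := h.basicOpen_le hf hx
      have h2 := range_snd_of_isPullback H.flip
      change x ∈ Set.range κ
      rw [h2]
      exact h1) r hr
    exact ⟨n, by rw [Submodule.mem_bot, Algebra.smul_def, map_pow]; exact hn⟩)
  refine ⟨n, fun a ha => ?_⟩
  have := hn a ha
  rwa [Submodule.mem_bot, Algebra.smul_def] at this

/-- Torsion of the cokernel of restriction to the complement of `Z`. -/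
theorem Compl.tors_coker [IsAffine T] [LocallyOfFinitePresentation i] (h : Compl i j) {X V : Scheme.{u}} {p : X ⟶ T}
    {κ : V ⟶ X} {q : V ⟶ U} (H : IsPullback κ q p j) [CompactSpace X] [QuasiSeparatedSpace X] (v : Γ(V, ⊤)) :
    ∃ n : ℕ, ∀ a ∈ idl i ^ n, ∃ r, κ.appTop r = κ.appTop (p.appTop a) * v := by
  have := h.cl
  have := h.op
  have : IsOpenImmersion κ := MorphismProperty.of_isPullback H.flip h.op
  have : QuasiCompact κ := MorphismProperty.of_isPullback H.flip h.quasiCompact
  have : CompactSpace V := QuasiCompact.compactSpace_of_compactSpace κ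
  let := (p.appTop ≫ κ.appTop).hom.toAlgebra
  let P : Submodule Γ(T, ⊤) Γ(V, ⊤) :=
    { carrier := Set.range κ.appTop.hom
      add_mem' := by
        rintro _ _ ⟨a, rfl⟩ ⟨b, rfl⟩
        exact ⟨a + b, map_add _ _ _⟩
      zero_mem' := ⟨0, map_zero _⟩
      smul_mem' := by
        rintro c _ ⟨a, rfl⟩
        exact ⟨p.appTop c * a, map_mul κ.appTop.hom _ _⟩ }
  obtain ⟨n, hn⟩ := exists_pow_smul_mem (idl_fg i) P v (fun f hf => by
    obtain ⟨n, r, hn⟩ := exists_pow_mul_eq κ (p.appTop f) (by
      rw [← Scheme.preimage_basicOpen_top]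
      intro x hx
      have h1 : p x ∈ Set.range j := h.basicOpen_le hf hx
      have h2 := range_snd_of_isPullback H.flip
      change x ∈ Set.range κ
      rw [h2]
      exact h1) v
    refine ⟨n, ?_⟩
    rw [Algebra.smul_def, map_pow]
    exact ⟨r, hn⟩)
  refine ⟨n, fun a ha => ?_⟩
  obtain ⟨r, hr⟩ := hn a ha
  exact ⟨r, hr⟩

end Open

end K648.FG
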