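import Groth.Agent.AlgSp.K648.FGSol
import Groth.Agent.AlgSp.K648.FGTors

/-!
# Formal glueing: étale charts of `Y` over étale charts of `X`
-/

set_option autoImplicit false

universe u

open CategoryTheory CategoryTheory.Limits AlgebraicGeometry Opposite AlgSp

namespace K648.FGLoc

open K648.FGSheaf K648.FGSheaf.Dat K594.Elem K640.Loc K640.Joint K648.FGSol

variable {S : Scheme.{u}} {D : Dat (J S)}

/-- `W' = W ×_{Y_T} T'`. -/
structure PB {T W T' W' : Over S} (w : W ⟶ T) (η : D.Y.obj.obj (op W)) (k : T' ⟶ T) (y : D.Y.obj.obj (op T'))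
    (v : W' ⟶ T') (l : W' ⟶ W) : Prop where
  hw : l ≫ w = v ≫ k
  hy : D.Y.obj.map l.op η = D.Y.obj.map v.op y
  lift : ∀ {T'' : Over S} (g : T'' ⟶ T') (m : T'' ⟶ W), m ≫ w = g ≫ k → D.Y.obj.map m.op η = D.Y.obj.map g.op y →
    ∃ n : T'' ⟶ W', n ≫ v = g ∧ n ≫ l = m
  uniq : ∀ {T'' : Over S} (n n' : T'' ⟶ W'), n ≫ v = n' ≫ v → n ≫ l = n' ≫ l → n = n'

/-- `W ⟶ Y_T` is representable with `P`. -/
structure PC (P : MorphismProperty Scheme.{u}) (D : Dat (J S)) {T : Over S} (x : D.X.obj.obj (op T)) {W : Over S}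
    (w : W ⟶ T) (η : D.Y.obj.obj (op W)) : Prop where
  hη : D.f.hom.app (op W) η = D.X.obj.map w.op x
  ex : ∀ {T' : Over S} (k : T' ⟶ T) (y : D.Y.obj.obj (op T')), D.f.hom.app _ y = D.X.obj.map k.op x →
    ∃ (W' : Over S) (v : W' ⟶ T') (l : W' ⟶ W), P v.left ∧ PB w η k y v l

theorem PC.of_le {P Q : MorphismProperty Scheme.{u}} (hPQ : P ≤ Q) {T : Over S} {x : D.X.obj.obj (op T)} {W : Over S}
    {w : W ⟶ T} {η : D.Y.obj.obj (op W)} (h : PC P D x w η) : PC Q D x w η where
  hη := h.hη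
  ex k y hy := by
    obtain ⟨W', v, l, h1, h2⟩ := h.ex k y hy
    exact ⟨W', v, l, hPQ _ h1, h2⟩

/-- Restriction to an open subscheme of a base change. -/
theorem PC.res {T₀ W₀ T₁ P W₁ : Over S} {x₀ : D.X.obj.obj (op T₀)} {w₀ : W₀ ⟶ T₀} {η₀ : D.Y.obj.obj (op W₀)}
    (h : PC @Etale D x₀ w₀ η₀) {τ : T₁ ⟶ T₀} {pr₁ : P ⟶ W₀} {pr₂ : P ⟶ T₁} (sq : IsPullback pr₁ pr₂ w₀ τ)
    (o : W₁ ⟶ P) (ho : IsOpenImmersion o.left) :
    PC @Etale D (D.X.obj.map τ.op x₀) (o ≫ pr₂) (D.Y.obj.map (o ≫ pr₁).op η₀) where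
  hη := by
    rw [naturality, h.hη, ← map_comp, ← map_comp, Category.assoc, Category.assoc, sq.w]
  ex {T'} k y hy := by
    obtain ⟨W', v, l, h1, h2⟩ := h.ex (k ≫ τ) y (by rw [hy, map_comp])
    have hm : l ≫ w₀ = (v ≫ k) ≫ τ := by rw [h2.hw, Category.assoc]
    have hm1 := sq.lift_fst _ _ hm
    have hm2 := sq.lift_snd _ _ hm
    set m := sq.lift _ _ hm
    have hp := IsPullback.of_hasPullback m o
    refine ⟨pullback m o, pullback.fst m o ≫ v, pullback.snd m o, ?_, ?_, ?_, ?_, ?_⟩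
    · have h3 : IsOpenImmersion (pullback.fst m o).left :=
        MorphismProperty.of_isPullback (hp.map (Over.forget S)).flip ho
      rw [Over.comp_left]
      infer_instance
    · rw [← hp.w_assoc, hm2, Category.assoc]
    · rw [← map_comp, ← hp.w_assoc, hm1, map_comp, h2.hy, map_comp]
    · intro T'' g n hn1 hn2
      obtain ⟨n₀, hn3, hn4⟩ := h2.lift g (n ≫ o ≫ pr₁) (by
        rw [Category.assoc, Category.assoc, sq.w, ← Category.assoc g, ← hn1]
        simp only [Category.assoc]) (by rw [map_comp, hn2])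
      have e : n₀ ≫ m = n ≫ o := by
        apply sq.hom_ext
        · rw [Category.assoc, hm1, hn4, Category.assoc]
        · rw [Category.assoc, hm2, reassoc_of% hn3, Category.assoc, hn1]
      exact ⟨hp.lift n₀ n e, by rw [hp.lift_fst_assoc, hn3], hp.lift_snd _ _ _⟩
    · intro T'' n n' hn1 hn2
      apply hp.hom_ext _ hn2
      apply h2.uniq
      · rw [Category.assoc, Category.assoc, hn1]
      · rw [← hm1, Category.assoc, Category.assoc, hp.w_assoc, reassoc_of% hn2]

/-- Charts of `Y` over charts of `X`. -/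
theorem PC.of_atlas {P : MorphismProperty Scheme.{u}} {A T₀ W₀ : Over S} {a : (yon S).obj A ⟶ D.Y}
    (ha : RepWith P a) {b : (yon S).obj T₀ ⟶ D.X} {v₀ : W₀ ⟶ A} {w₀ : W₀ ⟶ T₀}
    (h : IsRep b (D.f.hom.app _ (secEquiv a)) v₀ ⟨w₀⟩) :
    PC P D (secEquiv b) w₀ (D.Y.obj.map v₀.op (secEquiv a)) where
  hη := by
    have h1 := h.w
    rw [yonEquiv_apply] at h1
    rw [naturality, ← h1]
  ex {T'} k y hy := by
    obtain ⟨V, v, ξ, h1, h2⟩ := RepWith.exists_isRep ha y
    obtain ⟨lA⟩ := ξ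
    have h3 := h1.w
    rw [yonEquiv_apply] at h3
    obtain ⟨l, hl1, hl2⟩ := h.lift lA ⟨v ≫ k⟩ (by
      rw [yonEquiv_apply, map_comp, ← hy, ← naturality, ← h3, naturality])
    have hl3 : l ≫ w₀ = v ≫ k := congrArg ULift.down hl2
    refine ⟨V, v, l, h2, hl3, ?_, ?_, ?_⟩
    · rw [← map_comp, hl1, h3]
    · intro T'' g m hm1 hm2
      obtain ⟨n, hn1, hn2⟩ := h1.lift g ⟨m ≫ v₀⟩ (by rw [yonEquiv_apply, map_comp, hm2])
      have hn3 : n ≫ lA = m ≫ v₀ := congrArg ULift.down hn2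
      refine ⟨n, hn1, ?_⟩
      apply h.inj
      · rw [Category.assoc, hl1, hn3]
      · refine congrArg ULift.up ?_
        change (n ≫ l) ≫ w₀ = m ≫ w₀
        rw [Category.assoc, hl3, reassoc_of% hn1, hm1]
    · intro T'' n n' hn1 hn2
      apply h1.inj _ _ hn1
      refine congrArg ULift.up ?_
      change n ≫ lA = n' ≫ lA
      rw [← hl1, reassoc_of% hn2]

/-- Sections of `Y` over points of `Z` are unique. -/
def UniqZ {Z : Sp S} (i : Z ⟶ D.X) : Prop :=
  ∀ {T : Over S} (z : Z.obj.obj (op T)) (y₁ y₂ : D.Y.obj.obj (op T)), D.f.hom.app _ y₁ = i.hom.app _ z →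
    D.f.hom.app _ y₂ = i.hom.app _ z → y₁ = y₂

section

variable {T W Z₁ UT : Over S} {x : D.X.obj.obj (op T)} {w : W ⟶ T} {η : D.Y.obj.obj (op W)}
  (h : PC @Etale D x w η) {Z : Sp S} {i : Z ⟶ D.X} (hZ : UniqZ i) {i₁ : Z₁ ⟶ T} {z₁ : Z.obj.obj (op Z₁)}
  (hi : IsRep i x i₁ z₁) {s : Z₁ ⟶ W} (hs : IsPullback s (𝟙 Z₁) w i₁) {jT : UT ⟶ T} {uT : D.U.obj.obj (op UT)}
  (hjT : IsRep D.j x jT uT) (hc : K648.FG.Compl i₁.left jT.left)

include hi hs hZ in
/-- Over `Z` the chart `W` is everything. -/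
theorem exists_lift_Z {T' W' Z' : Over S} {k : T' ⟶ T} {y : D.Y.obj.obj (op T')}
    (hy : D.f.hom.app _ y = D.X.obj.map k.op x) {v : W' ⟶ T'} {l : W' ⟶ W} (H : PB w η k y v l)
    (hη : D.f.hom.app (op W) η = D.X.obj.map w.op x) {a : Z' ⟶ Z₁} {b : Z' ⟶ T'} (e : a ≫ i₁ = b ≫ k) :
    ∃ n : Z' ⟶ W', n ≫ v = b := by
  have hsw : s ≫ w = i₁ := by rw [hs.w, Category.id_comp]
  obtain ⟨n, hn, -⟩ := H.lift b (a ≫ s) (by rw [Category.assoc, hsw, e]) (by
    refine hZ (Z.obj.map a.op z₁) _ _ ?_ ?_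
    · rw [naturality, hη, ← map_comp, naturality, hi.w, ← map_comp, Category.assoc, hsw]
    · rw [naturality, hy, ← map_comp, naturality, hi.w, ← map_comp, e])
  exact ⟨n, hn⟩

include h hZ hi hs hjT hc in
theorem wc_of_pc : WC D x w η where
  hη := h.hη
  cover {T'} k y hy := by
    obtain ⟨W', v, l, hv, H⟩ := h.ex k y hy
    have hU := IsPullback.of_hasPullback jT k
    have hZ' := IsPullback.of_hasPullback i₁ k
    obtain ⟨n, hn⟩ := exists_lift_Z hZ hi hs hy H h.hη hZ'.w
    have hop := hc.op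
    have hFp : FpC₂ v (pullback.snd jT k) := by
      have h1 : IsOpenImmersion (pullback.snd jT k).left :=
        MorphismProperty.of_isPullback (hU.map (Over.forget S)) hc.op
      refine ⟨inferInstance, inferInstance, inferInstance, inferInstance, fun t => ?_⟩
      have h2 := K648.FG.range_snd_of_isPullback (hU.map (Over.forget S))
      have h3 := K648.FG.range_snd_of_isPullback (hZ'.map (Over.forget S))
      by_cases ht : k.left t ∈ Set.range jT.left
      · right
        have : t ∈ Set.range (pullback.snd jT k).left := by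
          change t ∈ Set.range ((Over.forget S).map (pullback.snd jT k))
          rw [h2]; exact ht
        exact this
      · left
        have h4 : k.left t ∈ Set.range i₁.left := by
          by_contra hcon
          exact ht (hc.compl ▸ hcon)
        have h5 : t ∈ Set.range (pullback.snd i₁ k).left := by
          change t ∈ Set.range ((Over.forget S).map (pullback.snd i₁ k))
          rw [h3]; exact h4
        obtain ⟨z, hz⟩ := h5
        refine ⟨n.left z, ?_⟩
        rw [← hz, ← hn]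
        rfl
    exact Locally.of_fpC₂ (P := fun T'' g => (∃ l : T'' ⟶ W, l ≫ w = g ≫ k ∧ D.Y.obj.map l.op η = D.Y.obj.map g.op y) ∨
      ∃ u : D.U.obj.obj (op T''), D.j.hom.app (op T'') u = D.X.obj.map (g ≫ k).op x) hFp
      (fun N d => Or.inl ⟨d ≫ l, by rw [Category.assoc, H.hw, Category.assoc], by rw [map_comp, H.hy, map_comp]⟩)
      (fun N d => Or.inr ⟨D.U.obj.map (d ≫ pullback.fst jT k).op uT, by
        rw [naturality, hjT.w, ← map_comp, Category.assoc, hU.w, Category.assoc]⟩)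
  diag {T'} l₁ l₂ h1 h2 := by
    have hy : D.f.hom.app _ (D.Y.obj.map l₁.op η) = D.X.obj.map (l₁ ≫ w).op x := by
      rw [naturality, h.hη, map_comp]
    obtain ⟨W', v, l, hv, H⟩ := h.ex (l₁ ≫ w) (D.Y.obj.map l₁.op η) hy
    obtain ⟨σ₁, a1, a2⟩ := H.lift (𝟙 T') l₁ (by rw [Category.id_comp]) (by rw [map_id])
    obtain ⟨σ₂, b1, b2⟩ := H.lift (𝟙 T') l₂ (by rw [Category.id_comp, h1]) (by rw [map_id, h2])
    have hE := IsPullback.of_hasPullback σ₁ σ₂
    have hE1 : pullback.fst σ₁ σ₂ = pullback.snd σ₁ σ₂ := by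
      have := congrArg (fun m => m ≫ v) hE.w
      simpa only [Category.assoc, a1, b1, Category.comp_id] using this
    have hU := IsPullback.of_hasPullback jT (l₁ ≫ w)
    have hZ' := IsPullback.of_hasPullback i₁ (l₁ ≫ w)
    have hop := hc.op
    have hσ₂ : Etale σ₂.left := by
      have h3 : Etale (σ₂.left ≫ v.left) := by
        rw [← Over.comp_left, b1]
        exact inferInstanceAs (Etale (𝟙 T'.left))
      exact MorphismProperty.of_postcomp (W := @Etale) (W' := @Etale) σ₂.left v.left hv h3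
    have hEt : Etale (pullback.fst σ₁ σ₂).left :=
      MorphismProperty.of_isPullback (hE.map (Over.forget S)).flip hσ₂
    -- the equalizer contains the part over `Z`
    have hsw : s ≫ w = i₁ := by rw [hs.w, Category.id_comp]
    have hc1 : ∀ m : pullback i₁ (l₁ ≫ w) ⟶ W, m ≫ w = pullback.fst i₁ (l₁ ≫ w) ≫ i₁ →
        m = pullback.fst i₁ (l₁ ≫ w) ≫ s := by
      intro m hm
      have e1 := hs.lift_fst m _ hm
      have e2 := hs.lift_snd m _ hm
      rw [Category.comp_id] at e2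
      rw [← e1, e2]
    have hn : pullback.snd i₁ (l₁ ≫ w) ≫ σ₁ = pullback.snd i₁ (l₁ ≫ w) ≫ σ₂ := by
      apply H.uniq
      · rw [Category.assoc, Category.assoc, a1, b1]
      · rw [Category.assoc, Category.assoc, a2, b2, hc1 (_ ≫ l₁) (by rw [Category.assoc, hZ'.w]),
          hc1 (_ ≫ l₂) (by rw [Category.assoc, ← h1, hZ'.w])]
    have hn1 := hE.lift_fst _ _ hn
    set n := hE.lift _ _ hn
    have hFp : FpC₂ (pullback.fst σ₁ σ₂) (pullback.snd jT (l₁ ≫ w)) := by
      have h1 : IsOpenImmersion (pullback.snd jT (l₁ ≫ w)).left :=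
        MorphismProperty.of_isPullback (hU.map (Over.forget S)) hc.op
      refine ⟨inferInstance, inferInstance, inferInstance, inferInstance, fun t => ?_⟩
      have h2 := K648.FG.range_snd_of_isPullback (hU.map (Over.forget S))
      have h3 := K648.FG.range_snd_of_isPullback (hZ'.map (Over.forget S))
      by_cases ht : (l₁ ≫ w).left t ∈ Set.range jT.left
      · right
        have : t ∈ Set.range (pullback.snd jT (l₁ ≫ w)).left := by
          change t ∈ Set.range ((Over.forget S).map (pullback.snd jT (l₁ ≫ w)))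
          rw [h2]; exact ht
        exact this
      · left
        have h4 : (l₁ ≫ w).left t ∈ Set.range i₁.left := by
          by_contra hcon
          exact ht (hc.compl ▸ hcon)
        have h5 : t ∈ Set.range (pullback.snd i₁ (l₁ ≫ w)).left := by
          change t ∈ Set.range ((Over.forget S).map (pullback.snd i₁ (l₁ ≫ w)))
          rw [h3]; exact h4
        obtain ⟨z, hz⟩ := h5
        refine ⟨n.left z, ?_⟩
        rw [← hz, ← hn1]
        rfl
    exact Locally.of_fpC₂ (P := fun T'' g => g ≫ l₁ = g ≫ l₂ ∨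
      ∃ u : D.U.obj.obj (op T''), D.j.hom.app (op T'') u = D.X.obj.map (g ≫ l₁ ≫ w).op x) hFp
      (fun N d => Or.inl (by
        rw [← a2, ← b2, Category.assoc, Category.assoc, hE.w_assoc, hE1]))
      (fun N d => Or.inr ⟨D.U.obj.map (d ≫ pullback.fst jT (l₁ ≫ w)).op uT, by
        rw [naturality, hjT.w, ← map_comp, Category.assoc, hU.w, Category.assoc]⟩)

end

end K648.FGLoc
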