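import Groth.Agent.AlgSp.K648.FGChart
import Groth.Agent.AlgSp.K640.LocOne

/-!
# Formal glueing: the localization at `1 + I`
-/

set_option autoImplicit false
set_option backward.isDefEq.respectTransparency false
universe u

open CategoryTheory CategoryTheory.Limits AlgebraicGeometry Opposite

namespace K648.FG

open Groth.Agent.Sga3C.FlatPt K640.LocOne

theorem epi_locMap {B : CommRingCat.{u}} (J : Ideal B) : Epi (locMap J) := by
  constructor
  intro R f g h
  ext1
  refine IsLocalization.ringHom_ext (oneAdd J) (S := Localization (oneAdd J)) ?_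
  exact congrArg CommRingCat.Hom.hom h

/-- The closed subscheme `V(J)` lies in the spectrum of the localization at `1 + J`. -/
theorem exists_lift_loc {W Z : Scheme.{u}} [IsAffine W] (s : Z ⟶ W) [IsClosedImmersion s] :
    ∃ s' : Z ⟶ Spec (loc (B := Γ(W, ⊤)) (idl s)), s' ≫ Spec.map (locMap (idl s)) ≫ W.isoSpec.inv = s := by
  have := isAffine_of_closed s
  have hu : ∀ y : oneAdd (idl s), IsUnit (s.appTop.hom y) := by
    rintro ⟨y, hy⟩
    have h1 : s.appTop.hom (y - 1) = 0 := (mem_oneAdd (idl s)).1 hy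
    rw [map_sub, map_one, sub_eq_zero] at h1
    change IsUnit (s.appTop.hom y)
    rw [h1]
    exact isUnit_one
  let l : Localization (oneAdd (idl s)) →+* Γ(Z, ⊤) := IsLocalization.lift hu
  let l' : loc (B := Γ(W, ⊤)) (idl s) ⟶ Γ(Z, ⊤) := CommRingCat.ofHom l
  have hl : locMap (B := Γ(W, ⊤)) (idl s) ≫ l' = s.appTop := by
    apply CommRingCat.hom_ext
    exact IsLocalization.lift_comp (S := Localization (oneAdd (idl s))) hu
  refine ⟨Z.isoSpec.hom ≫ Spec.map l', ?_⟩
  rw [Category.assoc, ← Spec.map_comp_assoc, hl, Scheme.isoSpec_hom_naturality_assoc, Iso.hom_inv_id, Category.comp_id]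

/-- The flatness criterion. -/
theorem gc_of_flat {T W Z : Scheme.{u}} [IsAffine T] [IsAffine W] {w : W ⟶ T} {i : Z ⟶ T} [hc : IsClosedImmersion i]
    [hf : LocallyOfFinitePresentation i] {s : Z ⟶ W} (hs : IsPullback s (𝟙 Z) w i)
    (hflat : ∀ z : Z, IsFlatAt w (s z)) : GC w i := by
  have : IsClosedImmersion s := MorphismProperty.of_isPullback hs.flip hc
  have : LocallyOfFinitePresentation s := MorphismProperty.of_isPullback hs.flip hf
  have := isAffine_of_closed s
  obtain ⟨s', hs'⟩ := exists_lift_loc s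
  let c : Spec (loc (B := Γ(W, ⊤)) (idl s)) ⟶ W := Spec.map (locMap (idl s)) ≫ W.isoSpec.inv
  have hepi := epi_locMap (B := Γ(W, ⊤)) (idl s)
  have hm : Mono (Spec.map (locMap (B := Γ(W, ⊤)) (idl s))) :=
    inferInstanceAs (Mono (Scheme.Spec.map (locMap (B := Γ(W, ⊤)) (idl s)).op))
  have hmc : Mono c := mono_comp _ _
  have hfc : Flat c := inferInstanceAs (Flat (Spec.map (locMap (idl s)) ≫ W.isoSpec.inv))
  have hsq : IsPullback s' (𝟙 Z) c s := by
    refine ⟨⟨by rw [Category.id_comp]; exact hs'⟩, ⟨PullbackCone.IsLimit.mk _ (fun t => t.snd) (fun t => ?_)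
      (fun t => Category.comp_id _) (fun t m h1 h2 => ?_)⟩⟩
    · rw [← cancel_mono c, Category.assoc, t.condition]
      exact congrArg _ hs'
    · rw [← h2, Category.comp_id]
  refine ⟨_, c, s, hs, ⟨inferInstance, inferInstance, ?_, hc, hf, ⟨s', ?_⟩⟩,
    ⟨inferInstance, inferInstance, hfc, inferInstance, inferInstance, ⟨s', hsq⟩⟩⟩
  · have e : c ≫ w = Spec.map (locMap (idl s)) ≫ (W.isoSpec.inv ≫ w) := Category.assoc _ _ _
    rw [e]
    refine flat_locMap_comp _ _ fun v hv => ?_
    have hv' : W.isoSpec.inv v ∈ Set.range s := by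
      by_contra hcon
      obtain ⟨f, hf, hvf⟩ := exists_mem_basicOpen s hcon
      have h1 : f ∈ v.asIdeal := hv hf
      have h2 : v ∈ W.isoSpec.inv ⁻¹ᵁ (W.basicOpen f) := hvf
      have h3 : W.isoSpec.inv ⁻¹ᵁ (W.basicOpen f) = PrimeSpectrum.basicOpen f := by
        rw [← Scheme.toSpecΓ_preimage_basicOpen, ← Scheme.Hom.comp_preimage]
        have : W.isoSpec.inv ≫ W.toSpecΓ = 𝟙 _ := W.isoSpec.inv_hom_id
        rw [this]
        rfl
      rw [h3] at h2
      exact h2 h1
    obtain ⟨z, hz⟩ := hv'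
    refine IsFlatAt.comp (isFlatAt_of_flat _ _) ?_
    rw [← hz]
    exact hflat z
  · have := hsq.paste_vert hs
    simpa only [Category.id_comp] using this

end K648.FG
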