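import Groth.Agent.AlgSp.K648.FGTors
import Groth.Agent.AlgSp.K649.EtLift
import Mathlib.AlgebraicGeometry.Morphisms.FlatMono

/-!
# Formal glueing: charts which are isomorphisms over `Z`
-/

set_option autoImplicit false
set_option backward.isDefEq.respectTransparency false
universe u

open CategoryTheory CategoryTheory.Limits AlgebraicGeometry Opposite

namespace K648.FG

theorem exists_basicOpen_of_isClopen {P : Scheme.{u}} [IsAffine P] {s : Set P} (hs : IsClopen s) :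
    ∃ e : Γ(P, ⊤), (P.basicOpen e : Set P) = s := by
  have h1 : IsClopen (P.isoSpec.inv ⁻¹' s : Set (PrimeSpectrum Γ(P, ⊤))) :=
    hs.preimage P.isoSpec.inv.continuous
  obtain ⟨e, -, he⟩ := PrimeSpectrum.exists_idempotent_basicOpen_eq_of_isClopen h1
  refine ⟨e, ?_⟩
  rw [← Scheme.toSpecΓ_preimage_basicOpen]
  ext x
  change P.toSpecΓ x ∈ (PrimeSpectrum.basicOpen e : Set (PrimeSpectrum Γ(P, ⊤))) ↔ x ∈ s
  rw [← he]
  change P.isoSpec.inv (P.isoSpec.hom x) ∈ s ↔ x ∈ s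
  rw [← Scheme.Hom.comp_apply, Iso.hom_inv_id]
  rfl

/-- sections of etale morphisms are open immersions -/
theorem isOpenImmersion_of_section {P Z : Scheme.{u}} {c : P ⟶ Z} [Etale c] {σ : Z ⟶ P} (hσ : σ ≫ c = 𝟙 Z) :
    IsOpenImmersion σ := by
  have h1 : Etale (σ ≫ c) := by rw [hσ]; infer_instance
  have h2 : Etale σ := MorphismProperty.of_postcomp (W := @Etale) (W' := @Etale) σ c ‹_› h1
  have h3 : Mono σ := by
    have : Mono (σ ≫ c) := by rw [hσ]; infer_instance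
    exact mono_of_mono σ c
  exact IsOpenImmersion.of_flat_of_mono σ

/-- A section over `Z` of an affine `T`-scheme which is etale along `Z` cuts out an affine open subscheme which is
isomorphic to `Z` over `Z`. -/
theorem exists_section_nbd {P T Z PZ : Scheme.{u}} [IsAffine P] [IsAffine T] {p : P ⟶ T} {i : Z ⟶ T}
    [hi : IsClosedImmersion i] {a : PZ ⟶ P} {c : PZ ⟶ Z} (H : IsPullback a c p i) [Etale c] (σ : Z ⟶ PZ)
    (hσ : σ ≫ c = 𝟙 Z) : ∃ (W : Scheme.{u}) (o : W ⟶ P) (s : Z ⟶ W), IsAffine W ∧ IsOpenImmersion o ∧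
      IsPullback s (𝟙 Z) (o ≫ p) i ∧ s ≫ o = σ ≫ a := by
  have ha : IsClosedImmersion a := MorphismProperty.of_isPullback H.flip hi
  have := isAffine_of_closed a
  have := isAffine_of_closed i
  have h1 := isOpenImmersion_of_section hσ
  have h2 : IsClosedImmersion σ := by
    have : IsClosedImmersion (σ ≫ c) := by rw [hσ]; infer_instance
    exact MorphismProperty.of_postcomp (W := @IsClosedImmersion) (W' := @IsSeparated) σ c inferInstance this
  have h3 : IsClopen (Set.range σ) := ⟨σ.isClosedEmbedding.isClosed_range, σ.isOpenEmbedding.isOpen_range⟩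
  obtain ⟨e, he⟩ := exists_basicOpen_of_isClopen h3
  obtain ⟨e', he'⟩ := surjective_appTop a e
  have h4 : a ⁻¹ᵁ (P.basicOpen e') = PZ.basicOpen e := by
    rw [Scheme.preimage_basicOpen]
    exact congrArg _ he'
  have h5 : Set.range (σ ≫ a) ⊆ Set.range (P.basicOpen e').ι := by
    rintro _ ⟨z, rfl⟩
    rw [Scheme.Opens.range_ι]
    change σ z ∈ a ⁻¹ᵁ (P.basicOpen e')
    rw [h4]
    change σ z ∈ (PZ.basicOpen e : Set PZ)
    rw [he]
    exact ⟨z, rfl⟩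
  refine ⟨P.basicOpen e', (P.basicOpen e').ι, IsOpenImmersion.lift (P.basicOpen e').ι (σ ≫ a) h5, ?_,
    inferInstance, ?_, IsOpenImmersion.lift_fac _ _ _⟩
  · exact (isAffineOpen_top P).basicOpen e'
  · have h6 : IsPullback (IsOpenImmersion.lift (P.basicOpen e').ι (σ ≫ a) h5) σ (P.basicOpen e').ι a := by
      refine IsOpenImmersion.isPullback _ _ _ _ (IsOpenImmersion.lift_fac _ _ _).symm ?_
      rw [Scheme.Opens.opensRange_ι, h4]
      exact TopologicalSpace.Opens.ext he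
    have h7 := h6.paste_vert H
    rwa [hσ] at h7

/-- The fibre product of `Spec B` and `Spec (A ⧸ I)`. -/
theorem isPullback_quot {A B : Type u} [CommRing A] [CommRing B] (φ : A →+* B) (I : Ideal A) :
    IsPullback (Spec.map (CommRingCat.ofHom (Ideal.quotientMap (I.map φ) φ Ideal.le_comap_map)))
      (Spec.map (CommRingCat.ofHom (Ideal.Quotient.mk (I.map φ)))) (Spec.map (CommRingCat.ofHom (Ideal.Quotient.mk I)))
      (Spec.map (CommRingCat.ofHom φ)) := by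
  have h : IsPushout (CommRingCat.ofHom (Ideal.Quotient.mk I)) (CommRingCat.ofHom φ)
      (CommRingCat.ofHom (Ideal.quotientMap (I.map φ) φ Ideal.le_comap_map))
      (CommRingCat.ofHom (Ideal.Quotient.mk (I.map φ))) := by
    refine ⟨⟨?_⟩, ⟨PushoutCocone.IsColimit.mk _ (fun s => CommRingCat.ofHom (Ideal.Quotient.lift (I.map φ) s.inr.hom ?_))
      (fun s => ?_) (fun s => ?_) (fun s m h1 h2 => ?_)⟩⟩
    · ext a
      rfl
    · intro b hb
      have : I.map φ ≤ RingHom.ker s.inr.hom := by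
        rw [Ideal.map_le_iff_le_comap]
        intro a ha
        have h0 := ConcreteCategory.congr_hom s.condition a
        change s.inr.hom (φ a) = 0
        refine Eq.trans h0.symm ?_
        change s.inl.hom (Ideal.Quotient.mk I a) = 0
        rw [Ideal.Quotient.eq_zero_iff_mem.2 ha, map_zero]
      exact this hb
    · ext a
      have h0 := ConcreteCategory.congr_hom s.condition a
      exact h0.symm
    · ext b
      rfl
    · ext b
      exact ConcreteCategory.congr_hom h2 b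
  exact isPullback_SpecMap_of_isPushout _ _ _ _ h

/-- `Z` as the spectrum of a quotient. -/
theorem exists_iso_quot {T Z : Scheme.{u}} [IsAffine T] (i : Z ⟶ T) [IsClosedImmersion i] :
    ∃ e : Z ≅ Spec (.of (Γ(T, ⊤) ⧸ idl i)),
      Spec.map (CommRingCat.ofHom (Ideal.Quotient.mk (idl i))) ≫ T.isoSpec.inv = e.inv ≫ i := by
  have := isAffine_of_closed i
  let q := RingHom.quotientKerEquivOfSurjective (surjective_appTop i)
  let q' : (CommRingCat.of (Γ(T, ⊤) ⧸ idl i)) ≅ Γ(Z, ⊤) := q.toCommRingCatIso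
  refine ⟨Z.isoSpec ≪≫ Scheme.Spec.mapIso q'.op, ?_⟩
  have h1 : CommRingCat.ofHom (Ideal.Quotient.mk (idl i)) ≫ q'.hom = i.appTop := by
    ext x
    rfl
  have h2 : (Z.isoSpec ≪≫ Scheme.Spec.mapIso q'.op).hom ≫ Spec.map (CommRingCat.ofHom (Ideal.Quotient.mk (idl i))) =
      Z.isoSpec.hom ≫ Spec.map i.appTop := by
    rw [← h1, Spec.map_comp]
    exact Category.assoc _ _ _
  rw [Iso.eq_inv_comp, reassoc_of% h2, Scheme.isoSpec_hom_naturality_assoc, Iso.hom_inv_id, Category.comp_id]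

/-- Etale locally around a point of `Z`, a morphism `w₀ : W₀ ⟶ T₀` of affine schemes which is etale over `Z` has an
open subscheme of the source which is isomorphic to `Z` over `Z`. -/
theorem exists_chart {T₀ W₀ Z₀ WZ : Scheme.{u}} [IsAffine T₀] [IsAffine W₀] {w₀ : W₀ ⟶ T₀} {i₀ : Z₀ ⟶ T₀}
    [IsClosedImmersion i₀] {b : WZ ⟶ W₀} {q : WZ ⟶ Z₀} (hq : IsPullback b q w₀ i₀) [Etale q] (p : WZ) :
    ∃ (T₁ P W₁ Z₁ : Scheme.{u}) (τ : T₁ ⟶ T₀) (pr₁ : P ⟶ W₀) (pr₂ : P ⟶ T₁) (o : W₁ ⟶ P) (ζ : Z₁ ⟶ Z₀)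
      (i₁ : Z₁ ⟶ T₁) (s : Z₁ ⟶ W₁), IsAffine T₁ ∧ IsAffine W₁ ∧ Etale τ ∧ IsOpenImmersion o ∧
      i₀ (q p) ∈ Set.range τ ∧ IsPullback pr₁ pr₂ w₀ τ ∧ IsPullback ζ i₁ i₀ τ ∧ IsPullback s (𝟙 Z₁) (o ≫ pr₂) i₁ := by
  obtain ⟨e, he⟩ := exists_iso_quot i₀
  obtain ⟨B, _, φ, hφ, k, y, hk, hy⟩ := K649.EtLift.exists_lift_nhd (idl i₀) (q ≫ e.hom) p
  let τ : Spec (.of B) ⟶ T₀ := Spec.map (CommRingCat.ofHom φ) ≫ T₀.isoSpec.inv
  let i₁ : Spec (.of (B ⧸ (idl i₀).map φ)) ⟶ Spec (.of B) := Spec.map (CommRingCat.ofHom (Ideal.Quotient.mk _))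
  have hτ : Etale τ := by
    have : Etale (Spec.map (CommRingCat.ofHom φ)) := (HasRingHomProperty.Spec_iff (P := @Etale)).2 hφ
    infer_instance
  have hζ : IsPullback (k ≫ q) i₁ i₀ τ := by
    have h1 := isPullback_quot φ (idl i₀)
    rw [← hk] at h1
    refine IsPullback.of_iso h1 (Iso.refl _) e.symm (Iso.refl _) T₀.isoSpec.symm ?_ ?_ ?_ ?_
    · simp
    · simp [i₁]
    · exact he
    · simp [τ]
  have hP := IsPullback.of_hasPullback w₀ τ
  have hPZ := IsPullback.of_hasPullback (pullback.snd w₀ τ) i₁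
  have hi₁ : IsClosedImmersion i₁ := MorphismProperty.of_isPullback hζ ‹_›
  -- the section
  let σ' : Spec (.of (B ⧸ (idl i₀).map φ)) ⟶ pullback w₀ τ := hP.lift (k ≫ b) i₁ (by
    rw [Category.assoc, hq.w, ← hζ.w, Category.assoc])
  have hσ1 : σ' ≫ pullback.fst w₀ τ = k ≫ b := hP.lift_fst _ _ _
  have hσ2 : σ' ≫ pullback.snd w₀ τ = i₁ := hP.lift_snd _ _ _
  let σ : Spec (.of (B ⧸ (idl i₀).map φ)) ⟶ pullback (pullback.snd w₀ τ) i₁ := hPZ.lift σ' (𝟙 _) (by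
    rw [hσ2, Category.id_comp])
  -- the fibre over `Z` is etale
  have hc : IsPullback (hq.lift (pullback.fst (pullback.snd w₀ τ) i₁ ≫ pullback.fst w₀ τ)
      (pullback.snd (pullback.snd w₀ τ) i₁ ≫ k ≫ q) (by
        rw [Category.assoc, hP.w, hPZ.w_assoc, Category.assoc, hζ.w])) (pullback.snd (pullback.snd w₀ τ) i₁) q
      (k ≫ q) := by
    refine IsPullback.of_right (h₁₂ := b) (h₂₂ := i₀) (v₁₃ := w₀) ?_ (hq.lift_snd _ _ _) hq
    rw [hq.lift_fst, hζ.w]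
    exact (hPZ.flip.paste_vert hP.flip).flip
  have hcE : Etale (pullback.snd (pullback.snd w₀ τ) i₁) := MorphismProperty.of_isPullback hc ‹_›
  obtain ⟨W₁, o, s, hW₁, ho, hs, -⟩ := exists_section_nbd hPZ σ (hPZ.lift_snd _ _ _)
  refine ⟨_, _, W₁, _, τ, _, _, o, k ≫ q, i₁, s, inferInstance, hW₁, hτ, ho, ?_, hP, hζ, hs⟩
  have hy' : q (k y) = q p := by
    have h1 : (q ≫ e.hom ≫ e.inv) (k y) = (q ≫ e.hom ≫ e.inv) p := congrArg e.inv hy
    rwa [Iso.hom_inv_id, Category.comp_id] at h1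
  refine ⟨i₁ y, ?_⟩
  rw [← hy', ← Scheme.Hom.comp_apply, ← hζ.w]
  rfl

/-- The same with `W₀` arbitrary. -/
theorem exists_chart' {T₀ W₀ Z₀ WZ : Scheme.{u}} [IsAffine T₀] {w₀ : W₀ ⟶ T₀} {i₀ : Z₀ ⟶ T₀}
    [IsClosedImmersion i₀] {b : WZ ⟶ W₀} {q : WZ ⟶ Z₀} (hq : IsPullback b q w₀ i₀) [Etale q] (p : WZ) :
    ∃ (T₁ W₁ Z₁ : Scheme.{u}) (τ : T₁ ⟶ T₀) (o : W₁ ⟶ pullback w₀ τ) (ζ : Z₁ ⟶ Z₀)
      (i₁ : Z₁ ⟶ T₁) (s : Z₁ ⟶ W₁), IsAffine T₁ ∧ IsAffine W₁ ∧ Etale τ ∧ IsOpenImmersion o ∧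
      i₀ (q p) ∈ Set.range τ ∧ IsPullback ζ i₁ i₀ τ ∧ IsPullback s (𝟙 Z₁) (o ≫ pullback.snd w₀ τ) i₁ := by
  obtain ⟨V, hV, hpV, -⟩ := exists_isAffineOpen_mem_and_subset (U := ⊤) (x := b p) trivial
  have hVa : IsAffine V := hV
  have h1 := IsPullback.of_hasPullback b V.ι
  have h2 : IsPullback (pullback.snd b V.ι) (pullback.fst b V.ι ≫ q) (V.ι ≫ w₀) i₀ := by
    exact h1.flip.paste_vert hq
  obtain ⟨p', hp1, hp2⟩ := Scheme.Pullback.exists_preimage_pullback p (⟨b p, hpV⟩ : V) (f := b) (g := V.ι) rfl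
  obtain ⟨T₁, P, W₁, Z₁, τ, pr₁, pr₂, o, ζ, i₁, s, h3, h4, h5, h6, h7, h8, h9, h10⟩ := exists_chart h2 p'
  have hP := IsPullback.of_hasPullback w₀ τ
  let o₂ : P ⟶ pullback w₀ τ := hP.lift (pr₁ ≫ V.ι) pr₂ (by rw [Category.assoc, h8.w])
  have e1 : o₂ ≫ pullback.fst w₀ τ = pr₁ ≫ V.ι := hP.lift_fst _ _ _
  have e2 : o₂ ≫ pullback.snd w₀ τ = pr₂ := hP.lift_snd _ _ _
  have h11 : IsPullback pr₁ o₂ V.ι (pullback.fst w₀ τ) := by
    refine IsPullback.of_bot (h₂₁ := pullback.fst w₀ τ) (v₂₁ := pullback.snd w₀ τ) (v₂₂ := w₀) (h₃₁ := τ) ?_ e1.symm hP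
    rw [e2]
    exact h8
  have h12 : IsOpenImmersion o₂ := MorphismProperty.of_isPullback h11 inferInstance
  refine ⟨T₁, W₁, Z₁, τ, o ≫ o₂, ζ, i₁, s, h3, h4, h5, inferInstance, ?_, h9, ?_⟩
  · have : (pullback.fst b V.ι ≫ q) p' = q p := congrArg q hp1
    rw [this] at h7
    exact h7
  · rw [Category.assoc, e2]
    exact h10

end K648.FG
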