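import Groth.Agent.AlgSp.K648.FGLoc
import Groth.Agent.AlgSp.K648.FGAsm
import Groth.Agent.AlgSp.K648.FGNbd
import Groth.Agent.AlgSp.K648.FGNbd2
import Groth.Agent.AlgSp.K647.Pts
import Groth.Agent.AlgSp.K597.EffDesc
import Groth.Prelude.Def_AlgSpMor5

/-!
# Formal glueing of affine morphisms
-/

set_option autoImplicit false

universe u

open CategoryTheory CategoryTheory.Limits AlgebraicGeometry Opposite AlgSp

namespace K648.FGMain

open K648.FGSheaf K648.FGSheaf.Dat K594.Elem K640.Loc K640.Joint K648.FGSol K648.FG K648.FGLoc K648.FGAsm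

variable {S : Scheme.{u}}

/-- The hypotheses of formal glueing. -/
structure Hyp (D : Dat (J S)) where
  hX : IsAlgSpace D.X
  hY : IsAlgSpace D.Y
  hj : RepWith @IsOpenImmersion D.j
  Z : Sp S
  i : Z ⟶ D.X
  hi : RepWith @IsClosedImmersion i
  hifp : RepWith @LocallyOfFinitePresentation i
  hU : Set.range (Points.map D.j) = (Set.range (Points.map i))ᶜ
  exY : ∀ {T : Over S} (z : Z.obj.obj (op T)), ∃ y : D.Y.obj.obj (op T), D.f.hom.app _ y = i.hom.app _ z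
  uniqY : UniqZ i
  hflat : ∀ y : Points D.Y, Points.map D.f y ∈ Set.range (Points.map i) → IsFlatAtMor D.f y
  hpU : RepWith @IsAffineHom D.pU
  hpY : RepWith @IsAffineHom D.pY

namespace Hyp

variable {D : Dat (J S)} (H : Hyp D)

include H in
theorem injective_j (T : Over S) : Function.Injective (D.j.hom.app (op T)) := by
  intro u₁ u₂ h
  obtain ⟨V, v, ξ, h1, h2⟩ := RepWith.exists_isRep H.hj (D.j.hom.app (op T) u₁)
  obtain ⟨l₁, e1, e2⟩ := h1.lift (𝟙 T) u₁ (by rw [map_id])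
  obtain ⟨l₂, e3, e4⟩ := h1.lift (𝟙 T) u₂ (by rw [map_id, h])
  have : l₁ = l₂ := by
    apply Over.OverMorphism.ext
    rw [← cancel_mono v.left, ← Over.comp_left, ← Over.comp_left, e1, e3]
  rw [← e2, ← e4, this]

theorem compl {T Z₁ UT : Over S} {x : D.X.obj.obj (op T)} {i₁ : Z₁ ⟶ T} {z₁ : H.Z.obj.obj (op Z₁)}
    (hi : IsRep H.i x i₁ z₁) {jT : UT ⟶ T} {uT : D.U.obj.obj (op UT)} (hjT : IsRep D.j x jT uT) :
    Compl i₁.left jT.left where
  cl := RepWith.prop_of_isRep H.hi hi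
  op := RepWith.prop_of_isRep H.hj hjT
  compl := by
    ext t
    rw [K647.Pts.mem_range_iff ((isRep_iff_isPullback _ _ _ _).2 hjT) t, Set.mem_compl_iff,
      K647.Pts.mem_range_iff ((isRep_iff_isPullback _ _ _ _).2 hi) t, H.hU, Set.mem_compl_iff]

end Hyp

/-- The solution over `U`. -/
noncomputable def solU {D : Dat (J S)} (hj : ∀ T, Function.Injective (D.j.hom.app (op T))) {T A : Over S}
    (u : D.U.obj.obj (op T)) {x : D.X.obj.obj (op T)} (hx : D.j.hom.app _ u = x) {p : A ⟶ T} {u' : D.U'.obj.obj (op A)}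
    (h : IsRep D.pU u p u') : Sol x where
  A := A
  p := p
  s := ofU hj u'
  hs := by rw [ofU_x, h.w, naturality, hx]
  rep {T'} k t ht := by
    obtain ⟨-, -, h3⟩ := (isPullback_iff_app _ _ _ _).1 (isPullback_aU hj)
    obtain ⟨z, hz1, hz2⟩ := h3 T' t (D.U.obj.map k.op u) (by
      rw [naturality, hx, ← ht]; rfl)
    obtain ⟨l, hl1, hl2⟩ := h.lift k z hz2
    have hres : ∀ l : T' ⟶ A, Gl.res l (ofU hj u') = (aU hj).hom.app _ (D.U'.obj.map l.op u') := fun l =>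
      (naturality (aU hj) l u').symm
    refine ⟨l, ⟨hl1, by rw [hres, hl2]; exact hz1⟩, ?_⟩
    rintro l' ⟨h4, h5⟩
    apply h.inj _ _ (h4.trans hl1.symm)
    rw [hl2]
    refine K642.Glue.pb_ext (isPullback_aU hj) ?_ ?_
    · rw [hz1, ← h5]; exact (hres l').symm
    · rw [hz2, naturality, h.w, ← map_comp, h4]
  repY {T'} k y' hy := by
    obtain ⟨v, hv1, hv2⟩ := K642.Glue.pb_exists D.hV (D.pY.hom.app _ y') (D.U.obj.map k.op u) (by
      rw [naturality, hx, hy])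
    obtain ⟨v', hv3, hv4⟩ := K642.Glue.pb_exists D.hY' y' v hv1.symm
    obtain ⟨l, hl1, hl2⟩ := h.lift k (D.eU.hom.app _ v') (by rw [D.wU', hv4, hv2])
    refine ⟨l, ⟨hl1, (SD.ev_iff _ _ _).2 ⟨?_, ?_⟩⟩, ?_⟩
    · rw [ofU_x, h.w, naturality, hx, ← map_comp, hl1, hy]
    · rw [ofU_b hj u' l _ _ v' (by rw [hl2]) (by rw [hv4, hv1]), hv3]
    · rintro l' ⟨h4, h5⟩
      obtain ⟨h6, h7⟩ := (SD.ev_iff _ _ _).1 h5
      apply h.inj _ _ (h4.trans hl1.symm)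
      obtain ⟨v'', e1, e2⟩ := exists_v' (D := D) (D.U'.obj.map l'.op u') (D.pY.hom.app _ y') (by
        rw [h6, ofU_x, naturality, naturality])
      rw [ofU_b hj u' l' _ _ v'' e1 e2] at h7
      have e3 : v'' = v' := by
        refine K642.Glue.pb_ext D.hY' (h7.trans hv3.symm) (K642.Glue.pb_ext D.hV ?_ ?_)
        · rw [e2, hv4, hv1]
        · rw [← D.wU', e1, hv4, hv2, naturality, h.w, ← map_comp, h4]
      rw [hl2, ← e1, e3]

theorem etale_comp {F : Sp S} {T T' : Over S} {b : (yon S).obj T ⟶ F} (hb : RepWith @Etale b) (τ : T' ⟶ T)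
    (hτ : Etale τ.left) : RepWith @Etale ((yon S).map τ ≫ b) :=
  MorphismProperty.comp_mem _ _ _ ((repWith_yon_map_iff @Etale τ).2 hτ) hb

theorem secEquiv_comp {F : Sp S} {T T' : Over S} (b : (yon S).obj T ⟶ F) (τ : T' ⟶ T) :
    secEquiv ((yon S).map τ ≫ b) = F.obj.map τ.op (secEquiv b) := by
  have h := yonEquiv_apply ((yon S).map τ ≫ b) (𝟙 T')
  rw [K594.Elem.map_id_apply] at h
  rw [← h]
  change b.hom.app (op T') ⟨𝟙 T' ≫ τ⟩ = _
  rw [Category.id_comp, yonEquiv_apply]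

variable {D : Dat (J S)} (H : Hyp D)

include H in
/-- near a point of `U` -/
theorem loc_U {T₀ : Over S} (x₀ : D.X.obj.obj (op T₀)) (t : T₀.left) {U₀ : Over S} {j₀ : U₀ ⟶ T₀}
    {u₀ : D.U.obj.obj (op U₀)} (hj₀ : IsRep D.j x₀ j₀ u₀) (ht : t ∈ Set.range j₀.left) :
    ∃ (T₁ : Over S) (τ : T₁ ⟶ T₀) (E : Sol (D.X.obj.map τ.op x₀)), Etale τ.left ∧ t ∈ Set.range τ.left ∧
      IsAffine T₁.left ∧ IsAffine E.A.left := by
  have hop : IsOpenImmersion j₀.left := RepWith.prop_of_isRep H.hj hj₀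
  obtain ⟨u, rfl⟩ := ht
  obtain ⟨V, hV, huV, -⟩ := exists_isAffineOpen_mem_and_subset (U := ⊤) (x := u) trivial
  have hVa : IsAffine V := hV
  let T₁ : Over S := Over.mk (V.ι ≫ U₀.hom)
  let ι : T₁ ⟶ U₀ := Over.homMk V.ι rfl
  have hι : IsOpenImmersion ι.left := inferInstanceAs (IsOpenImmersion V.ι)
  have hx : D.j.hom.app _ (D.U.obj.map ι.op u₀) = D.X.obj.map (ι ≫ j₀).op x₀ := by
    rw [naturality, hj₀.w, ← map_comp]
  obtain ⟨A, p, u', h1, h2⟩ := RepWith.exists_isRep H.hpU (D.U.obj.map ι.op u₀)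
  refine ⟨T₁, ι ≫ j₀, solU H.injective_j _ hx h1, ?_, ⟨⟨u, huV⟩, rfl⟩, hV, ?_⟩
  · rw [Over.comp_left]; infer_instance
  · have h3 : IsAffine T₁.left := hV
    have h4 : IsAffineHom p.left := h2
    have h5 : IsAffine A.left := isAffine_of_isAffineHom p.left
    exact h5

/-- near a point of `Z` -/
theorem loc_Z {T₀ : Over S} [IsAffine T₀.left] {b : (yon S).obj T₀ ⟶ D.X} (hb : RepWith @Etale b) (t : T₀.left)
    {Z₀ : Over S} {i₀ : Z₀ ⟶ T₀} {z₀ : H.Z.obj.obj (op Z₀)} (hi₀ : IsRep H.i (secEquiv b) i₀ z₀)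
    (ht : t ∈ Set.range i₀.left) :
    ∃ (T₁ : Over S) (τ : T₁ ⟶ T₀) (E : Sol (D.X.obj.map τ.op (secEquiv b))), Etale τ.left ∧ t ∈ Set.range τ.left ∧
      IsAffine T₁.left ∧ IsAffine E.A.left := by
  have hcl : IsClosedImmersion i₀.left := RepWith.prop_of_isRep H.hi hi₀
  obtain ⟨z, rfl⟩ := ht
  obtain ⟨yZ, hyZ⟩ := H.exY z₀
  -- the atlas of `Y`
  obtain ⟨A, a, ha, has⟩ := H.hY.atlas
  have haE : RepWith (@Etale ⊓ @Surjective) a := ⟨ha.1, fun _ _ _ _ _ sq => ⟨ha.2 _ _ _ sq, has.2 _ _ _ sq⟩⟩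
  obtain ⟨W₀, v₀, ξ₀, hW₀⟩ := (representable_iff b).1 hb.1 (D.f.hom.app _ (secEquiv a))
  obtain ⟨w₀⟩ := ξ₀
  have hv₀ : Etale v₀.left := RepWith.prop_of_isRep hb hW₀
  have hPC₀ := PC.of_atlas haE hW₀
  obtain ⟨WZ, v, l, ⟨hv, hvs⟩, hPB⟩ := hPC₀.ex i₀ yZ (by rw [hyZ, hi₀.w])
  have hsq : IsPullback l v w₀ i₀ := by
    have key : ∀ s : PullbackCone w₀ i₀, ∃ n : s.pt ⟶ WZ, n ≫ l = s.fst ∧ n ≫ v = s.snd := by
      intro s
      obtain ⟨n, h1, h2⟩ := hPB.lift s.snd s.fst s.condition (by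
        refine H.uniqY (H.Z.obj.map s.snd.op z₀) _ _ ?_ ?_
        · rw [naturality, hPC₀.hη, ← map_comp, s.condition, naturality, hi₀.w, map_comp]
        · rw [naturality, hyZ, naturality])
      exact ⟨n, h2, h1⟩
    choose n h1 h2 using key
    exact ⟨⟨hPB.hw⟩, ⟨PullbackCone.IsLimit.mk _ n h1 h2 fun s m h3 h4 => hPB.uniq _ _
      (by rw [h4, h2]) (by rw [h3, h1])⟩⟩
  have sq' : IsPullback l.left v.left w₀.left i₀.left := hsq.map (Over.forget S)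
  obtain ⟨p, hp⟩ := hvs.surj z
  obtain ⟨T₁, W₁, Z₁, τ, o, ζ, i₁, s, hT₁, hW₁, hτ, ho, hz, hZ₁, hs⟩ := exists_chart' sq' p
  rw [hp] at hz
  have hP := IsPullback.of_hasPullback w₀.left τ
  let T₁' : Over S := Over.mk (τ ≫ T₀.hom)
  let τ' : T₁' ⟶ T₀ := Over.homMk τ rfl
  let P' : Over S := Over.mk (pullback.fst w₀.left τ ≫ W₀.hom)
  let pr₁ : P' ⟶ W₀ := Over.homMk (pullback.fst w₀.left τ) rfl
  have e0 : pullback.snd w₀.left τ ≫ τ ≫ T₀.hom = pullback.fst w₀.left τ ≫ W₀.hom := by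
    rw [← hP.w_assoc, Over.w w₀]
  let pr₂ : P' ⟶ T₁' := Over.homMk (pullback.snd w₀.left τ) e0
  have hP' : IsPullback pr₁ pr₂ w₀ τ' := IsPullback.of_map (Over.forget S) (Over.OverMorphism.ext hP.w) hP
  let W₁' : Over S := Over.mk (o ≫ P'.hom)
  let o' : W₁' ⟶ P' := Over.homMk o rfl
  let Z₁' : Over S := Over.mk (i₁ ≫ T₁'.hom)
  let i₁' : Z₁' ⟶ T₁' := Over.homMk i₁ rfl
  let ζ' : Z₁' ⟶ Z₀ := Over.homMk ζ (by
    change ζ ≫ Z₀.hom = i₁ ≫ τ ≫ T₀.hom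
    rw [← hZ₁.w_assoc, Over.w i₀])
  have hZ₁' : IsPullback ζ' i₁' i₀ τ' := IsPullback.of_map (Over.forget S) (Over.OverMorphism.ext hZ₁.w) hZ₁
  have hsw : s ≫ o ≫ pullback.snd w₀.left τ = i₁ := by rw [hs.w, Category.id_comp]
  let s' : Z₁' ⟶ W₁' := Over.homMk s (by
    change s ≫ o ≫ pullback.fst w₀.left τ ≫ W₀.hom = i₁ ≫ τ ≫ T₀.hom
    rw [← hsw, Category.assoc, Category.assoc, e0])
  have hs' : IsPullback s' (𝟙 Z₁') (o' ≫ pr₂) i₁' := IsPullback.of_map (Over.forget S)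
    (Over.OverMorphism.ext hs.w) hs
  have hτ' : Etale τ'.left := hτ
  have hPC₁ := (hPC₀.of_le (Q := @Etale) (fun _ _ _ h => h.1)).res hP' o' ho
  have hi₁ : IsRep H.i (D.X.obj.map τ'.op (secEquiv b)) i₁' (H.Z.obj.map ζ'.op z₀) := hi₀.baseChange hZ₁'
  obtain ⟨UT, jT, uT, hjT, -⟩ := RepWith.exists_isRep H.hj (D.X.obj.map τ'.op (secEquiv b))
  have hc := H.compl hi₁ hjT
  have hWC := wc_of_pc hPC₁ H.uniqY hi₁ hs' hjT hc
  have hcl₁ : IsClosedImmersion i₁ := hc.cl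
  have hfp₁ : LocallyOfFinitePresentation i₁ := RepWith.prop_of_isRep H.hifp hi₁
  -- flatness
  have hpr₁ : Etale (pullback.fst w₀.left τ) := MorphismProperty.of_isPullback hP.flip hτ
  have ha₁ : RepWith @Etale ((yon S).map ((o' ≫ pr₁) ≫ v₀) ≫ a) := etale_comp ha _ (by
    change Etale ((o ≫ pullback.fst w₀.left τ) ≫ v₀.left)
    infer_instance)
  have hb₁ := etale_comp hb τ' hτ
  have hcomm : ((yon S).map ((o' ≫ pr₁) ≫ v₀) ≫ a) ≫ D.f = (yon S).map (o' ≫ pr₂) ≫ (yon S).map τ' ≫ b := by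
    apply secEquiv.injective
    have h1 : secEquiv (((yon S).map ((o' ≫ pr₁) ≫ v₀) ≫ a) ≫ D.f) =
        D.f.hom.app _ (D.Y.obj.map (o' ≫ pr₁).op (D.Y.obj.map v₀.op (secEquiv a))) := by
      rw [Category.assoc, secEquiv_comp, ← map_comp, naturality]
      rfl
    rw [h1, hPC₁.hη, secEquiv_comp, secEquiv_comp]
  have hGC : GC (o ≫ pullback.snd w₀.left τ) i₁ := by
    refine gc_of_flat hs fun z => ?_
    rw [Groth.Agent.Sga3C.FlatPt.isFlatAt_iff_stalkMap]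
    refine H.hflat (Points.ofPt ((yon S).map ((o' ≫ pr₁) ≫ v₀) ≫ a) (s z)) ?_
      ((yon S).map ((o' ≫ pr₁) ≫ v₀) ≫ a) ((yon S).map τ' ≫ b) (o' ≫ pr₂) (s z) ha₁ hb₁ hcomm rfl
    rw [Points.map_ofPt, hcomm, K647.Pts.ofPt_map]
    have h3 : secEquiv.symm (D.X.obj.map τ'.op (secEquiv b)) = (yon S).map τ' ≫ b := by
      rw [← secEquiv_comp, Equiv.symm_apply_apply]
    have h4 := (K647.Pts.mem_range_iff ((isRep_iff_isPullback _ _ _ _).2 hi₁) ((o' ≫ pr₂).left (s z))).1 ⟨z,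
      (congrArg (fun k => k z) hsw).symm⟩
    rw [h3] at h4
    exact h4
  have hW₁a : IsAffine W₁'.left := hW₁
  obtain ⟨E, hE⟩ := exists_sd H.hpU H.hpY hWC (show GC (o' ≫ pr₂).left i₁'.left from hGC) hjT hc
  exact ⟨T₁', τ', E.sol H.injective_j, hτ, hz, hT₁, hE⟩

include H

/-- charts with a solution -/
theorem loc_chart {T₀ : Over S} [IsAffine T₀.left] {b : (yon S).obj T₀ ⟶ D.X} (hb : RepWith @Etale b) (t : T₀.left) :
    ∃ (T₁ : Over S) (τ : T₁ ⟶ T₀) (E : Sol (D.X.obj.map τ.op (secEquiv b))), Etale τ.left ∧ t ∈ Set.range τ.left ∧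
      IsAffine T₁.left ∧ IsAffine E.A.left := by
  obtain ⟨U₀, j₀, u₀, hj₀, -⟩ := RepWith.exists_isRep H.hj (secEquiv b)
  obtain ⟨Z₀, i₀, z₀, hi₀, -⟩ := RepWith.exists_isRep H.hi (secEquiv b)
  have hc := H.compl hi₀ hj₀
  by_cases ht : t ∈ Set.range j₀.left
  · exact loc_U H _ t hj₀ ht
  · refine loc_Z H hb t hi₀ ?_
    by_contra hcon
    exact ht (hc.compl ▸ hcon)

/-- Etale local existence of solutions. -/
theorem loc_any {U : Over S} (y : D.X.obj.obj (op U)) (t : U.left) :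
    ∃ (V T₁ : Over S) (v : V ⟶ U) (k : V ⟶ T₁) (x₁ : D.X.obj.obj (op T₁)) (E : Sol x₁), Etale v.left ∧
      t ∈ Set.range v.left ∧ IsAffine V.left ∧ IsAffine T₁.left ∧ IsAffine E.A.left ∧
      D.X.obj.map v.op y = D.X.obj.map k.op x₁ := by
  obtain ⟨T, b, hb, hbs⟩ := H.hX.atlas
  obtain ⟨V₀, v₀, ξ, hV₀, hv₀⟩ := RepWith.exists_isRep hb y
  obtain ⟨l⟩ := ξ
  have hv₀s : Surjective v₀.left := RepWith.prop_of_isRep hbs hV₀
  obtain ⟨t₀, rfl⟩ := hv₀s.surj t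
  have hw := hV₀.w
  rw [yonEquiv_apply] at hw
  -- an affine chart
  obtain ⟨O, hO, htO, -⟩ := exists_isAffineOpen_mem_and_subset (U := ⊤) (x := l.left t₀) trivial
  have hOa : IsAffine O := hO
  let T₀ : Over S := Over.mk (O.ι ≫ T.hom)
  let ι : T₀ ⟶ T := Over.homMk O.ι rfl
  have hT₀ : IsAffine T₀.left := hO
  have hι : Etale ι.left := inferInstanceAs (Etale O.ι)
  obtain ⟨T₁, τ, E, hτ, ⟨t₁, ht₁⟩, hT₁, hE⟩ := loc_chart H (etale_comp hb ι hι) (⟨l.left t₀, htO⟩ : O)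
  have hsq := IsPullback.of_hasPullback l (τ ≫ ι)
  have sq : IsPullback (pullback.fst l (τ ≫ ι)).left (pullback.snd l (τ ≫ ι)).left l.left (τ ≫ ι).left :=
    hsq.map (Over.forget S)
  have hτι : Etale (τ ≫ ι).left := by rw [Over.comp_left]; infer_instance
  have he1 : Etale (pullback.fst l (τ ≫ ι)).left := MorphismProperty.of_isPullback sq.flip hτι
  have ht₂ : l.left t₀ = (τ ≫ ι).left t₁ := by
    rw [Over.comp_left, Scheme.Hom.comp_apply, ht₁]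
    rfl
  have hr := K648.FG.range_snd_of_isPullback sq.flip
  have ht₃ : t₀ ∈ Set.range (pullback.fst l (τ ≫ ι)).left := by
    rw [hr]
    exact ⟨t₁, ht₂.symm⟩
  obtain ⟨q, hq⟩ := ht₃
  obtain ⟨V, hV, hqV, -⟩ := exists_isAffineOpen_mem_and_subset (U := ⊤) (x := q) trivial
  let V' : Over S := Over.mk (V.ι ≫ (pullback l (τ ≫ ι)).hom)
  let ιV : V' ⟶ pullback l (τ ≫ ι) := Over.homMk V.ι rfl
  have hιV : Etale ιV.left := inferInstanceAs (Etale V.ι)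
  refine ⟨V', T₁, ιV ≫ pullback.fst l (τ ≫ ι) ≫ v₀, ιV ≫ pullback.snd l (τ ≫ ι), _, E, ?_, ?_, hV, hT₁, hE, ?_⟩
  · rw [Over.comp_left, Over.comp_left]
    have : Etale v₀.left := hv₀
    infer_instance
  · refine ⟨(⟨q, hqV⟩ : V), ?_⟩
    rw [Over.comp_left, Over.comp_left, Scheme.Hom.comp_apply, Scheme.Hom.comp_apply]
    exact congrArg v₀.left hq
  · have e1 : D.X.obj.map (ιV ≫ pullback.fst l (τ ≫ ι) ≫ v₀).op y =
        D.X.obj.map (ιV ≫ pullback.fst l (τ ≫ ι)).op (D.X.obj.map v₀.op y) := by rw [← map_comp, Category.assoc]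
    have e2 : D.X.obj.map (ιV ≫ pullback.fst l (τ ≫ ι)).op (D.X.obj.map (Quiver.Hom.op l) (secEquiv b)) =
        D.X.obj.map ((ιV ≫ pullback.fst l (τ ≫ ι)) ≫ l).op (secEquiv b) := (map_comp _ _ _).symm
    have e3 : (ιV ≫ pullback.fst l (τ ≫ ι)) ≫ l = (ιV ≫ pullback.snd l (τ ≫ ι)) ≫ τ ≫ ι := by
      rw [Category.assoc, hsq.w, Category.assoc]
    rw [e1, ← hw, e2, e3, secEquiv_comp]
    simp only [map_comp]

/-- every section of `Y'` gives a section of the glued sheaf -/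
theorem star {T : Over S} (y' : D.Y'.obj.obj (op T)) : Star y' := by
  have h : ∀ t : T.left, ∃ (V : Over S) (v : V ⟶ T), Etale v.left ∧ t ∈ Set.range v.left ∧
      ∀ {V' : Over S} (d : V' ⟶ V), Star (D.Y'.obj.map (d ≫ v).op y') := by
    intro t
    obtain ⟨V, T₁, v, k, x₁, E, h1, h2, -, -, -, h3⟩ := loc_any H (D.f.hom.app _ (D.pY.hom.app _ y')) t
    refine ⟨V, v, h1, h2, fun {V'} d => E.star (d ≫ k) _ ?_⟩
    rw [naturality, naturality, map_comp, h3, ← map_comp]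
  choose V v hv ht hs using h
  have hF : FpF v := ⟨fun t => by have := hv t; infer_instance, fun t => by have := hv t; infer_instance,
    fun t => ⟨t, ht t⟩⟩
  refine star_of_cover y' hF.mem ?_
  rintro T' _ ⟨_, d, _, ⟨t⟩, rfl⟩
  exact hs t d

/-- The structure map of the glued sheaf is affine. -/
theorem repWith_π : RepWith @IsAffineHom D.π := by
  have := K597.EffDesc.descendsAlong_isAffineHom.{u}
  refine K597.EffDesc.repWith_of_etale_local @IsAffineHom fun U y t => ?_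
  obtain ⟨V, T₁, v, k, x₁, E, h1, h2, hV, hT₁, hE, h3⟩ := loc_any H y t
  have hr : IsRep D.π x₁ E.p E.s := by
    refine ⟨E.hs, fun {T'} a b h4 h5 => ?_, fun {T'} g s hs => ?_⟩
    · obtain ⟨l, -, hl⟩ := E.rep (b ≫ E.p) (Gl.res b E.s) (by
        change D.X.obj.map b.op E.s.x = _
        rw [E.hs, ← map_comp])
      rw [hl a ⟨h4, h5⟩, hl b ⟨rfl, rfl⟩]
    · obtain ⟨l, ⟨h4, h5⟩, -⟩ := E.rep g s hs
      exact ⟨l, h4, h5⟩
  have hsq := IsPullback.of_hasPullback E.p k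
  have sq : IsPullback (pullback.fst E.p k).left (pullback.snd E.p k).left E.p.left k.left :=
    hsq.map (Over.forget S)
  have hWa : IsAffine (pullback E.p k).left := IsAffine.of_isPullback sq
  refine ⟨V, v, pullback E.p k, pullback.snd E.p k, D.sh.obj.map (pullback.fst E.p k).op E.s, h1, h2, ?_, ?_, ?_⟩
  · rw [h3]
    exact hr.baseChange hsq
  · exact inferInstanceAs (IsAffineHom (pullback.snd E.p k).left)
  · intro O hO
    have : (pullback E.p k).left.IsQuasiAffine := inferInstance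
    exact K597.EffDesc.isQuasiAffine_open O hO

end K648.FGMain
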