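import Groth.Agent.AlgSp.K648.FGSp
import Groth.Agent.AlgSp.K640.FpqcRef
import Groth.Agent.AlgSp.K608.Comp

/-!
# Properties of the glued morphism
-/

set_option autoImplicit false

universe u

open CategoryTheory CategoryTheory.Limits AlgebraicGeometry Opposite AlgSp

namespace K648.FGProp

variable {S : Scheme.{u}}

/-- A property which is fpqc local on the base can be checked after base change to `U` and `Y`. -/
theorem of_isPullback {P : MorphismProperty (Sp S)} (hP : IsLocalOnBase (IsFpqcCover (S := S)) P)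
    [P.IsStableUnderBaseChange] {X Y Z FZ U X' U' Y' : Space S} (f : Y ⟶ X)
    (hqc : IsQuasiCompactMor f.hom) (i : Z ⟶ X)
    (hi : RepWith @IsClosedImmersion i.hom) (hifp : LocP @LocallyOfFinitePresentation i.hom)
    (iY : FZ ⟶ Y) (fZ : FZ ⟶ Z) (hFZ : IsPullback iY.hom fZ.hom f.hom i.hom) [IsIso fZ]
    (hflat : ∀ y ∈ Set.range (Points.map iY.hom), IsFlatAtMor f.hom y) (j : U ⟶ X)
    (hj : RepWith @IsOpenImmersion j.hom)
    (hU : Set.range (Points.map j.hom) = (Set.range (Points.map i.hom))ᶜ) {p : X' ⟶ X} {pU : U' ⟶ U} {pY : Y' ⟶ Y}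
    {aU : U' ⟶ X'} {aY : Y' ⟶ X'} (hU' : IsPullback aU.hom pU.hom p.hom j.hom)
    (hY' : IsPullback aY.hom pY.hom p.hom f.hom) (h1 : P pU.hom) (h2 : P pY.hom) : P p.hom := by
  obtain ⟨ι, W, w, hw, hl⟩ := K640.FpqcRef.exists_refinement f hqc i hi hifp iY fZ hFZ hflat j hj hU
  refine (hP (fun k => (W k).obj) (fun k => (w k).hom) X.property (fun k => (W k).property) hw p.hom X'.property
    (fun k => pullback p.hom (w k).hom) (fun k => pullback.snd _ _) (fun k => pullback.fst _ _)
    (fun k => K608.Comp.isAlgSpace_pullback _ _ X'.property (W k).property X.property)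
    (fun k => IsPullback.of_hasPullback _ _)).2 fun k => ?_
  have aux : ∀ {G G' : Sp S} {a : G' ⟶ X'.obj} {q : G' ⟶ G} {g : G ⟶ X.obj} (_ : IsPullback a q p.hom g)
      (l : (W k).obj ⟶ G) (_ : l ≫ g = (w k).hom) (_ : P q), P (pullback.snd p.hom (w k).hom) := by
    intro G G' a q g sq l hl hq
    have hp := IsPullback.of_hasPullback p.hom (w k).hom
    have e : pullback.fst p.hom (w k).hom ≫ p.hom = (pullback.snd p.hom (w k).hom ≫ l) ≫ g := by
      rw [Category.assoc, hl, hp.w]
    have h3 : IsPullback (sq.lift _ _ e) (pullback.snd p.hom (w k).hom) q l := by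
      refine IsPullback.of_right (h₁₂ := a) (h₂₂ := g) (v₁₃ := p.hom) ?_ (sq.lift_snd _ _ _) sq
      rw [sq.lift_fst, hl]
      exact hp
    exact MorphismProperty.of_isPullback h3 hq
  rcases hl k with ⟨l, hl⟩ | ⟨l, hl⟩
  · exact aux hU' l.hom (congrArg (fun m => m.hom) hl) h1
  · exact aux hY' l.hom (congrArg (fun m => m.hom) hl) h2

end K648.FGProp
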