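import Groth.Agent.AlgSp.K648.FGTors
import Mathlib.AlgebraicGeometry.Morphisms.Affine
import Mathlib.CategoryTheory.Limits.Types.Pullbacks

/-!
# Formal glueing of affine schemes: flat case
-/

set_option autoImplicit false
set_option backward.isDefEq.respectTransparency false
universe u

open CategoryTheory CategoryTheory.Limits AlgebraicGeometry Opposite

namespace K648.FG

/-- A flat morphism `w : W ⟶ T` of affine schemes which is an isomorphism over the closed subscheme `i : Z ⟶ T` of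
finite presentation. -/
structure FP {T W Z : Scheme.{u}} (w : W ⟶ T) (i : Z ⟶ T) : Prop where
  affT : IsAffine T
  affW : IsAffine W
  flat : Flat w
  cl : IsClosedImmersion i
  fp : LocallyOfFinitePresentation i
  sec : ∃ s : Z ⟶ W, IsPullback s (𝟙 Z) w i

/-- Base change of the section. -/
theorem sec_of_isPullback {T W Z T' W' Z' : Scheme.{u}} {w : W ⟶ T} {i : Z ⟶ T} {t : T' ⟶ T} {a : W' ⟶ W}
    {w' : W' ⟶ T'} {b : Z' ⟶ Z} {i' : Z' ⟶ T'} (hW : IsPullback a w' w t) (hZ : IsPullback b i' i t)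
    {s : Z ⟶ W} (hs : IsPullback s (𝟙 Z) w i) : ∃ s' : Z' ⟶ W', IsPullback s' (𝟙 Z') w' i' ∧ s' ≫ a = b ≫ s := by
  have hsw : s ≫ w = i := by rw [hs.w, Category.id_comp]
  let s' : Z' ⟶ W' := hW.lift (b ≫ s) i' (by rw [Category.assoc, hsw, hZ.w])
  have h1 : s' ≫ a = b ≫ s := hW.lift_fst _ _ _
  have h2 : s' ≫ w' = i' := hW.lift_snd _ _ _
  refine ⟨s', ?_, h1⟩
  have hl : IsPullback b (𝟙 Z') (𝟙 Z) b := IsPullback.of_vert_isIso ⟨by simp⟩
  have ht := hl.paste_horiz hs
  refine IsPullback.of_right (h₁₂ := a) (h₂₂ := t) (v₁₃ := w) ?_ (by rw [h2, Category.id_comp]) hW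
  rw [h1, ← hZ.w]
  exact ht

theorem FP.of_isPullback {T W Z T' W' Z' : Scheme.{u}} {w : W ⟶ T} {i : Z ⟶ T} (h : FP w i) {t : T' ⟶ T}
    [IsAffine T'] {a : W' ⟶ W}
    {w' : W' ⟶ T'} {b : Z' ⟶ Z} {i' : Z' ⟶ T'} (hW : IsPullback a w' w t) (hZ : IsPullback b i' i t) :
    FP w' i' where
  affT := inferInstance
  affW := by
    have := h.affT
    have := h.affW
    exact IsAffine.of_isPullback hW
  flat := by
    have := h.flat
    exact MorphismProperty.of_isPullback hW this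
  cl := by
    have := h.cl
    exact MorphismProperty.of_isPullback hZ this
  fp := by
    have := h.fp
    exact MorphismProperty.of_isPullback hZ this
  sec := by
    obtain ⟨s, hs⟩ := h.sec
    obtain ⟨s', hs', -⟩ := sec_of_isPullback hW hZ hs
    exact ⟨s', hs'⟩

/-- The ring map is an isomorphism modulo the ideal of `Z`. -/
theorem FP.bijective {T W Z : Scheme.{u}} {w : W ⟶ T} {i : Z ⟶ T} (h : FP w i) :
    Function.Bijective (Ideal.quotientMap ((idl i).map w.appTop.hom) w.appTop.hom Ideal.le_comap_map) := by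
  have := h.affT
  have := h.affW
  have := h.cl
  have := isAffine_of_closed i
  obtain ⟨s, hs⟩ := h.sec
  have hsw : s ≫ w = i := by rw [hs.w, Category.id_comp]
  have e1 : w.appTop ≫ s.appTop = i.appTop := by rw [← Scheme.Hom.comp_appTop, hsw]
  have e1' : ∀ r, s.appTop (w.appTop r) = i.appTop r := fun r => ConcreteCategory.congr_hom e1 r
  have hp : IsPushout w.appTop i.appTop s.appTop (𝟙 Z : Z ⟶ Z).appTop := isPushout_appTop_of_isPullback hs
  have hI : ∀ c ∈ (idl i).map w.appTop.hom, s.appTop c = 0 := by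
    intro c hc
    have : (idl i).map w.appTop.hom ≤ RingHom.ker s.appTop.hom := by
      rw [Ideal.map_le_iff_le_comap]
      intro a ha
      rw [Ideal.mem_comap, RingHom.mem_ker]
      exact (e1' a).trans ha
    exact this hc
  -- the map `Γ(Z) ⟶ C / IC`
  let q : Γ(Z, ⊤) →+* Γ(W, ⊤) ⧸ (idl i).map w.appTop.hom :=
    (Ideal.quotientMap ((idl i).map w.appTop.hom) w.appTop.hom Ideal.le_comap_map).comp
      (RingHom.quotientKerEquivOfSurjective (surjective_appTop i)).symm.toRingHom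
  have hq : ∀ r, q (i.appTop r) = Ideal.Quotient.mk _ (w.appTop r) := by
    intro r
    have h1 : (RingHom.quotientKerEquivOfSurjective (surjective_appTop i)).symm (i.appTop.hom r) =
        Ideal.Quotient.mk _ r := by
      rw [RingEquiv.symm_apply_eq]
      rfl
    change Ideal.quotientMap ((idl i).map w.appTop.hom) w.appTop.hom Ideal.le_comap_map
      ((RingHom.quotientKerEquivOfSurjective (surjective_appTop i)).symm (i.appTop.hom r)) = _
    rw [h1]
    rfl
  let d := hp.desc (CommRingCat.ofHom (Ideal.Quotient.mk ((idl i).map w.appTop.hom))) (CommRingCat.ofHom q) (by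
    ext r
    exact (hq r).symm)
  have hd : s.appTop ≫ d = CommRingCat.ofHom (Ideal.Quotient.mk ((idl i).map w.appTop.hom)) := hp.inl_desc _ _ _
  have hker : ∀ c, s.appTop c = 0 → c ∈ (idl i).map w.appTop.hom := by
    intro c hc
    have h1 := ConcreteCategory.congr_hom hd c
    rw [CommRingCat.comp_apply, hc, map_zero] at h1
    exact Ideal.Quotient.eq_zero_iff_mem.1 h1.symm
  constructor
  · rw [injective_iff_map_eq_zero]
    intro x hx
    obtain ⟨r, rfl⟩ := Ideal.Quotient.mk_surjective x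
    rw [Ideal.quotientMap_mk, Ideal.Quotient.eq_zero_iff_mem] at hx
    have h1 := hI _ hx
    rw [e1'] at h1
    exact Ideal.Quotient.eq_zero_iff_mem.2 h1
  · intro x
    obtain ⟨c, rfl⟩ := Ideal.Quotient.mk_surjective x
    obtain ⟨r, hr⟩ := surjective_appTop i (s.appTop c)
    refine ⟨Ideal.Quotient.mk _ r, ?_⟩
    rw [Ideal.quotientMap_mk, Ideal.Quotient.eq]
    refine hker _ ?_
    rw [map_sub, e1', sub_eq_zero]
    exact hr

/-- Flat base change of global sections. -/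
theorem isPushout_appTop_of_flat {X Y S T : Scheme.{u}} {f : T ⟶ S} {g : Y ⟶ X} {iX : X ⟶ S} {iY : Y ⟶ T}
    (H : IsPullback g iY iX f) [IsAffine S] [IsAffine T] [Flat f] [CompactSpace X] [QuasiSeparatedSpace X] :
    IsPushout iX.appTop f.appTop g.appTop iY.appTop := by
  have h1 := isIso_pushoutSection_of_isQuasiSeparated_of_flat_right H (US := ⊤) (UT := ⊤) (UX := ⊤) (UY := ⊤)
    le_top le_top (by simp) (isAffineOpen_top S) (isAffineOpen_top T) isCompact_univ isQuasiSeparated_univ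
  have h2 := (isIso_pushoutSection_iff H _ _ _).1 h1
  have h3 : ∀ {A B : Scheme.{u}} (k : A ⟶ B), k.appLE ⊤ ⊤ le_top = k.appTop := fun k => k.appLE_eq_app
  rw [h3, h3, h3, h3] at h2
  exact h2

/-- Morphisms to an affine scheme from a morphism of global sections. -/
theorem exists_hom_of_appTop {X D : Scheme.{u}} [IsAffine D] (φ : Γ(D, ⊤) ⟶ Γ(X, ⊤)) :
    ∃ d : X ⟶ D, d.appTop = φ := by
  refine ⟨X.toSpecΓ ≫ Spec.map φ ≫ D.isoSpec.inv, ?_⟩
  apply Quiver.Hom.op_inj
  apply (ΓSpec.adjunction.homEquiv X (op Γ(D, ⊤))).injective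
  rw [Adjunction.homEquiv_unit, Adjunction.homEquiv_unit]
  have h := Scheme.toSpecΓ_naturality (X.toSpecΓ ≫ Spec.map φ ≫ D.isoSpec.inv)
  rw [Category.assoc, Category.assoc, Scheme.isoSpec_inv_toSpecΓ, Category.comp_id] at h
  exact h.symm

/-- `T` is the pushout of `U` and `W` over `V`, on global sections. -/
theorem FP.isPullback_appTop {T W Z U V : Scheme.{u}} {w : W ⟶ T} {i : Z ⟶ T} (h : FP w i) {j : U ⟶ T}
    (hj : Compl i j) {v₁ : V ⟶ U} {v₂ : V ⟶ W} (H : IsPullback v₁ v₂ j w) :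
    IsPullback j.appTop w.appTop v₁.appTop v₂.appTop := by
  have := h.affT
  have := h.affW
  have := h.cl
  have := h.fp
  have := h.flat
  have := hj.op
  have : QuasiCompact j := hj.quasiCompact
  have : CompactSpace U := QuasiCompact.compactSpace_of_compactSpace j
  have : QuasiSeparatedSpace U := QuasiSeparatedSpace.of_isOpenEmbedding j.isOpenEmbedding
  have hp : IsPushout j.appTop w.appTop v₁.appTop v₂.appTop := isPushout_appTop_of_flat H
  algebraize [w.appTop.hom, j.appTop.hom, v₂.appTop.hom, v₁.appTop.hom, v₂.appTop.hom.comp w.appTop.hom]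
  have e1 : v₂.appTop.hom.comp w.appTop.hom = v₁.appTop.hom.comp j.appTop.hom :=
    congrArg CommRingCat.Hom.hom hp.w.symm
  have : IsScalarTower Γ(T, ⊤) Γ(U, ⊤) Γ(V, ⊤) := IsScalarTower.of_algebraMap_eq' e1
  have hp' : Algebra.IsPushout Γ(T, ⊤) Γ(W, ⊤) Γ(U, ⊤) Γ(V, ⊤) := CommRingCat.isPushout_iff_isPushout.1 hp.flip
  have hfl : Module.Flat Γ(T, ⊤) Γ(W, ⊤) := (HasRingHomProperty.appTop (P := @Flat) w inferInstance : w.appTop.hom.Flat)
  have key := existsUnique_glue (R := Γ(T, ⊤)) (C := Γ(W, ⊤)) h.bijective Γ(U, ⊤) Γ(V, ⊤) (fun r hr => by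
    obtain ⟨n, hn⟩ := hj.tors_ker (p := 𝟙 T) (κ := j) (q := 𝟙 U) (IsPullback.of_vert_isIso ⟨by simp⟩) r hr
    refine ⟨n, fun a ha => ?_⟩
    have := hn a ha
    simpa using this) (fun x => by
    obtain ⟨n, hn⟩ := hj.tors_coker (p := 𝟙 T) (κ := j) (q := 𝟙 U) (IsPullback.of_vert_isIso ⟨by simp⟩) x
    refine ⟨n, fun a ha => ?_⟩
    obtain ⟨r, hr⟩ := hn a ha
    refine ⟨r, ?_⟩
    rw [Algebra.smul_def]
    have h5 : j.appTop r = j.appTop a * x := by simpa using hr
    exact h5)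
  refine IsPullback.of_map (forget CommRingCat) hp.w ?_
  rw [Types.isPullback_iff]
  refine ⟨?_, ?_, ?_⟩
  · rw [← Functor.map_comp, hp.w, Functor.map_comp]
  · rintro x y ⟨h1, h2⟩
    obtain ⟨r, -, hr⟩ := key (j.appTop x) (w.appTop x) (ConcreteCategory.congr_hom hp.w x)
    exact (hr x ⟨rfl, rfl⟩).trans (hr y ⟨h1.symm, h2.symm⟩).symm
  · intro x y hxy
    obtain ⟨r, ⟨h1, h2⟩, -⟩ := key x y hxy
    exact ⟨r, h1, h2⟩

/-- `T` is the pushout of `U` and `W` over `V`, for maps to affine schemes. -/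
theorem FP.existsUnique_desc {T W Z U V : Scheme.{u}} {w : W ⟶ T} {i : Z ⟶ T} (h : FP w i) {j : U ⟶ T}
    (hj : Compl i j) {v₁ : V ⟶ U} {v₂ : V ⟶ W} (H : IsPullback v₁ v₂ j w) {D : Scheme.{u}} [IsAffine D]
    (a : U ⟶ D) (b : W ⟶ D) (hab : v₁ ≫ a = v₂ ≫ b) : ∃! d : T ⟶ D, j ≫ d = a ∧ w ≫ d = b := by
  have hp := h.isPullback_appTop hj H
  obtain ⟨d, hd⟩ := exists_hom_of_appTop (X := T) (D := D) (hp.lift a.appTop b.appTop (by
    rw [← Scheme.Hom.comp_appTop, ← Scheme.Hom.comp_appTop, hab]))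
  refine ⟨d, ⟨ext_of_isAffine ?_, ext_of_isAffine ?_⟩, ?_⟩
  · rw [Scheme.Hom.comp_appTop, hd, hp.lift_fst]
  · rw [Scheme.Hom.comp_appTop, hd, hp.lift_snd]
  · rintro d' ⟨h1, h2⟩
    apply ext_of_isAffine
    apply hp.hom_ext
    · rw [hd, hp.lift_fst, ← h1, Scheme.Hom.comp_appTop]
    · rw [hd, hp.lift_snd, ← h2, Scheme.Hom.comp_appTop]

end K648.FG
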