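import Mathlib.CategoryTheory.Sites.Sheaf
import Mathlib.CategoryTheory.Sites.Limits
import Mathlib.CategoryTheory.Limits.Types.Pullbacks
import Groth.Agent.AlgSp.K642.Glue

/-!
# Formal glueing: the sheaf of compatible pairs of sections

Sheaves of sets on any site.  `Sec f p x` : sections of `p : Y' ⟶ Y` over the pullback of `x ∈ X(T)` along
`f : Y ⟶ X` (the value of the Weil restriction of `Y'` along `f`).
-/

set_option autoImplicit false

universe w v u

open CategoryTheory CategoryTheory.Limits Opposite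

namespace K648.FGSheaf

variable {C : Type u} [Category.{v} C] {J : GrothendieckTopology C}

theorem naturality {F G : Sheaf J (Type w)} (f : F ⟶ G) {T T' : C} (k : T' ⟶ T) (x : F.obj.obj (op T)) :
    f.hom.app (op T') (F.obj.map k.op x) = G.obj.map k.op (f.hom.app (op T) x) :=
  NatTrans.naturality_apply f.hom k.op x

theorem map_comp {F : Sheaf J (Type w)} {T T' T'' : C} (k : T' ⟶ T) (l : T'' ⟶ T') (x : F.obj.obj (op T)) :
    F.obj.map (l ≫ k).op x = F.obj.map l.op (F.obj.map k.op x) := by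
  rw [← Functor.map_comp_apply]; rfl

theorem map_id {F : Sheaf J (Type w)} {T : C} (x : F.obj.obj (op T)) : F.obj.map (𝟙 T).op x = x := by
  rw [op_id, Functor.map_id_apply]

/-- Sections of `p` over the pullback of `x` along `f`. -/
structure Sec {X Y Y' : Sheaf J (Type w)} (f : Y ⟶ X) (p : Y' ⟶ Y) {T : C} (x : X.obj.obj (op T)) where
  /-- the value -/
  val : ∀ {T' : C} (g : T' ⟶ T) (y : Y.obj.obj (op T')), f.hom.app (op T') y = X.obj.map g.op x → Y'.obj.obj (op T')
  hval : ∀ {T' : C} (g : T' ⟶ T) (y : Y.obj.obj (op T')) (h : f.hom.app (op T') y = X.obj.map g.op x),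
    p.hom.app (op T') (val g y h) = y
  nat : ∀ {T' T'' : C} (k : T'' ⟶ T') (g : T' ⟶ T) (y : Y.obj.obj (op T'))
    (h : f.hom.app (op T') y = X.obj.map g.op x)
    (h' : f.hom.app (op T'') (Y.obj.map k.op y) = X.obj.map (k ≫ g).op x),
    val (k ≫ g) (Y.obj.map k.op y) h' = Y'.obj.map k.op (val g y h)

namespace Sec

variable {X Y Y' : Sheaf J (Type w)} {f : Y ⟶ X} {p : Y' ⟶ Y} {T : C} {x : X.obj.obj (op T)}

theorem ext' {s t : Sec f p x} (h : ∀ {T' : C} (g : T' ⟶ T) (y : Y.obj.obj (op T'))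
    (h : f.hom.app (op T') y = X.obj.map g.op x), s.val g y h = t.val g y h) : s = t := by
  cases s; cases t
  congr
  funext T' g y h'
  exact h g y h'

theorem nat' (s : Sec f p x) {T' T'' : C} (k : T'' ⟶ T') (g : T' ⟶ T) (y : Y.obj.obj (op T'))
    (h : f.hom.app (op T') y = X.obj.map g.op x) {g' : T'' ⟶ T} (hg : g' = k ≫ g) {y' : Y.obj.obj (op T'')}
    (hy : y' = Y.obj.map k.op y) (h' : f.hom.app (op T'') y' = X.obj.map g'.op x) :
    s.val g' y' h' = Y'.obj.map k.op (s.val g y h) := by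
  subst hg; subst hy
  exact s.nat k g y h h'

theorem congr_val (s : Sec f p x) {T' : C} {g g' : T' ⟶ T} (hg : g = g') {y y' : Y.obj.obj (op T')} (hy : y = y')
    (h : f.hom.app (op T') y = X.obj.map g.op x) (h' : f.hom.app (op T') y' = X.obj.map g'.op x) :
    s.val g y h = s.val g' y' h' := by
  subst hg; subst hy; rfl

/-- Restriction. -/
def res (s : Sec f p x) {T₁ : C} (l : T₁ ⟶ T) : Sec f p (X.obj.map l.op x) where
  val g y h := s.val (g ≫ l) y (by rw [h, map_comp])
  hval g y h := s.hval _ _ _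
  nat k g y h h' := s.nat' k (g ≫ l) y _ (Category.assoc _ _ _) rfl _

@[simp] theorem res_val (s : Sec f p x) {T₁ : C} (l : T₁ ⟶ T) {T' : C} (g : T' ⟶ T₁) (y : Y.obj.obj (op T'))
    (h : f.hom.app (op T') y = X.obj.map g.op (X.obj.map l.op x)) :
    (s.res l).val g y h = s.val (g ≫ l) y (by rw [h, map_comp]) := rfl

/-- Transport along an equality. -/
def cast (s : Sec f p x) {x' : X.obj.obj (op T)} (e : x = x') : Sec f p x' where
  val g y h := s.val g y (by rw [h, e])
  hval g y h := s.hval _ _ _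
  nat k g y h h' := s.nat _ _ _ _ _

@[simp] theorem cast_val (s : Sec f p x) {x' : X.obj.obj (op T)} (e : x = x') {T' : C} (g : T' ⟶ T)
    (y : Y.obj.obj (op T')) (h : f.hom.app (op T') y = X.obj.map g.op x') :
    (s.cast e).val g y h = s.val g y (by rw [h, e]) := rfl

/-- Sections agreeing on a covering sieve agree. -/
theorem ext_of_cover {R : Sieve T} (hR : R ∈ J T) {s t : Sec f p x}
    (h : ∀ {T' : C} (g : T' ⟶ T) (_ : R g) (y : Y.obj.obj (op T')) (h : f.hom.app (op T') y = X.obj.map g.op x),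
      s.val g y h = t.val g y h) : s = t := by
  refine ext' fun {T'} g y hy => ?_
  refine K642.Glue.sep Y' (J.pullback_stable g hR) fun T'' k hk => ?_
  have h1 : f.hom.app (op T'') (Y.obj.map k.op y) = X.obj.map (k ≫ g).op x := by
    rw [naturality, hy, map_comp]
  rw [← s.nat k g y hy h1, ← t.nat k g y hy h1]
  exact h _ hk _ _

/-- Glueing of sections along a covering sieve. -/
theorem exists_glue {R : Sieve T} (hR : R ∈ J T) (s : ∀ {T' : C} (k : T' ⟶ T), R k → Sec f p (X.obj.map k.op x))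
    (hs : ∀ {T' T'' T₃ : C} (k : T' ⟶ T) (hk : R k) (l : T'' ⟶ T') (hl : R (l ≫ k)) (g : T₃ ⟶ T'')
      (y : Y.obj.obj (op T₃)) (h : f.hom.app (op T₃) y = X.obj.map g.op (X.obj.map (l ≫ k).op x))
      (h' : f.hom.app (op T₃) y = X.obj.map (g ≫ l).op (X.obj.map k.op x)),
      (s (l ≫ k) hl).val g y h = (s k hk).val (g ≫ l) y h') :
    ∃ t : Sec f p x, ∀ {T' T'' : C} (k : T' ⟶ T) (hk : R k) (g : T'' ⟶ T') (y : Y.obj.obj (op T''))
      (h : f.hom.app (op T'') y = X.obj.map (g ≫ k).op x) (h' : f.hom.app (op T'') y = X.obj.map g.op (X.obj.map k.op x)),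
      t.val (g ≫ k) y h = (s k hk).val g y h' := by
  -- a transport lemma
  have hs' : ∀ {T' T'' T₃ : C} (k : T' ⟶ T) (hk : R k) (l : T'' ⟶ T') (k' : T'' ⟶ T) (e : k' = l ≫ k) (hk' : R k')
      (g : T₃ ⟶ T'') (g' : T₃ ⟶ T') (_ : g' = g ≫ l) (y y' : Y.obj.obj (op T₃)) (_ : y = y')
      (h : f.hom.app (op T₃) y = X.obj.map g.op (X.obj.map k'.op x))
      (h' : f.hom.app (op T₃) y' = X.obj.map g'.op (X.obj.map k.op x)),
      (s k' hk').val g y h = (s k hk).val g' y' h' := by
    rintro T' T'' T₃ k hk l _ rfl hk' g _ rfl y _ rfl h h'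
    exact hs k hk l hk' g y h h'
  have key : ∀ {T' : C} (g : T' ⟶ T) (y : Y.obj.obj (op T')) (h : f.hom.app (op T') y = X.obj.map g.op x),
      ∃! z : Y'.obj.obj (op T'), ∀ {T'' : C} (l : T'' ⟶ T') (hl : R (l ≫ g))
        (h' : f.hom.app (op T'') (Y.obj.map l.op y) = X.obj.map (𝟙 T'').op (X.obj.map (l ≫ g).op x)),
        Y'.obj.map l.op z = (s (l ≫ g) hl).val (𝟙 _) (Y.obj.map l.op y) h' := by
    intro T' g y h
    have hh : ∀ {T'' : C} (l : T'' ⟶ T'),
        f.hom.app (op T'') (Y.obj.map l.op y) = X.obj.map (𝟙 T'').op (X.obj.map (l ≫ g).op x) := by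
      intro T'' l
      rw [naturality, h, map_comp, map_id]
    let fam : Presieve.FamilyOfElements Y'.obj (R.pullback g : Presieve T') := fun T'' l hl =>
      (s (l ≫ g) hl).val (𝟙 _) (Y.obj.map l.op y) (hh l)
    have hfam : fam.Compatible := by
      rw [Presieve.compatible_iff_sieveCompatible]
      intro T₁ T₂ l m hl
      change (s ((m ≫ l) ≫ g) _).val (𝟙 _) (Y.obj.map (m ≫ l).op y) _ =
        Y'.obj.map m.op ((s (l ≫ g) _).val (𝟙 _) (Y.obj.map l.op y) _)
      have e1 := (s (l ≫ g) hl).nat m (𝟙 _) (Y.obj.map l.op y) (hh l) (by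
        rw [← map_comp, naturality, h, ← map_comp, ← map_comp]; congr 2; simp)
      rw [← e1]
      exact hs' (l ≫ g) hl m _ (Category.assoc _ _ _) _ _ _ (by simp) _ _ (by rw [map_comp]) _ _
    obtain ⟨z, hz, hz'⟩ := (K642.Glue.isSheaf Y') _ (J.pullback_stable g hR) fam hfam
    refine ⟨z, fun {T''} l hl h' => hz l hl, fun z' h' => hz' z' fun T'' l hl => h' l hl (hh l)⟩
  choose val hval huniq using @key
  -- compatibility with restriction
  have hrestr : ∀ {T' T'' : C} (k : T'' ⟶ T') (g : T' ⟶ T) (y : Y.obj.obj (op T'))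
      (h : f.hom.app (op T') y = X.obj.map g.op x)
      (h' : f.hom.app (op T'') (Y.obj.map k.op y) = X.obj.map (k ≫ g).op x),
      val (k ≫ g) (Y.obj.map k.op y) h' = Y'.obj.map k.op (val g y h) := by
    intro T' T'' k g y h h'
    refine (huniq _ _ _ _ ?_).symm
    intro T₃ l hl h₃
    rw [← map_comp, hval g y h (l ≫ k) (by rw [Category.assoc]; exact hl) (by
      rw [naturality, h, ← map_comp, ← map_comp]; congr 2; simp)]
    refine hs' (l ≫ k ≫ g) hl (𝟙 _) _ (by simp) _ _ _ (by simp) _ _ ?_ _ _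
    rw [map_comp]
  refine ⟨⟨fun {T'} g y h => val g y h, ?_, hrestr⟩, ?_⟩
  · intro T' g y h
    refine K642.Glue.sep Y (J.pullback_stable g hR) fun T'' l hl => ?_
    rw [← naturality]
    have h1 : f.hom.app (op T'') (Y.obj.map l.op y) = X.obj.map (𝟙 T'').op (X.obj.map (l ≫ g).op x) := by
      rw [naturality, h, map_comp, map_id]
    rw [hval g y h l hl h1, Sec.hval]
  · intro T' T'' k hk g y h h'
    have h1 : f.hom.app (op T'') (Y.obj.map (𝟙 T'').op y) = X.obj.map (𝟙 T'').op (X.obj.map (𝟙 T'' ≫ g ≫ k).op x) := by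
      rw [map_id, map_id, Category.id_comp, h]
    have e1 := hval (g ≫ k) y h (𝟙 T'') (by rw [Category.id_comp]; exact R.downward_closed hk g) h1
    rw [map_id] at e1
    change val (g ≫ k) y h = _
    rw [e1]
    exact hs' k hk g _ (by simp) _ _ _ (by simp) _ _ (map_id _) _ _

end Sec

end K648.FGSheaf
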