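import Groth.Agent.AlgSp.K648.FGVal
import Groth.Agent.AlgSp.K640.Loc
import Groth.Agent.AlgSp.K594.Elem

/-!
# Formal glueing: representing the glued sheaf over a chart
-/

set_option autoImplicit false

universe u

open CategoryTheory CategoryTheory.Limits AlgebraicGeometry Opposite AlgSp

namespace K648.FGSol

open K648.FGSheaf K648.FGSheaf.Dat K594.Elem K640.Loc K640.Joint

variable {S : Scheme.{u}}

section

variable {F G P : Sp S} {f : F ⟶ G} {p : P ⟶ F} {T : Over S} {x : G.obj.obj (op T)} {V : Over S} {v : V ⟶ T}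
  {ξ : F.obj.obj (op V)}

/-- Sections over a representable pullback. -/
noncomputable def secOf (h : IsRep f x v ξ) (z : P.obj.obj (op V)) (hz : p.hom.app _ z = ξ) : Sec f p x where
  val g y hy := P.obj.map (h.lift g y hy).choose.op z
  hval g y hy := by
    rw [naturality, hz]
    exact (h.lift g y hy).choose_spec.2
  nat k g y h₁ h₂ := by
    rw [← map_comp]
    have e1 := (h.lift g y h₁).choose_spec
    have e2 := (h.lift (k ≫ g) _ h₂).choose_spec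
    refine congrArg (fun l => P.obj.map (Quiver.Hom.op l) z) (h.inj _ _ ?_ ?_)
    · rw [e2.1, Category.assoc, e1.1]
    · rw [e2.2, map_comp, e1.2]

theorem secOf_val (h : IsRep f x v ξ) (z : P.obj.obj (op V)) (hz : p.hom.app _ z = ξ) {T' : Over S} (g : T' ⟶ T)
    (y : F.obj.obj (op T')) (hy) (l : T' ⟶ V) (hl : l ≫ v = g) (hly : F.obj.map l.op ξ = y) :
    (secOf h z hz).val g y hy = P.obj.map l.op z := by
  change P.obj.map (h.lift g y hy).choose.op z = _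
  have e1 := (h.lift g y hy).choose_spec
  rw [h.inj (h.lift g y hy).choose l (by rw [e1.1, hl]) (by rw [e1.2, hly])]

theorem sec_val (h : IsRep f x v ξ) (a : Sec f p x) {T' : Over S} (g : T' ⟶ T)
    (y : F.obj.obj (op T')) (hy) (l : T' ⟶ V) (hl : l ≫ v = g) (hly : F.obj.map l.op ξ = y) :
    a.val g y hy = P.obj.map l.op (a.val v ξ h.w) :=
  a.nat' l v ξ h.w hl.symm hly.symm hy

theorem sec_ext (h : IsRep f x v ξ) {a b : Sec f p x} (hab : a.val v ξ h.w = b.val v ξ h.w) : a = b := by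
  refine Sec.ext' fun g y hy => ?_
  obtain ⟨l, hl1, hl2⟩ := h.lift g y hy
  rw [sec_val h a g y hy l hl1 hl2, sec_val h b g y hy l hl1 hl2, hab]

end

/-- Local unique existence implies unique existence. -/
theorem existsUnique_of_locally {T A : Over S} {Q : ∀ ⦃T' : Over S⦄, (T' ⟶ T) → (T' ⟶ A) → Prop}
    (hres : ∀ ⦃T' T'' : Over S⦄ (c : T' ⟶ T) (d : T'' ⟶ T') (z : T' ⟶ A), Q c z → Q (d ≫ c) (d ≫ z))
    (hloc : ∀ ⦃T' : Over S⦄ (c : T' ⟶ T) (z : T' ⟶ A), Locally T' (fun _ d => Q (d ≫ c) (d ≫ z)) → Q c z)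
    (h : ∀ ⦃T' : Over S⦄ (c : T' ⟶ T), Locally T' (fun T'' d => ∃ (V : Over S) (a : T'' ⟶ V) (b : V ⟶ T'),
      a ≫ b = d ∧ ∃! z, Q (b ≫ c) z)) {T' : Over S} (c : T' ⟶ T) : ∃! z, Q c z := by
  have huniq : ∀ ⦃T' : Over S⦄ (c : T' ⟶ T) (z z' : T' ⟶ A), Q c z → Q c z' → z = z' := by
    intro T' c z z' hz hz'
    refine Locally.ext' ((h c).imp ?_)
    rintro T'' _ ⟨V, a, b, rfl, hV⟩
    rw [Category.assoc, Category.assoc, hV.unique (hres c b z hz) (hres c b z' hz')]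
  obtain ⟨z, hz⟩ := Locally.glue' (X := A) (Q := fun _ d z => Q (d ≫ c) z)
    (fun T₁ T₂ d e z hz => by
      have := hres _ e z hz
      rwa [← Category.assoc] at this)
    (fun T₁ d z z' hz hz' => huniq _ z z' hz hz')
    ((h c).imp (by
      rintro T'' _ ⟨V, a, b, rfl, ⟨z, hz, -⟩⟩
      refine ⟨a ≫ z, ?_⟩
      rw [Category.assoc]
      exact hres _ a z hz))
  exact ⟨z, hloc _ _ hz, fun z' hz' => huniq c z' z hz' (hloc _ _ hz)⟩

/-- The schemes over a chart `T` and the glued scheme `A`. -/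
structure SD (D : Dat (J S)) {T : Over S} (x : D.X.obj.obj (op T)) where
  (UT W VT U' W' V' A : Over S)
  (jT : UT ⟶ T) (w : W ⟶ T) (v₁ : VT ⟶ UT) (v₂ : VT ⟶ W) (pU : U' ⟶ UT) (pW : W' ⟶ W) (pV : V' ⟶ VT)
  (eU : V' ⟶ U') (eW : V' ⟶ W') (p : A ⟶ T) (aU : U' ⟶ A) (aW : W' ⟶ A)
  (uT : D.U.obj.obj (op UT)) (η : D.Y.obj.obj (op W)) (u' : D.U'.obj.obj (op U')) (y' : D.Y'.obj.obj (op W'))
  (v' : D.V'.obj.obj (op V'))
  hjT : IsRep D.j x jT uT
  hW : WC D x w η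
  hpU : IsRep D.pU uT pU u'
  hpW : IsRep D.pY η pW y'
  hV : IsPullback v₁ v₂ jT w
  hVU : IsPullback eU pV pU v₁
  hVW : IsPullback eW pV pW v₂
  hAU : IsPullback aU pU p jT
  hAW : IsPullback aW pW p w
  hcomm : eU ≫ aU = eW ≫ aW
  hv₁ : D.eU.hom.app _ v' = D.U'.obj.map eU.op u'
  hv₂ : D.eY.hom.app _ v' = D.Y'.obj.map eW.op y'
  desc : ∀ {T' : Over S} (k : T' ⟶ T) [IsAffine T'.left] {U₁ W₁ : Over S} {kU : U₁ ⟶ UT} {jU : U₁ ⟶ T'}
    (_ : IsPullback kU jU jT k) {kW : W₁ ⟶ W} {w₁ : W₁ ⟶ T'} (_ : IsPullback kW w₁ w k) (a : U₁ ⟶ A) (b : W₁ ⟶ A)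
    (_ : ∀ {V : Over S} (α : V ⟶ U₁) (β : V ⟶ W₁), α ≫ jU = β ≫ w₁ → α ≫ a = β ≫ b) (_ : a ≫ p = jU ≫ k)
    (_ : b ≫ p = w₁ ≫ k), ∃! d : T' ⟶ A, d ≫ p = k ∧ jU ≫ d = a ∧ w₁ ≫ d = b

namespace SD

variable {D : Dat (J S)} {T : Over S} {x : D.X.obj.obj (op T)} (E : SD D x)
  (hj : ∀ T, Function.Injective (D.j.hom.app (op T)))

theorem hv₃ : D.jV.hom.app _ (D.pV.hom.app _ E.v') = D.Y.obj.map (E.pV ≫ E.v₂).op E.η := by
  rw [← D.wY', E.hv₂, naturality, E.hpW.w, ← map_comp, E.hVW.w]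

theorem hv₄ : D.fV.hom.app _ (D.pV.hom.app _ E.v') = D.U.obj.map (E.pV ≫ E.v₁).op E.uT := by
  rw [← D.wU', E.hv₁, naturality, E.hpU.w, ← map_comp, E.hVU.w]

/-- the section over `U` -/
noncomputable def a : Sec D.j D.pU (D.X.obj.map E.p.op x) :=
  secOf (E.hjT.baseChange E.hAU.flip) E.u' E.hpU.w

theorem a_val {T' : Over S} (g : T' ⟶ E.A) (u : D.U.obj.obj (op T')) (hu) (l : T' ⟶ E.U') (hl : l ≫ E.aU = g)
    (hlu : D.U.obj.map (l ≫ E.pU).op E.uT = u) : E.a.val g u hu = D.U'.obj.map l.op E.u' :=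
  secOf_val _ _ _ g u hu l hl (by rw [← map_comp, hlu])

theorem hWA : WC D (D.X.obj.map E.p.op x) E.aW (D.Y.obj.map E.pW.op E.η) := E.hW.baseChange E.hAW.flip

/-- a section of `V'` over `T'` compatible with a map to `V'_T` -/
theorem v'_eq {T' : Over S} (n : T' ⟶ E.V') (v : D.V'.obj.obj (op T'))
    (h₁ : D.eU.hom.app _ v = D.U'.obj.map (n ≫ E.eU).op E.u')
    (h₂ : D.jV.hom.app _ (D.pV.hom.app _ v) = D.Y.obj.map (n ≫ E.pV ≫ E.v₂).op E.η) :
    D.V'.obj.map n.op E.v' = v := by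
  refine eq_of_eU_jV ?_ ?_
  · rw [naturality, E.hv₁, h₁, map_comp]
  · rw [naturality, naturality, E.hv₃, h₂, ← map_comp]

theorem comp : Comp E.aW (D.Y.obj.map E.pW.op E.η) E.a E.y' := by
  intro T' l v' hv h2
  obtain ⟨h, h1⟩ := hv
  have h3 : D.j.hom.app (op T') (D.fV.hom.app _ (D.pV.hom.app _ v')) = D.X.obj.map ((l ≫ E.aW) ≫ E.p).op x := by
    rw [h, ← map_comp]
  obtain ⟨t, ht1, ht2⟩ := E.hjT.lift _ _ h3
  have hm1 := E.hAU.lift_fst (l ≫ E.aW) t ht1.symm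
  have hm2 := E.hAU.lift_snd (l ≫ E.aW) t ht1.symm
  set m := E.hAU.lift (l ≫ E.aW) t ht1.symm
  have e1 : E.a.val (l ≫ E.aW) _ h = D.U'.obj.map m.op E.u' := E.a_val _ _ h m hm1 (by rw [hm2, ht2])
  have hb : t ≫ E.jT = (l ≫ E.pW) ≫ E.w := by
    rw [ht1, Category.assoc, Category.assoc, E.hAW.w]
  have hb1 := E.hV.lift_fst t (l ≫ E.pW) hb
  have hb2 := E.hV.lift_snd t (l ≫ E.pW) hb
  set b := E.hV.lift t (l ≫ E.pW) hb
  have hn1 := E.hVU.lift_fst m b (by rw [hm2, hb1])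
  have hn2 := E.hVU.lift_snd m b (by rw [hm2, hb1])
  set n := E.hVU.lift m b (by rw [hm2, hb1])
  have hn : n ≫ E.eW = l := by
    apply E.hAW.hom_ext
    · rw [Category.assoc, ← E.hcomm, reassoc_of% hn1, hm1]
    · rw [Category.assoc, E.hVW.w, reassoc_of% hn2, hb2]
  have e2 : D.V'.obj.map n.op E.v' = v' := by
    refine E.v'_eq n v' ?_ ?_
    · rw [h1, e1, hn1]
    · rw [h2, ← map_comp, reassoc_of% hn2, hb2]
  rw [← e2, naturality, E.hv₂, ← map_comp, hn]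

include hj in
theorem exists_fam : ∃ F : D.Fam (D.X.obj.map E.p.op x), F.a = E.a ∧ ∀ h, F.b.val E.aW (D.Y.obj.map E.pW.op E.η) h = E.y' :=
  E.hWA.exists_fam hj E.hpW.w E.comp

/-- the universal section -/
noncomputable def s : Gl D E.A := ⟨D.X.obj.map E.p.op x, (E.exists_fam hj).choose⟩

theorem s_x : (E.s hj).x = D.X.obj.map E.p.op x := rfl

theorem s_a {T' : Over S} (g : T' ⟶ E.A) (u : D.U.obj.obj (op T')) (hu) (l : T' ⟶ E.U') (hl : l ≫ E.aU = g)
    (hlu : D.U.obj.map (l ≫ E.pU).op E.uT = u) : (E.s hj).F.a.val g u hu = D.U'.obj.map l.op E.u' := by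
  have h := E.a_val g u hu l hl hlu
  have h1 : (E.s hj).F.a = E.a := (E.exists_fam hj).choose_spec.1
  rw [← h]
  exact congrArg (fun a : Sec D.j D.pU (D.X.obj.map E.p.op x) => a.val g u hu) h1

theorem s_b₀ (h) : (E.s hj).F.b.val E.aW (D.Y.obj.map E.pW.op E.η) h = E.y' := (E.exists_fam hj).choose_spec.2 h

theorem s_b {T' : Over S} (g : T' ⟶ E.A) (y : D.Y.obj.obj (op T')) (hy) (l : T' ⟶ E.W') (hl : l ≫ E.aW = g)
    (hly : D.Y.obj.map (l ≫ E.pW).op E.η = y) : (E.s hj).F.b.val g y hy = D.Y'.obj.map l.op E.y' := by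
  have h : D.f.hom.app _ (D.Y.obj.map E.pW.op E.η) = D.X.obj.map E.aW.op (E.s hj).x := E.hWA.hη
  have h1 := (E.s hj).F.b.nat' l E.aW (D.Y.obj.map E.pW.op E.η) h hl.symm (by rw [← map_comp, hly]) hy
  rw [h1, E.s_b₀ hj]

theorem res_x {T' : Over S} {k : T' ⟶ T} {l : T' ⟶ E.A} (hl : l ≫ E.p = k) :
    (Gl.res l (E.s hj)).x = D.X.obj.map k.op x := by
  change D.X.obj.map l.op (D.X.obj.map E.p.op x) = _
  rw [← map_comp, hl]

theorem gl_ext {T' U₁ W₁ : Over S} {s t : Gl D T'} {jU : U₁ ⟶ T'} {u₁ : D.U.obj.obj (op U₁)} (hr : IsRep D.j t.x jU u₁)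
    {w₁ : W₁ ⟶ T'} {η₁ : D.Y.obj.obj (op W₁)} (hWc : WC D t.x w₁ η₁) (hx : s.x = t.x)
    (ha : ∀ h, s.F.a.val jU u₁ h = t.F.a.val jU u₁ hr.w) (hb : ∀ h, s.F.b.val w₁ η₁ h = t.F.b.val w₁ η₁ hWc.hη) :
    s = t := by
  obtain ⟨x₁, F₁⟩ := s
  obtain ⟨x₂, F₂⟩ := t
  obtain rfl : x₁ = x₂ := hx
  have : F₁ = F₂ := hWc.fam_ext (sec_ext hr (ha _)) (hb _)
  rw [this]

theorem rep_affine {T' : Over S} [IsAffine T'.left] (k : T' ⟶ T) (t : Gl D T') (ht : t.x = D.X.obj.map k.op x) :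
    ∃! l : T' ⟶ E.A, l ≫ E.p = k ∧ Gl.res l (E.s hj) = t := by
  have hU₁ := (IsPullback.of_hasPullback E.jT k)
  set kU := pullback.fst E.jT k
  set jU := pullback.snd E.jT k
  have hW₁ := (IsPullback.of_hasPullback E.w k)
  set kW := pullback.fst E.w k
  set w₁ := pullback.snd E.w k
  -- representing data over `T'`
  have hr : IsRep D.j t.x jU (D.U.obj.map kU.op E.uT) := by rw [ht]; exact E.hjT.baseChange hU₁
  have hWc : WC D t.x w₁ (D.Y.obj.map kW.op E.η) := by rw [ht]; exact E.hW.baseChange hW₁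
  -- the two values
  set a₁ := t.F.a.val jU (D.U.obj.map kU.op E.uT) hr.w with ha₁
  set b₁ := t.F.b.val w₁ (D.Y.obj.map kW.op E.η) hWc.hη with hb₁
  obtain ⟨α, hα1, hα2⟩ := E.hpU.lift kU a₁ (t.F.a.hval _ _ _)
  obtain ⟨β, hβ1, hβ2⟩ := E.hpW.lift kW b₁ (t.F.b.hval _ _ _)
  have hcompat : ∀ {V : Over S} (γ : V ⟶ pullback E.jT k) (δ : V ⟶ pullback E.w k), γ ≫ jU = δ ≫ w₁ →
      γ ≫ α ≫ E.aU = δ ≫ β ≫ E.aW := by
    intro V γ δ hγδ
    have hb : (γ ≫ kU) ≫ E.jT = (δ ≫ kW) ≫ E.w := by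
      rw [Category.assoc, Category.assoc, hU₁.w, hW₁.w, reassoc_of% hγδ]
    have hb1 := E.hV.lift_fst _ _ hb
    have hb2 := E.hV.lift_snd _ _ hb
    set b := E.hV.lift _ _ hb
    have hn1 := E.hVU.lift_fst (γ ≫ α) b (by rw [Category.assoc, hα1, hb1])
    have hn2 := E.hVU.lift_snd (γ ≫ α) b (by rw [Category.assoc, hα1, hb1])
    set n := E.hVU.lift (γ ≫ α) b (by rw [Category.assoc, hα1, hb1])
    have hu : D.j.hom.app _ (D.U.obj.map (γ ≫ kU).op E.uT) = D.X.obj.map (γ ≫ jU).op t.x := by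
      rw [map_comp, naturality, hr.w, map_comp]
    have hy : D.f.hom.app _ (D.Y.obj.map (δ ≫ kW).op E.η) = D.X.obj.map (γ ≫ jU).op t.x := by
      rw [hγδ, map_comp, naturality, hWc.hη, map_comp]
    obtain ⟨v, hv1, hv2⟩ := K642.Glue.pb_exists D.hV (D.Y.obj.map (δ ≫ kW).op E.η)
      (D.U.obj.map (γ ≫ kU).op E.uT) (by rw [hu, hy])
    obtain ⟨v', e1, e2, e3⟩ := t.F.comp (γ ≫ jU) v (by rw [hv2, hu]) (by rw [hv1, hy])
    have e4 : D.eU.hom.app _ v' = D.U'.obj.map γ.op a₁ := by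
      rw [e2]
      exact t.F.a.nat' γ jU _ hr.w rfl (by rw [hv2, map_comp]) _
    have e5 : D.eY.hom.app _ v' = D.Y'.obj.map δ.op b₁ := by
      rw [e3]
      exact t.F.b.nat' δ w₁ _ hWc.hη hγδ (by rw [hv1, map_comp]) _
    have e6 : D.V'.obj.map n.op E.v' = v' := by
      refine E.v'_eq n v' ?_ ?_
      · rw [e4, hn1, map_comp, hα2]
      · rw [e1, hv1, reassoc_of% hn2, hb2]
    have e7 : n ≫ E.eW = δ ≫ β := by
      apply E.hpW.inj
      · rw [Category.assoc, E.hVW.w, reassoc_of% hn2, hb2, Category.assoc, hβ1]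
      · rw [map_comp, ← E.hv₂, ← naturality, e6, e5, map_comp, hβ2]
    rw [← reassoc_of% hn1, ← reassoc_of% e7, E.hcomm]
  obtain ⟨d, ⟨hd1, hd2, hd3⟩, hd4⟩ := E.desc k hU₁ hW₁ (α ≫ E.aU) (β ≫ E.aW) hcompat
    (by rw [Category.assoc, E.hAU.w, reassoc_of% hα1, hU₁.w]) (by rw [Category.assoc, E.hAW.w, reassoc_of% hβ1, hW₁.w])
  refine ⟨d, ⟨hd1, gl_ext hr hWc ((E.res_x hj hd1).trans ht.symm) (fun h => ?_) (fun h => ?_)⟩, ?_⟩
  · rw [← ha₁, ← hα2]
    exact E.s_a hj (jU ≫ d) _ _ α hd2.symm (by rw [hα1])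
  · rw [← hb₁, ← hβ2]
    exact E.s_b hj (w₁ ≫ d) _ _ β hd3.symm (by rw [hβ1])
  · rintro l ⟨hl1, hl2⟩
    have hxA : (Gl.res l (E.s hj)).x = D.X.obj.map k.op x := E.res_x hj hl1
    refine hd4 l ⟨hl1, ?_, ?_⟩
    · have hc : (jU ≫ l) ≫ E.p = kU ≫ E.jT := by rw [Category.assoc, hl1, hU₁.w]
      have hm1 := E.hAU.lift_fst _ _ hc
      have hm2 := E.hAU.lift_snd _ _ hc
      set m := E.hAU.lift _ _ hc
      have e : m = α := by
        apply E.hpU.inj
        · rw [hm2, hα1]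
        · have hu : D.j.hom.app _ (D.U.obj.map kU.op E.uT) = D.X.obj.map (jU ≫ l).op (E.s hj).x := by
            have := hr.w
            rw [ht, ← hxA] at this
            exact this.trans (map_comp _ _ _).symm
          rw [hα2, ha₁, ← E.s_a hj (jU ≫ l) (D.U.obj.map kU.op E.uT) hu m hm1 (by rw [hm2])]
          exact Gl.congr_a hl2 (g := jU) (g' := jU) rfl rfl (by rw [hl2]; exact hr.w) hr.w
      rw [← hm1, e]
    · have hc : (w₁ ≫ l) ≫ E.p = kW ≫ E.w := by rw [Category.assoc, hl1, hW₁.w]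
      have hm1 := E.hAW.lift_fst _ _ hc
      have hm2 := E.hAW.lift_snd _ _ hc
      set m := E.hAW.lift _ _ hc
      have e : m = β := by
        apply E.hpW.inj
        · rw [hm2, hβ1]
        · have hy : D.f.hom.app _ (D.Y.obj.map kW.op E.η) = D.X.obj.map (w₁ ≫ l).op (E.s hj).x := by
            have := hWc.hη
            rw [ht, ← hxA] at this
            exact this.trans (map_comp _ _ _).symm
          rw [hβ2, hb₁, ← E.s_b hj (w₁ ≫ l) (D.Y.obj.map kW.op E.η) hy m hm1 (by rw [hm2])]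
          exact Gl.congr_b hl2 (g := w₁) (g' := w₁) rfl rfl (by rw [hl2]; exact hWc.hη) hWc.hη
      rw [← hm1, e]

end SD

theorem locally_affine (T : Over S) : Locally T (fun T' d => ∃ (V : Over S) (a : T' ⟶ V) (b : V ⟶ T),
    a ≫ b = d ∧ IsAffine V.left) := by
  let 𝒰 := T.left.affineCover
  refine Locally.of_fpF (ι := 𝒰.I₀) (T' := fun i => Over.mk (𝒰.f i ≫ T.hom)) (c := fun i => Over.homMk (𝒰.f i) rfl)
    ⟨fun i => inferInstanceAs (Flat (𝒰.f i)), fun i => inferInstanceAs (LocallyOfFinitePresentation (𝒰.f i)),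
      fun t => ⟨𝒰.idx t, 𝒰.covers t⟩⟩ fun i Z d => ⟨_, d, _, rfl, inferInstanceAs (IsAffine (𝒰.X i))⟩

variable {D : Dat (J S)}

theorem gl_res_comp {T T' T'' : Over S} (l : T' ⟶ T) (m : T'' ⟶ T') (s : Gl D T) :
    Gl.res (m ≫ l) s = Gl.res m (Gl.res l s) :=
  congrArg (fun φ => φ s) (congrArg (fun φ => (ConcreteCategory.hom φ)) ((psh D).map_comp l.op m.op))

theorem gl_res_id {T : Over S} (s : Gl D T) : Gl.res (𝟙 T) s = s :=
  congrArg (fun φ => (ConcreteCategory.hom φ) s) ((psh D).map_id (op T))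

theorem gl_ext_of_locally {T : Over S} {s t : Gl D T} (h : Locally T (fun _ d => Gl.res d s = Gl.res d t)) : s = t := by
  obtain ⟨R, hR, h⟩ := h
  exact K642.Glue.sep D.sh hR fun T' d hd => h d hd

namespace SD

variable {T : Over S} {x : D.X.obj.obj (op T)} (E : SD D x) (hj : ∀ T, Function.Injective (D.j.hom.app (op T)))

theorem rep {T' : Over S} (k : T' ⟶ T) (t : Gl D T') (ht : t.x = D.X.obj.map k.op x) :
    ∃! l : T' ⟶ E.A, l ≫ E.p = k ∧ Gl.res l (E.s hj) = t := by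
  have key := existsUnique_of_locally (T := T') (A := E.A)
    (Q := fun T'' c z => z ≫ E.p = c ≫ k ∧ Gl.res z (E.s hj) = Gl.res c t)
    (fun T₁ T₂ c d z h => ⟨by rw [Category.assoc, h.1, Category.assoc], by
      rw [gl_res_comp, h.2, ← gl_res_comp]⟩)
    (fun T₁ c z h => ⟨Locally.ext' (h.imp fun T₂ d h => by
        have := h.1
        rwa [Category.assoc, Category.assoc] at this),
      gl_ext_of_locally (h.imp fun T₂ d h => by
        have := h.2
        rwa [gl_res_comp, gl_res_comp] at this)⟩)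
    (fun T₁ c => (locally_affine T₁).imp (by
      rintro T₂ _ ⟨V, a, b, rfl, hV⟩
      refine ⟨V, a, b, rfl, ?_⟩
      exact E.rep_affine hj ((b ≫ c) ≫ k) (Gl.res (b ≫ c) t) (by
        change D.X.obj.map (b ≫ c).op t.x = _
        rw [ht, ← map_comp]))) (𝟙 T')
  simpa only [Category.id_comp, gl_res_id] using key

theorem ev_iff {T₁ T₂ : Over S} (s : Gl D T₁) (z : T₂ ⟶ T₁) (y' : D.Y'.obj.obj (op T₂)) :
    Ev (Gl.res z s) y' ↔ ∃ h : D.f.hom.app _ (D.pY.hom.app _ y') = D.X.obj.map z.op s.x,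
      s.F.b.val z (D.pY.hom.app _ y') h = y' := by
  constructor
  · rintro ⟨h1, h2⟩
    have h1' : D.f.hom.app _ (D.pY.hom.app _ y') = D.X.obj.map z.op s.x := by
      rw [h1, map_id]; rfl
    exact ⟨h1', (s.F.b.congr_val (Category.id_comp z).symm rfl h1' (by rw [Category.id_comp]; exact h1')).trans h2⟩
  · rintro ⟨h1, h2⟩
    have h1' : D.f.hom.app _ (D.pY.hom.app _ y') = D.X.obj.map (𝟙 T₂).op (Gl.res z s).x := by
      rw [h1, map_id]; rfl
    exact ⟨h1', (s.F.b.congr_val (Category.id_comp z) rfl (by rw [Category.id_comp]; exact h1) h1).trans h2⟩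

theorem repY {T' : Over S} (k : T' ⟶ T) (y' : D.Y'.obj.obj (op T'))
    (h : D.f.hom.app _ (D.pY.hom.app _ y') = D.X.obj.map k.op x) :
    ∃! l : T' ⟶ E.A, l ≫ E.p = k ∧ Ev (Gl.res l (E.s hj)) y' := by
  have key := existsUnique_of_locally (T := T') (A := E.A)
    (Q := fun T'' c z => z ≫ E.p = c ≫ k ∧ Ev (Gl.res z (E.s hj)) (D.Y'.obj.map c.op y'))
    (fun T₁ T₂ c d z h => ⟨by rw [Category.assoc, h.1, Category.assoc], by
      rw [gl_res_comp, map_comp]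
      exact h.2.res d⟩)
    (fun T₁ c z h => ⟨Locally.ext' (h.imp fun T₂ d h => by
        have := h.1
        rwa [Category.assoc, Category.assoc] at this), by
      obtain ⟨R, hR, h⟩ := h
      refine Ev.of_cover hR fun {T₂} d hd => ?_
      have := (h d hd).2
      rwa [gl_res_comp, map_comp] at this⟩)
    (fun T₁ c => by
      have hy₁ : D.f.hom.app _ (D.pY.hom.app _ (D.Y'.obj.map c.op y')) = D.X.obj.map (c ≫ k).op x := by
        rw [naturality, naturality, h, map_comp]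
      obtain ⟨R, hR, H⟩ := E.hW.cover (c ≫ k) _ hy₁
      refine ⟨R, hR, fun T₂ g hg => ⟨T₂, 𝟙 _, g, Category.id_comp _, ?_⟩⟩
      have hy₂ : D.f.hom.app _ (D.pY.hom.app _ (D.Y'.obj.map (g ≫ c).op y')) = D.X.obj.map ((g ≫ c) ≫ k).op x := by
        rw [naturality, naturality, h, ← map_comp]
      set y₂ := D.Y'.obj.map (g ≫ c).op y' with hy₂'
      have hxA : ∀ z : T₂ ⟶ E.A, z ≫ E.p = (g ≫ c) ≫ k →
          D.f.hom.app _ (D.pY.hom.app _ y₂) = D.X.obj.map z.op (E.s hj).x := by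
        intro z hz
        rw [hy₂, E.s_x hj, ← map_comp, hz]
      rcases H g hg with ⟨m, hm1, hm2⟩ | ⟨u, hu⟩
      · have hm3 : D.pY.hom.app _ y₂ = D.Y.obj.map m.op E.η := by
          rw [hm2, ← naturality, hy₂', map_comp]
        have hm1' : m ≫ E.w = (g ≫ c) ≫ k := by rw [hm1, Category.assoc]
        obtain ⟨l, hl1, hl2⟩ := E.hpW.lift m y₂ hm3
        have hz : (l ≫ E.aW) ≫ E.p = (g ≫ c) ≫ k := by rw [Category.assoc, E.hAW.w, reassoc_of% hl1, hm1']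
        refine ⟨l ≫ E.aW, ⟨hz, (ev_iff _ _ _).2 ⟨hxA _ hz, ?_⟩⟩, ?_⟩
        · rw [E.s_b hj _ _ _ l rfl (by rw [hl1, hm3]), hl2]
        · rintro z' ⟨hz1, hz2⟩
          obtain ⟨hz3, hz4⟩ := (ev_iff _ _ _).1 hz2
          have hc : z' ≫ E.p = m ≫ E.w := by rw [hz1, hm1']
          have hn1 := E.hAW.lift_fst _ _ hc
          have hn2 := E.hAW.lift_snd _ _ hc
          set n := E.hAW.lift _ _ hc
          have e : n = l := by
            apply E.hpW.inj
            · rw [hn2, hl1]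
            · rw [hl2, ← E.s_b hj z' (D.pY.hom.app _ y₂) hz3 n hn1 (by rw [hn2, hm3]), hz4]
          rw [← hn1, e]
      · have hu' : D.j.hom.app _ u = D.X.obj.map ((g ≫ c) ≫ k).op x := by rw [hu, Category.assoc]
        obtain ⟨τ, hτ1, hτ2⟩ := E.hjT.lift _ u hu'
        obtain ⟨v, hv1, hv2⟩ := K642.Glue.pb_exists D.hV (D.pY.hom.app _ y₂) u (by rw [hy₂, hu'])
        obtain ⟨v', hv3, hv4⟩ := K642.Glue.pb_exists D.hY' y₂ v hv1.symm
        obtain ⟨l, hl1, hl2⟩ := E.hpU.lift τ (D.eU.hom.app _ v') (by rw [D.wU', hv4, hv2, hτ2])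
        have hz : (l ≫ E.aU) ≫ E.p = (g ≫ c) ≫ k := by rw [Category.assoc, E.hAU.w, reassoc_of% hl1, hτ1]
        have huA : ∀ z : T₂ ⟶ E.A, z ≫ E.p = (g ≫ c) ≫ k → D.j.hom.app _ u = D.X.obj.map z.op (E.s hj).x := by
          intro z hz
          rw [hu', E.s_x hj, ← map_comp, hz]
        refine ⟨l ≫ E.aU, ⟨hz, (ev_iff _ _ _).2 ⟨hxA _ hz, ?_⟩⟩, ?_⟩
        · obtain ⟨v'', e1, e2, e3⟩ := (E.s hj).F.comp (l ≫ E.aU) v (by rw [hv2]; exact huA _ hz)
            (by rw [hv1]; exact hxA _ hz)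
          have e4 : D.eU.hom.app _ v'' = D.eU.hom.app _ v' := by
            rw [e2, ← hl2]
            exact E.s_a hj _ _ _ l rfl (by rw [hl1, hτ2, hv2])
          have e5 : v'' = v' := K642.Glue.pb_ext D.hU' e4 (by rw [e1, hv4])
          rw [e5, hv3] at e3
          exact ((E.s hj).F.b.congr_val rfl hv1.symm _ _).trans e3.symm
        · rintro z' ⟨hz1, hz2⟩
          obtain ⟨hz3, hz4⟩ := (ev_iff _ _ _).1 hz2
          have hc : z' ≫ E.p = τ ≫ E.jT := by rw [hz1, hτ1]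
          have hn1 := E.hAU.lift_fst _ _ hc
          have hn2 := E.hAU.lift_snd _ _ hc
          set n := E.hAU.lift _ _ hc
          obtain ⟨v'', e1, e2, e3⟩ := (E.s hj).F.comp z' v (by rw [hv2]; exact huA _ hz1)
            (by rw [hv1]; exact hxA _ hz1)
          have e4 : D.eY.hom.app _ v'' = D.eY.hom.app _ v' := by
            rw [e3, hv3]
            exact ((E.s hj).F.b.congr_val rfl hv1 _ _).trans hz4
          have e5 : v'' = v' := K642.Glue.pb_ext D.hY' e4 (by rw [e1, hv4])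
          have e : n = l := by
            apply E.hpU.inj
            · rw [hn2, hl1]
            · rw [hl2, ← e5, e2]
              exact (E.s_a hj z' _ _ n hn1 (by rw [hn2, hτ2, hv2])).symm
          rw [← hn1, e]) (𝟙 T')
  simpa only [Category.id_comp, map_id] using key

/-- The glued scheme represents the glued sheaf. -/
noncomputable def sol : Sol x where
  A := E.A
  p := E.p
  s := E.s hj
  hs := rfl
  rep k t ht := E.rep hj k t ht
  repY k y' h := E.repY hj k y' h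

end SD

end K648.FGSol
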