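import Groth.Agent.AlgSp.K648.FGMain
import Groth.Agent.AlgSp.K594.RepAlg
import Groth.Agent.AlgSp.K597.Affine
import Groth.Agent.AlgSp.K597.EtLoc
import Groth.Agent.AlgSp.K597.LocP

/-!
# Formal glueing data of algebraic spaces
-/

set_option autoImplicit false

universe u

open CategoryTheory CategoryTheory.Limits AlgebraicGeometry Opposite AlgSp

namespace K648.FGSp

open K648.FGSheaf K648.FGSheaf.Dat K648.FGMain K648.FGLoc

variable {S : Scheme.{u}} {X Y Z FZ U V U' V' Y' : Space S} (f : Y ⟶ X)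
    (i : Z ⟶ X) (hi : RepWith @IsClosedImmersion i.hom) (hifp : LocP @LocallyOfFinitePresentation i.hom)
    (iY : FZ ⟶ Y) (fZ : FZ ⟶ Z) (hFZ : IsPullback iY.hom fZ.hom f.hom i.hom) [IsIso fZ]
    (hflat : ∀ y ∈ Set.range (Points.map iY.hom), IsFlatAtMor f.hom y) (j : U ⟶ X)
    (hj : RepWith @IsOpenImmersion j.hom)
    (hU : Set.range (Points.map j.hom) = (Set.range (Points.map i.hom))ᶜ)
    (jV : V ⟶ Y) (fV : V ⟶ U) (hV : IsPullback jV.hom fV.hom f.hom j.hom)
    (pU : U' ⟶ U) (pV : V' ⟶ V) (pY : Y' ⟶ Y)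
    (eU : V' ⟶ U') (eY : V' ⟶ Y') (hU' : IsPullback eU.hom pV.hom pU.hom fV.hom)
    (hY' : IsPullback eY.hom pV.hom pY.hom jV.hom)

/-- The glueing data. -/
def dat : Dat (J S) where
  X := X.obj
  Y := Y.obj
  U := U.obj
  V := V.obj
  U' := U'.obj
  V' := V'.obj
  Y' := Y'.obj
  f := f.hom
  j := j.hom
  jV := jV.hom
  fV := fV.hom
  pU := pU.hom
  pV := pV.hom
  pY := pY.hom
  eU := eU.hom
  eY := eY.hom
  hV := hV
  hU' := hU'
  hY' := hY'

include hi hifp hFZ hflat hj hU in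
theorem exists_hyp (hpU : RepWith @IsAffineHom pU.hom) (hpY : RepWith @IsAffineHom pY.hom) :
    Nonempty (Hyp (dat f j jV fV hV pU pV pY eU eY hU' hY')) := by
  have hiso : IsIso fZ.hom := inferInstanceAs (IsIso ((ObjectProperty.ι _).map fZ))
  have hinj : ∀ (T : Over S), Function.Injective (fZ.hom.hom.app (op T)) := by
    intro T a b h
    have h1 : ∀ c, (inv fZ.hom).hom.app (op T) (fZ.hom.hom.app (op T) c) = c := fun c =>
      congrArg (fun k : FZ.obj ⟶ FZ.obj => k.hom.app (op T) c) (IsIso.hom_inv_id fZ.hom)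
    rw [← h1 a, ← h1 b, h]
  refine ⟨{
    hX := X.property, hY := Y.property, hj := hj, Z := Z.obj, i := i.hom, hi := hi
    hifp := K597.repWith_of_locP K597.etLoc_lfp X.property.hasAtlas hi.1 hifp
    hU := hU
    exY := ?_, uniqY := ?_, hflat := ?_, hpU := hpU, hpY := hpY }⟩
  · intro T z
    refine ⟨iY.hom.hom.app _ ((inv fZ.hom).hom.app _ z), ?_⟩
    have h1 : f.hom.hom.app (op T) (iY.hom.hom.app _ ((inv fZ.hom).hom.app _ z)) =
      i.hom.hom.app _ (fZ.hom.hom.app _ ((inv fZ.hom).hom.app _ z)) :=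
      congrArg (fun k : FZ.obj ⟶ X.obj => k.hom.app (op T) ((inv fZ.hom).hom.app _ z)) hFZ.w
    have h2 : fZ.hom.hom.app _ ((inv fZ.hom).hom.app (op T) z) = z :=
      congrArg (fun k : Z.obj ⟶ Z.obj => k.hom.app (op T) z) (IsIso.inv_hom_id fZ.hom)
    rw [h2] at h1
    exact h1
  · intro T z y₁ y₂ h1 h2
    obtain ⟨a, ha1, ha2⟩ := K642.Glue.pb_exists hFZ y₁ z h1
    obtain ⟨b, hb1, hb2⟩ := K642.Glue.pb_exists hFZ y₂ z h2
    have : a = b := hinj T (ha2.trans hb2.symm)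
    rw [← ha1, ← hb1, this]
  · rintro y ⟨z, hz⟩
    obtain ⟨w, hw, -⟩ := K647.Pts.exists_point hFZ y z hz.symm
    exact hflat y ⟨w, hw⟩

include hi hifp hFZ hflat hj hU hV hU' hY' in
/-- Glueing of affine morphisms. -/
theorem exists_glue (hpU : RepWith @IsAffineHom pU.hom) (hpY : RepWith @IsAffineHom pY.hom) :
    ∃ (X' : Space S) (p : X' ⟶ X) (aU : U' ⟶ X') (aY : Y' ⟶ X'), RepWith @IsAffineHom p.hom ∧
      IsPullback aU.hom pU.hom p.hom j.hom ∧ IsPullback aY.hom pY.hom p.hom f.hom ∧ eU ≫ aU = eY ≫ aY := by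
  obtain ⟨H⟩ := exists_hyp f i hi hifp iY fZ hFZ hflat j hj hU jV fV hV pU pV pY eU eY hU' hY' hpU hpY
  have hπ := repWith_π H
  have hs : ∀ {T : Over S} (y' : (dat f j jV fV hV pU pV pY eU eY hU' hY').Y'.obj.obj (op T)), Star y' :=
    fun y' => star H y'
  refine ⟨⟨(dat f j jV fV hV pU pV pY eU eY hU' hY').sh, K594.RepAlg.isAlgSpace_of_representable X.property _ hπ.1⟩,
    ObjectProperty.homMk (dat f j jV fV hV pU pV pY eU eY hU' hY').π, ObjectProperty.homMk (aU H.injective_j),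
    ObjectProperty.homMk (aY hs), hπ, isPullback_aU H.injective_j, isPullback_aY hs, ?_⟩
  apply ObjectProperty.hom_ext
  exact eU_aU_eq_eY_aY H.injective_j hs

end K648.FGSp
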