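import Groth.Agent.AlgSp.K648.FGDat2

/-!
# Formal glueing: sections over `Y` from sections over `U` and over a chart `W` of `Y`
-/

set_option autoImplicit false

universe v

open CategoryTheory CategoryTheory.Limits Opposite

namespace K648.FGSheaf

variable {C : Type (v + 1)} [Category.{v} C] {J : GrothendieckTopology C}

namespace Dat

/-- `W` with `η ∈ Y(W)` is, together with `U`, a covering of `Y` over `T`. -/
structure WC (D : Dat J) {T : C} (x : D.X.obj.obj (op T)) {W : C} (w : W ⟶ T) (η : D.Y.obj.obj (op W)) : Prop where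
  hη : D.f.hom.app (op W) η = D.X.obj.map w.op x
  cover : ∀ {T' : C} (k : T' ⟶ T) (y : D.Y.obj.obj (op T')), D.f.hom.app (op T') y = D.X.obj.map k.op x →
    ∃ R ∈ J T', ∀ {T'' : C} (g : T'' ⟶ T'), R g →
      (∃ l : T'' ⟶ W, l ≫ w = g ≫ k ∧ D.Y.obj.map l.op η = D.Y.obj.map g.op y) ∨
      ∃ u : D.U.obj.obj (op T''), D.j.hom.app (op T'') u = D.X.obj.map (g ≫ k).op x
  diag : ∀ {T' : C} (l₁ l₂ : T' ⟶ W), l₁ ≫ w = l₂ ≫ w → D.Y.obj.map l₁.op η = D.Y.obj.map l₂.op η →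
    ∃ R ∈ J T', ∀ {T'' : C} (g : T'' ⟶ T'), R g → g ≫ l₁ = g ≫ l₂ ∨
      ∃ u : D.U.obj.obj (op T''), D.j.hom.app (op T'') u = D.X.obj.map (g ≫ l₁ ≫ w).op x

variable {D : Dat J} (hj : ∀ T, Function.Injective (D.j.hom.app (op T)))

/-- Base change of charts. -/
theorem WC.baseChange {T : C} {x : D.X.obj.obj (op T)} {W : C} {w : W ⟶ T} {η : D.Y.obj.obj (op W)}
    (h : WC D x w η) {T₁ W₁ : C} {k : T₁ ⟶ T} {a : W₁ ⟶ W} {w₁ : W₁ ⟶ T₁} (sq : IsPullback a w₁ w k) :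
    WC D (D.X.obj.map k.op x) w₁ (D.Y.obj.map a.op η) where
  hη := by rw [naturality, h.hη, ← map_comp, ← map_comp, sq.w]
  cover {T'} l y hy := by
    obtain ⟨R, hR, H⟩ := h.cover (l ≫ k) y (by rw [hy, map_comp])
    refine ⟨R, hR, fun {T''} g hg => ?_⟩
    rcases H g hg with ⟨m, hm1, hm2⟩ | ⟨u, hu⟩
    · left
      have e : m ≫ w = (g ≫ l) ≫ k := by rw [hm1, Category.assoc]
      refine ⟨sq.lift m (g ≫ l) e, sq.lift_snd _ _ _, ?_⟩
      rw [← map_comp, sq.lift_fst, hm2]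
    · right
      exact ⟨u, by rw [hu, ← map_comp, Category.assoc]⟩
  diag {T'} l₁ l₂ h1 h2 := by
    obtain ⟨R, hR, H⟩ := h.diag (l₁ ≫ a) (l₂ ≫ a) (by
      rw [Category.assoc, Category.assoc, sq.w, reassoc_of% h1]) (by rw [map_comp, map_comp, h2])
    refine ⟨R, hR, fun {T''} g hg => ?_⟩
    rcases H g hg with hm | ⟨u, hu⟩
    · left
      apply sq.hom_ext
      · rw [Category.assoc, Category.assoc, hm]
      · rw [Category.assoc, Category.assoc, h1]
    · right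
      refine ⟨u, ?_⟩
      rw [hu, ← map_comp]
      congr 2
      simp only [Category.assoc, sq.w]

section

variable {T : C} {x : D.X.obj.obj (op T)} {W : C} {w : W ⟶ T} {η : D.Y.obj.obj (op W)}

/-- `v'` is compatible with the section `a`. -/
def Cv (a : Sec D.j D.pU x) {T' : C} (g : T' ⟶ T) (v' : D.V'.obj.obj (op T')) : Prop :=
  ∃ h : D.j.hom.app (op T') (D.fV.hom.app _ (D.pV.hom.app _ v')) = D.X.obj.map g.op x,
    D.eU.hom.app _ v' = a.val g _ h

theorem Cv.res {a : Sec D.j D.pU x} {T' : C} {g : T' ⟶ T} {v' : D.V'.obj.obj (op T')} (h : Cv a g v') {T'' : C}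
    (k : T'' ⟶ T') : Cv a (k ≫ g) (D.V'.obj.map k.op v') := by
  obtain ⟨h1, h2⟩ := h
  have h3 : D.j.hom.app (op T'') (D.fV.hom.app _ (D.pV.hom.app _ (D.V'.obj.map k.op v'))) =
      D.X.obj.map (k ≫ g).op x := by
    rw [naturality, naturality, naturality, h1, map_comp]
  refine ⟨h3, ?_⟩
  rw [naturality, h2]
  exact (a.nat' k g _ h1 rfl (by rw [naturality, naturality]) h3).symm

include hj in
/-- Two compatible `v'` with the same image in `Y` agree. -/
theorem Cv.eq {a : Sec D.j D.pU x} {T' : C} {g : T' ⟶ T} {v₁ v₂ : D.V'.obj.obj (op T')} (h₁ : Cv a g v₁)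
    (h₂ : Cv a g v₂) (e : D.jV.hom.app _ (D.pV.hom.app _ v₁) = D.jV.hom.app _ (D.pV.hom.app _ v₂)) : v₁ = v₂ := by
  obtain ⟨h3, h4⟩ := h₁
  obtain ⟨h5, h6⟩ := h₂
  have e1 : D.fV.hom.app _ (D.pV.hom.app _ v₁) = D.fV.hom.app _ (D.pV.hom.app _ v₂) := hj _ (h3.trans h5.symm)
  refine eq_of_eU_jV ?_ e
  rw [h4, h6]
  exact a.congr_val rfl e1 _ _

/-- Existence of compatible `v'` over `U`. -/
theorem exists_cv (a : Sec D.j D.pU x) {T' : C} (g : T' ⟶ T) (y : D.Y.obj.obj (op T'))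
    (hy : D.f.hom.app (op T') y = D.X.obj.map g.op x) (u : D.U.obj.obj (op T'))
    (hu : D.j.hom.app (op T') u = D.X.obj.map g.op x) :
    ∃ v' : D.V'.obj.obj (op T'), Cv a g v' ∧ D.jV.hom.app _ (D.pV.hom.app _ v') = y := by
  obtain ⟨v', h1, h2⟩ := exists_v' (a.val g u hu) y (by rw [hy, a.hval, hu])
  have e : D.fV.hom.app _ (D.pV.hom.app _ v') = u := by rw [← D.wU', h1, a.hval]
  refine ⟨v', ⟨by rw [e, hu], ?_⟩, h2⟩
  rw [h1]
  exact a.congr_val rfl e.symm _ _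

/-- `z` is the value at `(g, y)` of the section determined by `a` and `b₀`. -/
structure IsVal (w : W ⟶ T) (η : D.Y.obj.obj (op W)) (a : Sec D.j D.pU x) (b₀ : D.Y'.obj.obj (op W)) {T' : C}
    (g : T' ⟶ T) (y : D.Y.obj.obj (op T')) (z : D.Y'.obj.obj (op T')) : Prop where
  hp : D.pY.hom.app _ z = y
  hb : ∀ {T'' : C} (k : T'' ⟶ T') (l : T'' ⟶ W), l ≫ w = k ≫ g → D.Y.obj.map l.op η = D.Y.obj.map k.op y →
    D.Y'.obj.map k.op z = D.Y'.obj.map l.op b₀
  ha : ∀ {T'' : C} (k : T'' ⟶ T') (v' : D.V'.obj.obj (op T'')), Cv a (k ≫ g) v' →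
    D.jV.hom.app _ (D.pV.hom.app _ v') = D.Y.obj.map k.op y → D.eY.hom.app _ v' = D.Y'.obj.map k.op z

variable {a : Sec D.j D.pU x} {b₀ : D.Y'.obj.obj (op W)}

theorem IsVal.res {T' : C} {g : T' ⟶ T} {y : D.Y.obj.obj (op T')} {z : D.Y'.obj.obj (op T')}
    (h : IsVal w η a b₀ g y z) {T'' : C} (m : T'' ⟶ T') :
    IsVal w η a b₀ (m ≫ g) (D.Y.obj.map m.op y) (D.Y'.obj.map m.op z) where
  hp := by rw [naturality, h.hp]
  hb k l h1 h2 := by
    rw [← map_comp]
    exact h.hb (k ≫ m) l (by rw [h1, Category.assoc]) (by rw [h2, map_comp])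
  ha k v' h1 h2 := by
    rw [← map_comp]
    refine h.ha (k ≫ m) v' (by rw [Category.assoc]; exact h1) (by rw [h2, map_comp])

theorem IsVal.of_cover {T' : C} {g : T' ⟶ T} {y : D.Y.obj.obj (op T')} {z : D.Y'.obj.obj (op T')} {R : Sieve T'}
    (hR : R ∈ J T') (h : ∀ {T'' : C} (m : T'' ⟶ T'), R m →
      IsVal w η a b₀ (m ≫ g) (D.Y.obj.map m.op y) (D.Y'.obj.map m.op z)) : IsVal w η a b₀ g y z where
  hp := by
    refine K642.Glue.sep D.Y hR fun T'' m hm => ?_
    rw [← naturality]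
    exact (h m hm).hp
  hb {T''} k l h1 h2 := by
    refine K642.Glue.sep D.Y' (J.pullback_stable k hR) fun T₃ n hn => ?_
    have h3 := (h (n ≫ k) hn).hb (𝟙 T₃) (n ≫ l) (by simp [h1]) (by
      rw [map_id, map_comp, map_comp, h2])
    rw [map_id, map_comp, map_comp] at h3
    exact h3
  ha {T''} k v' h1 h2 := by
    refine K642.Glue.sep D.Y' (J.pullback_stable k hR) fun T₃ n hn => ?_
    have h3 := (h (n ≫ k) hn).ha (𝟙 T₃) (D.V'.obj.map n.op v') (by
      have := h1.res n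
      simpa using this) (by rw [map_id, naturality, naturality, h2, map_comp])
    rw [map_id, naturality, map_comp] at h3
    exact h3

theorem IsVal.unique (hW : WC D x w η) {T' : C} {g : T' ⟶ T} {y : D.Y.obj.obj (op T')}
    (hy : D.f.hom.app (op T') y = D.X.obj.map g.op x) {z₁ z₂ : D.Y'.obj.obj (op T')}
    (h₁ : IsVal w η a b₀ g y z₁) (h₂ : IsVal w η a b₀ g y z₂) : z₁ = z₂ := by
  obtain ⟨R, hR, H⟩ := hW.cover g y hy
  refine K642.Glue.sep D.Y' hR fun T'' m hm => ?_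
  rcases H m hm with ⟨l, hl1, hl2⟩ | ⟨u, hu⟩
  · rw [h₁.hb m l hl1 hl2, h₂.hb m l hl1 hl2]
  · obtain ⟨v', hv1, hv2⟩ := exists_cv a (m ≫ g) (D.Y.obj.map m.op y) (by rw [naturality, hy, map_comp]) u hu
    rw [← h₁.ha m v' hv1 hv2, ← h₂.ha m v' hv1 hv2]

/-- compatibility of `a` and `b₀` -/
def Comp (w : W ⟶ T) (η : D.Y.obj.obj (op W)) (a : Sec D.j D.pU x) (b₀ : D.Y'.obj.obj (op W)) : Prop :=
  ∀ {T' : C} (l : T' ⟶ W) (v' : D.V'.obj.obj (op T')), Cv a (l ≫ w) v' →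
    D.jV.hom.app _ (D.pV.hom.app _ v') = D.Y.obj.map l.op η → D.eY.hom.app _ v' = D.Y'.obj.map l.op b₀

theorem isVal_of_chart (hW : WC D x w η) (hb₀ : D.pY.hom.app _ b₀ = η) (hc : Comp w η a b₀) {T' : C}
    {g : T' ⟶ T} {y : D.Y.obj.obj (op T')} (l : T' ⟶ W) (hl : l ≫ w = g)
    (hly : D.Y.obj.map l.op η = y) : IsVal w η a b₀ g y (D.Y'.obj.map l.op b₀) where
  hp := by rw [naturality, hb₀, hly]
  hb {T''} k l' h1 h2 := by
    rw [← map_comp]
    obtain ⟨R, hR, H⟩ := hW.diag (k ≫ l) l' (by rw [h1, Category.assoc, hl]) (by rw [h2, map_comp, hly])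
    refine K642.Glue.sep D.Y' hR fun T₃ m hm => ?_
    rcases H m hm with e | ⟨u, hu⟩
    · rw [← map_comp, ← map_comp, e]
    · have e1 : m ≫ l' ≫ w = m ≫ (k ≫ l) ≫ w := by rw [h1, Category.assoc, hl]
      obtain ⟨v', hv1, hv2⟩ := exists_cv a (m ≫ (k ≫ l) ≫ w) (D.Y.obj.map (m ≫ k ≫ l).op η) (by
        rw [naturality, hW.hη, ← map_comp]; congr 2; simp) u hu
      have h3 := hc (m ≫ k ≫ l) v' (by simpa using hv1) hv2
      have h4 := hc (m ≫ l') v' (by rw [Category.assoc, e1]; exact hv1) (by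
        rw [hv2, map_comp, map_comp, map_comp, h2, hly])
      rw [← map_comp, ← map_comp, ← h3, ← h4]
  ha {T''} k v' h1 h2 := by
    rw [← map_comp]
    refine hc (k ≫ l) v' (by rw [Category.assoc, hl]; exact h1) (by rw [h2, map_comp, hly])

include hj in
theorem isVal_of_cv (hc : Comp w η a b₀) {T' : C} {g : T' ⟶ T} {y : D.Y.obj.obj (op T')}
    (v' : D.V'.obj.obj (op T')) (hv : Cv a g v') (hvy : D.jV.hom.app _ (D.pV.hom.app _ v') = y) :
    IsVal w η a b₀ g y (D.eY.hom.app _ v') where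
  hp := by rw [D.wY', hvy]
  hb {T''} k l h1 h2 := by
    rw [← naturality]
    refine hc l _ (by rw [h1]; exact hv.res k) (by rw [naturality, naturality, hvy, h2])
  ha {T''} k v'' h1 h2 := by
    rw [← naturality]
    congr 1
    exact Cv.eq hj h1 (hv.res k) (by rw [h2, naturality, naturality, hvy])

include hj in
theorem exists_isVal (hW : WC D x w η) (hb₀ : D.pY.hom.app _ b₀ = η) (hc : Comp w η a b₀) {T' : C}
    (g : T' ⟶ T) (y : D.Y.obj.obj (op T')) (hy : D.f.hom.app (op T') y = D.X.obj.map g.op x) :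
    ∃ z, IsVal w η a b₀ g y z := by
  obtain ⟨R, hR, H⟩ := hW.cover g y hy
  have key : ∀ {T'' : C} (m : T'' ⟶ T') (hm : R m), ∃ z, IsVal w η a b₀ (m ≫ g) (D.Y.obj.map m.op y) z := by
    intro T'' m hm
    rcases H m hm with ⟨l, hl1, hl2⟩ | ⟨u, hu⟩
    · exact ⟨_, isVal_of_chart hW hb₀ hc l hl1 hl2⟩
    · obtain ⟨v', hv1, hv2⟩ := exists_cv a (m ≫ g) (D.Y.obj.map m.op y) (by rw [naturality, hy, map_comp]) u hu
      exact ⟨_, isVal_of_cv hj hc v' hv1 hv2⟩
  choose z hz using @key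
  obtain ⟨t, ht, -⟩ := K642.Glue.isSheaf D.Y' R hR (fun T'' m hm => z m hm) (by
    rw [Presieve.compatible_iff_sieveCompatible]
    intro T₁ T₂ m n hm
    have h1 := (hz m hm).res n
    rw [← Category.assoc, ← map_comp] at h1
    refine IsVal.unique hW ?_ (hz (n ≫ m) _) h1
    rw [naturality, hy, ← map_comp, Category.assoc])
  refine ⟨t, IsVal.of_cover hR fun {T''} m hm => ?_⟩
  have e : D.Y'.obj.map m.op t = z m hm := ht m hm
  rw [e]
  exact hz m hm

include hj in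
/-- A section over `U` and a compatible section over `W` come from a compatible pair. -/
theorem WC.exists_fam (hW : WC D x w η) (hb₀ : D.pY.hom.app _ b₀ = η) (hc : Comp w η a b₀) :
    ∃ F : D.Fam x, F.a = a ∧ ∀ h, F.b.val w η h = b₀ := by
  choose val hval using fun {T' : C} (g : T' ⟶ T) (y : D.Y.obj.obj (op T'))
    (hy : D.f.hom.app (op T') y = D.X.obj.map g.op x) => exists_isVal hj hW hb₀ hc g y hy
  refine ⟨⟨a, ⟨fun g y h => val g y h, fun g y h => (hval g y h).hp, fun {T' T''} k g y h h' => ?_⟩, ?_⟩, rfl, ?_⟩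
  · exact IsVal.unique hW h' (hval _ _ _) ((hval g y h).res k)
  · intro T' g v h₁ h₂
    obtain ⟨v', hv1, hv2⟩ := exists_cv a g (D.jV.hom.app _ v) h₂ (D.fV.hom.app _ v) h₁
    have e : D.pV.hom.app _ v' = v := by
      refine K642.Glue.pb_ext D.hV hv2 (hj _ ?_)
      rw [h₁]
      exact hv1.choose
    refine ⟨v', e, ?_, ?_⟩
    · rw [hv1.choose_spec]
      exact a.congr_val rfl (by rw [e]) _ _
    · have h3 := (hval g _ h₂).ha (𝟙 T') v' (by simpa using hv1) (by rw [map_id, hv2])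
      rw [h3, map_id]
  · intro h
    have h1 := (hval w η h).hb (𝟙 W) (𝟙 W) (by simp) rfl
    rw [map_id, map_id] at h1
    exact h1

/-- The values of a compatible pair. -/
theorem isVal_fam (hW : WC D x w η) (F : D.Fam x) (hb : F.b.val w η hW.hη = b₀) {T' : C} (g : T' ⟶ T)
    (y : D.Y.obj.obj (op T')) (hy : D.f.hom.app (op T') y = D.X.obj.map g.op x) :
    IsVal w η F.a b₀ g y (F.b.val g y hy) where
  hp := F.b.hval _ _ _
  hb {T''} k l h1 h2 := by
    have hy' : D.f.hom.app (op T'') (D.Y.obj.map k.op y) = D.X.obj.map (k ≫ g).op x := by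
      rw [naturality, hy, map_comp]
    rw [← F.b.nat k g y hy hy', ← hb]
    exact F.b.nat' l w η hW.hη h1.symm h2.symm hy'
  ha {T''} k v' h1 h2 := by
    have hy' : D.f.hom.app (op T'') (D.Y.obj.map k.op y) = D.X.obj.map (k ≫ g).op x := by
      rw [naturality, hy, map_comp]
    rw [← F.b.nat k g y hy hy']
    obtain ⟨h3, h4⟩ := h1
    obtain ⟨v'', e1, e2, e3⟩ := F.comp (k ≫ g) (D.pV.hom.app _ v') h3 (by rw [h2, hy'])
    have e4 : v'' = v' := K642.Glue.pb_ext D.hU' (e2.trans h4.symm) e1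
    rw [← e4, e3]
    exact F.b.congr_val rfl h2 _ _

/-- A compatible pair is determined by its values over `U` and over `W`. -/
theorem WC.fam_ext (hW : WC D x w η) {F G : D.Fam x} (ha : F.a = G.a)
    (hb : F.b.val w η hW.hη = G.b.val w η hW.hη) : F = G := by
  refine Fam.ext' ha (Sec.ext' fun g y h => ?_)
  have h1 := isVal_fam hW F hb g y h
  rw [ha] at h1
  exact IsVal.unique hW h h1 (isVal_fam hW G rfl g y h)

/-- The components of a compatible pair are compatible. -/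
theorem WC.comp_fam (hW : WC D x w η) (F : D.Fam x) : Comp w η F.a (F.b.val w η hW.hη) := by
  intro T' l v' h1 h2
  obtain ⟨h3, h4⟩ := h1
  have h5 : D.f.hom.app (op T') (D.jV.hom.app _ (D.pV.hom.app _ v')) = D.X.obj.map (l ≫ w).op x := by
    rw [h2, naturality, hW.hη, map_comp]
  obtain ⟨v'', e1, e2, e3⟩ := F.comp (l ≫ w) (D.pV.hom.app _ v') h3 h5
  have e4 : v'' = v' := K642.Glue.pb_ext D.hU' (e2.trans h4.symm) e1
  rw [← e4, e3]
  exact F.b.nat' l w η hW.hη rfl h2 _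

end

end Dat

end K648.FGSheaf
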