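import Groth.Agent.AlgSp.K648.Push2

/-!
# Finiteness of the weakly associated points of a coherent module in a quasi-compact open subset
-/

set_option autoImplicit false
set_option backward.isDefEq.respectTransparency false

universe u

open CategoryTheory CategoryTheory.Limits AlgebraicGeometry Opposite AlgSp

namespace K648.Fin

open K648.Basic K648.Push K648.Chart K648.Noeth K648.Push2 Groth.Agent.Etbase.FFExact

variable {S : Scheme.{u}} {X : Sp S}

/-- sections over affine objects are finite modules -/
def IsFinSec (M : ModEt X) : Prop :=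
  ∀ E : EtOver X, IsAffine E.obj.left.left → Module.Finite (Γe E) (Sec M E)

theorem finite_weakAss_chart (hN : IsLocNoethSp X) {M : ModEt X} (hfin : IsFinSec M) (E : EtOver X)
    (hE : IsAffine E.obj.left.left) : {u : E.obj.left.left | IsWeakAssOn M E u}.Finite := by
  have := isNoetherianRing_of_chart hN E
  have := hfin E hE
  have h1 : (associatedPrimes (Γe E) (Sec M E)).Finite := associatedPrimes.finite _ _
  refine Set.Finite.of_finite_image (f := primeAtPt E.obj.left.left) (h1.subset ?_)
    (primeAtPt_injective _).injOn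
  rintro _ ⟨u, hu, rfl⟩
  exact weakAss_subset_associatedPrimes ((isWeakAssOn_iff _ _ _).1 hu)

theorem finite_weakAssEt_inter (hX : IsAlgSpace X) (hN : IsLocNoethSp X) {M : ModEt X} (hM : IsCart M)
    (hfin : IsFinSec M) (W : Set (Points X)) (hWc : IsCompact W) :
    (WeakAssEt M ∩ W).Finite := by
  choose E hE u hu using fun x => exists_affine_chart hX x
  obtain ⟨t, ht⟩ := hWc.elim_finite_subcover (fun x => Set.range (Points.ofPt (E x).obj.hom))
    (fun x => (K609.Points.isOpenMap_ofPt (E x).property).isOpen_range)
    (fun x _ => Set.mem_iUnion.2 ⟨x, u x, hu x⟩)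
  have h2 : (⋃ x ∈ t, Points.ofPt (E x).obj.hom ''
      {v : (E x).obj.left.left | @IsWeakAssOn S X M (E x) (hE x) v}).Finite := by
    refine Set.Finite.biUnion t.finite_toSet fun x _ => ?_
    exact (finite_weakAss_chart hN hfin (E x) (hE x)).image _
  refine h2.subset ?_
  rintro y ⟨hy, hyW⟩
  obtain ⟨x, hxt, v, rfl⟩ : ∃ x ∈ t, y ∈ Set.range (Points.ofPt (E x).obj.hom) := by
    simpa using ht hyW
  rw [mem_weakAssEt_iff hX hM] at hy
  have := hE x
  exact Set.mem_biUnion hxt ⟨v, hy (E x) v rfl, rfl⟩

end K648.Fin
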