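import Groth.Agent.AlgSp.K648.Basic
import Groth.Agent.AlgSp.K609.Points
import Mathlib.RingTheory.Ideal.MinimalPrime.Localization

/-!
# Direct images of modules on affine charts, and weakly associated points

For `f : X ⟶ Y` representable and affine, sections of `f_* M` over an affine chart `E` of `Y` are the sections of `M`
over the affine chart `E ×_Y X` of `X`.
-/

set_option autoImplicit false
set_option backward.isDefEq.respectTransparency false

universe u

open CategoryTheory CategoryTheory.Limits AlgebraicGeometry Opposite AlgSp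

namespace K648.Push

open K648.Basic

variable {S : Scheme.{u}} {X Y : Sp S} {f : X ⟶ Y}

/-- two schemes representing the same fibre product are isomorphic over the base -/
noncomputable def isoOfIsPullback {Z W W' : Over S} {g : (yon S).obj Z ⟶ Y} {i : W ⟶ Z} {i' : W' ⟶ Z}
    {fst : (yon S).obj W ⟶ X} {fst' : (yon S).obj W' ⟶ X}
    (h : IsPullback fst ((yon S).map i) f g) (h' : IsPullback fst' ((yon S).map i') f g) : W ≅ W' :=
  (yon S).preimageIso (h.isoIsPullback _ _ h')

theorem isoOfIsPullback_hom_comp {Z W W' : Over S} {g : (yon S).obj Z ⟶ Y} {i : W ⟶ Z} {i' : W' ⟶ Z}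
    {fst : (yon S).obj W ⟶ X} {fst' : (yon S).obj W' ⟶ X}
    (h : IsPullback fst ((yon S).map i) f g) (h' : IsPullback fst' ((yon S).map i') f g) :
    (isoOfIsPullback h h').hom ≫ i' = i := by
  apply (yon S).map_injective
  rw [Functor.map_comp]
  unfold isoOfIsPullback
  rw [Functor.preimageIso_hom, Functor.map_preimage, IsPullback.isoIsPullback_hom_snd]

theorem isAffine_bc (hf : Representable f) (haff : IsAffineMor f) (E : EtOver Y)
    (hE : IsAffine E.obj.left.left) : IsAffine ((EtOver.bc hf).obj E).obj.left.left := by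
  obtain ⟨W, i, fst, sq, hW⟩ := haff hE E.obj.hom
  have e := isoOfIsPullback (hf.isPullback E.obj.hom) sq
  have : IsAffine ((Over.forget S).obj W) := hW
  exact IsAffine.of_isIso ((Over.forget S).map e.hom)

theorem isFinite_bcπ (hf : Representable f) (hfin : IsFiniteMor f) (E : EtOver Y)
    (hE : IsAffine E.obj.left.left) : IsFinite (EtOver.bcπ hf E).left := by
  obtain ⟨W, i, fst, sq, hW, hi⟩ := hfin hE E.obj.hom
  have e := isoOfIsPullback_hom_comp (hf.isPullback E.obj.hom) sq
  have : (EtOver.bcπ hf E).left = (isoOfIsPullback (hf.isPullback E.obj.hom) sq).hom.left ≫ i.left := by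
    rw [← Over.comp_left, e]
  rw [this]
  infer_instance

theorem isAffineMor_of_isFiniteMor (h : IsFiniteMor f) : IsAffineMor f := fun Z hZ g => by
  obtain ⟨W, i, fst, sq, hW, hi⟩ := h hZ g
  exact ⟨W, i, fst, sq, hW⟩

/-- Sections of `f_* M` over `E` are sections of `M` over the base change of `E`. -/
noncomputable def pushSec (hf : Representable f) (M : ModEt X) (E : EtOver Y) :
    Sec ((pushModEt hf).obj M) E ≃+ Sec M ((EtOver.bc hf).obj E) := AddEquiv.refl _

/-- pullback of functions to the base change -/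
noncomputable abbrev bcΓ (hf : Representable f) (E : EtOver Y) : Γe E →+* Γe ((EtOver.bc hf).obj E) :=
  (EtOver.bcπ hf E).left.appTop.hom

theorem pushSec_smul (hf : Representable f) (M : ModEt X) (E : EtOver Y) (a : Γe E)
    (s : Sec ((pushModEt hf).obj M) E) :
    pushSec hf M E (a • s) = bcΓ hf E a • pushSec hf M E s := rfl

/-- The prime of the image of a point. -/
theorem comap_primeAtPt {U V : Scheme.{u}} (g : U ⟶ V) (x : U) :
    (primeAtPt U x).comap g.appTop.hom = primeAtPt V (g x) := by
  unfold primeAtPt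
  have h : (V.presheaf.germ ⊤ (g x) trivial) ≫ g.stalkMap x = g.appTop ≫ U.presheaf.germ ⊤ x trivial :=
    Scheme.Hom.germ_stalkMap g ⊤ x trivial
  rw [Ideal.comap_comap, ← CommRingCat.hom_comp, ← h, CommRingCat.hom_comp, ← Ideal.comap_comap]
  congr 1
  exact ((IsLocalRing.local_hom_TFAE (g.stalkMap x).hom).out 0 4 :).1 inferInstance

theorem asIdeal_toSpecΓ (U : Scheme.{u}) (u : U) : (U.toSpecΓ u).asIdeal = primeAtPt U u := rfl

theorem primeAtPt_injective (U : Scheme.{u}) [IsAffine U] : Function.Injective (primeAtPt U) := by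
  intro u v h
  have h' : U.toSpecΓ u = U.toSpecΓ v := PrimeSpectrum.ext h
  have : Function.Injective U.toSpecΓ := U.isoSpec.hom.homeomorph.injective
  exact this h'

theorem exists_primeAtPt_eq (U : Scheme.{u}) [IsAffine U] (q : Ideal Γ(U, ⊤)) [q.IsPrime] :
    ∃ u : U, primeAtPt U u = q := by
  have : Function.Surjective U.toSpecΓ := U.isoSpec.hom.homeomorph.surjective
  obtain ⟨u, hu⟩ := this (⟨q, inferInstance⟩ : PrimeSpectrum Γ(U, ⊤))
  refine ⟨u, ?_⟩
  rw [← asIdeal_toSpecΓ, hu]

/-- For a ring map `φ : A → B` and a `B`-module `N`, every prime of `A` weakly associated to `N` is the inverse image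
of a weakly associated prime of `B`. -/
theorem exists_comap_mem_weakAss {A B : Type*} [CommRing A] [CommRing B] (φ : A →+* B) {N N' : Type*}
    [AddCommGroup N] [Module B N] [AddCommGroup N'] [Module A N'] (e : N' ≃+ N)
    (he : ∀ (a : A) (n : N'), e (a • n) = φ a • e n) {p : Ideal A} (hp : p ∈ FlatCA.weakAss A N') :
    ∃ q : Ideal B, q ∈ FlatCA.weakAss B N ∧ q.comap φ = p := by
  obtain ⟨m, hm⟩ := hp
  have h : (Submodule.span A {m}).annihilator = (Submodule.span B {e m}).annihilator.comap φ := by
    ext a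
    rw [Submodule.mem_annihilator_span_singleton, Ideal.mem_comap,
      Submodule.mem_annihilator_span_singleton, ← he, EmbeddingLike.map_eq_zero_iff]
  rw [h] at hm
  obtain ⟨q, hq, hqp⟩ := Ideal.exists_minimalPrimes_comap_eq φ p hm
  exact ⟨q, ⟨e m, hq⟩, hqp⟩

/-- Weakly associated points of the direct image along an affine morphism are images of weakly associated points. -/
theorem weakAssEt_push_subset (hf : Representable f) (haff : IsAffineMor f) (M : ModEt X) :
    WeakAssEt ((pushModEt hf).obj M) ⊆ Points.map f '' WeakAssEt M := by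
  rintro x ⟨E, hE, u, rfl, h⟩
  rw [isWeakAssOn_iff] at h
  have hbE := isAffine_bc hf haff E hE
  obtain ⟨q, hq, hqp⟩ := exists_comap_mem_weakAss (bcΓ hf E) (pushSec hf M E) (pushSec_smul hf M E) h
  have := Groth.Agent.Flat2B.WeakAss.isPrime_of_mem_weakAss hq
  obtain ⟨w, rfl⟩ := exists_primeAtPt_eq ((EtOver.bc hf).obj E).obj.left.left q
  have hw : (EtOver.bcπ hf E).left w = u := by
    apply primeAtPt_injective
    rw [← hqp]
    exact (comap_primeAtPt _ _).symm
  refine ⟨Points.ofPt ((EtOver.bc hf).obj E).obj.hom w, ⟨_, hbE, w, rfl, (isWeakAssOn_iff _ _ _).2 hq⟩, ?_⟩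
  have e1 : ((EtOver.bc hf).obj E).obj.hom ≫ f = (yon S).map (EtOver.bcπ hf E) ≫ E.obj.hom :=
    (EtOver.isPullback_bcObj hf E).w
  rw [Points.map_ofPt, e1, K609.Points.ofPt_yon_map_comp]
  exact congrArg (Points.ofPt E.obj.hom) hw

end K648.Push
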