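import Groth.Agent.AlgSp.K644.ChartFin
import Groth.Agent.AlgSp.K648.Fin

/-!
# Quasi-coherent modules are cartesian on affine objects (K648 form)
-/

set_option autoImplicit false
set_option backward.isDefEq.respectTransparency false

universe u

open CategoryTheory CategoryTheory.Limits AlgebraicGeometry Opposite AlgSp

namespace K648.QC

open K648.Basic K648.Push K648.Chart K648.Fin Groth.Agent.Etbase.FFExact

variable {S : Scheme.{u}} {X : Sp S}

theorem isCart (M : ModEt X) [M.IsQuasicoherent] : IsCart M :=
  fun _ _ g hE hE' => K644.Chart.isBC_of_isQuasicoherent M g hE hE'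

theorem isFinSec (M : ModEt X) [M.IsQuasicoherent] [M.IsFiniteType] : IsFinSec M :=
  fun _ hE => K644.ChartFin.finite_sec M hE

end K648.QC
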